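import Cfsg.Agent.BN.BbH
import Cfsg.Agent.KG.OutCl
import Cfsg.Agent.KG.OutLie

/-! Primes dividing every kernel of a cyclic quotient. -/

set_option autoImplicit false

namespace CF.BN.Ba

open Cfsg CF.KG Subgroup Function

variable {G X Y Y' Z A : Type*} [Group G] [Group X] [Group Y] [Group Y'] [Group Z] [Group A]
  {p s n : ℕ}

/-- `p` divides the order of each normal subgroup with cyclic quotient. -/
def Ch (p : ℕ) (X : Type*) [Group X] : Prop :=
  ∀ N : Subgroup X, ∀ _ : N.Normal, IsCyclic (X ⧸ N) → p ∣ Nat.card N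

theorem exists_ch [Finite X] (h : ¬ IsCyclic X) : ∃ p : ℕ, p.Prime ∧ Ch p X := by
  by_contra! H
  simp only [Ch, not_forall] at H
  choose N a b c using H
  have h1 : ∀ x y : X, x * y = y * x := fun x y => by
    refine commutatorElement_eq_one_iff_mul_comm.1 (orderOf_eq_one_iff.1
      (Nat.eq_one_iff_not_exists_prime_dvd.2 fun p hp e => c p hp (e.trans (orderOf_dvd_natCard _ ?_))))
    have := a p hp
    have := b p hp
    rw [← QuotientGroup.eq_one_iff, ← QuotientGroup.mk'_apply, map_commutatorElement]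
    exact commutatorElement_eq_one_iff_mul_comm.2 (mul_comm' ..)
  let : CommGroup X := { mul_comm := h1 }
  have : IsZGroup X := ⟨fun p hp P => by
    have := a p hp
    have := b p hp
    have := Fact.mk hp
    refine isCyclic_of_injective ((QuotientGroup.mk' (N p hp)).comp P.1.subtype)
      ((injective_iff_map_eq_one _).2 fun x e => by_contra fun d => c p hp ?_)
    obtain ⟨j, hj⟩ := P.2 x
    exact (dvd_orderOf hj d).trans (orderOf_coe x ▸ orderOf_dvd_natCard _
      ((QuotientGroup.eq_one_iff _).1 e))⟩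
  exact h inferInstance

theorem Ch.ker [Finite X] [Fact p.Prime] (H : Ch p X) [IsCyclic A] {j : Z →* X} (hj : Surjective j)
    (ψ : Z →* A) : ∃ z, ψ z = 1 ∧ orderOf (j z) = p := by
  have h1 := (inferInstance : ψ.ker.Normal).map j hj
  have := isCyclic_of_injective _ (QuotientGroup.kerLift_injective ψ)
  obtain ⟨⟨_, z, h2, rfl⟩, e⟩ := exists_prime_orderOf_dvd_card' p (H _ h1 (isCyclic_of_surjective _
    (QuotientGroup.map_surjective_of_surjective (N := ψ.ker) _ j
      ((QuotientGroup.mk'_surjective _).comp hj) (le_comap_map _ _))))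
  exact ⟨z, h2, (orderOf_coe _).trans e⟩

theorem Ch.dvd (H : Ch p X) : p ∣ Nat.card X := by
  simpa using H ⊤ inferInstance (have := QuotientGroup.subsingleton_quotient_top (G := X)
    inferInstance)

theorem Ch.frat [Finite G] [Fact p.Prime] [Fact s.Prime] {H : Subgroup G} [H.Normal]
    (h : Ch p (G ⧸ H)) (hs : s ≠ 2) (P : Sylow s H) (h1 : IsCyclic P) (h2 : s ∣ Nat.card H) :
    Adj p s (⊤ : Subgroup G) := by
  have e := (P.1.equivMapOfInjective _ H.subtype_injective)
  have h3 := isCyclic_of_surjective _ e.surjective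
  obtain ⟨k, hk⟩ := P.2.exists_card_eq
  have h6 := P.normalizer_sup_eq_top
  obtain ⟨x, hx⟩ := exists_prime_orderOf_dvd_card' s (P.dvd_card_of_dvd_card h2)
  rw [← e.orderOf_eq, ← orderOf_coe] at hx
  rw [Nat.card_congr e.toEquiv] at hk
  generalize P.1.map H.subtype = Q at *
  have : IsCyclic (MulAut Q) := by
    have : IsCyclic (ZMod (Nat.card Q))ˣ := hk ▸ ZMod.isCyclic_units_of_prime_pow s Fact.out hs k
    exact isCyclic_of_surjective _ (IsCyclic.mulAutMulEquiv Q).symm.surjective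
  obtain ⟨z, h4, h5⟩ := h.ker (j := (QuotientGroup.mk' H).comp (normalizer (Q : Set G)).subtype) (by
    rw [← MonoidHom.range_eq_top, MonoidHom.range_comp, range_subtype, ← (comap_injective
      (QuotientGroup.mk'_surjective H)).eq_iff, comap_map_eq, QuotientGroup.ker_mk', h6, comap_top])
    Q.normalizerMonoidHom
  rw [← MonoidHom.mem_ker, normalizerMonoidHom_ker] at h4
  exact ⟨z, trivial, e x, trivial, (h4 _ (e x).2).symm, h5.symm.dvd.trans
    (orderOf_map_dvd (QuotientGroup.mk' H) z.1),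
    hx.symm.dvd⟩

theorem Ch.ncyc [Finite X] (h : Ch 2 X) (P : Sylow 2 X) : ¬ IsCyclic P := fun a => by
  have h1 := a.normalizer_le_centralizer ((Nat.minFac_eq_two_iff _).2 h.dvd)
  obtain ⟨z, h2, h3⟩ := h.ker (j := .id X) surjective_id (MonoidHom.transferSylow P h1)
  exact MonoidHom.not_dvd_card_ker_transferSylow P h1 (h3.symm.dvd.trans (orderOf_dvd_natCard _ h2))

variable (p) in
/-- An almost simple group together with the chosen prime. -/
structure Cf (θ : G →* MulAut Y) (H : Subgroup G) [H.Normal] : Prop where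
  inj : Injective θ
  le : Inn Y ≤ θ.range
  iff : ∀ g, g ∈ H ↔ θ g ∈ Inn Y
  ch : Ch p (G ⧸ H)

variable (p) in
/-- The prime is adjacent to all others. -/
def Res (E : Subgroup (MulAut Y)) : Prop :=
  p ∣ Nat.card Y ∧ ∀ (s : ℕ) [Fact s.Prime], s ≠ p → s ∣ Nat.card E → Adj p s E

variable {θ : G →* MulAut Y} {H : Subgroup G} [H.Normal]

theorem Cf.equiv (h : Cf p θ H) (e : Y ≃* Y')
    (R : Cf p ((MulAut.congr e).toMonoidHom.comp θ) H →
      Res p ((MulAut.congr e).toMonoidHom.comp θ).range) : Res p θ.range := by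
  have h1 : ∀ y, MulAut.congr e (MulAut.conj y) = MulAut.conj (e y) := fun y =>
    MulEquiv.ext fun x => by simp
  obtain ⟨a, b⟩ := R ⟨(MulAut.congr e).injective.comp h.inj, by
    rintro _ ⟨y, rfl⟩
    obtain ⟨g, hg⟩ := h.le ⟨e.symm y, rfl⟩
    exact ⟨g, by simp [hg, h1, -MulAut.congr_apply]⟩, fun g => (h.iff g).trans ⟨fun ⟨y, a⟩ =>
      ⟨e y, by simp [← a, h1, -MulAut.congr_apply]⟩, fun ⟨y, a⟩ => ⟨e.symm y,
        (MulAut.congr e).injective (by simpa [h1, -MulAut.congr_apply] using a)⟩⟩, h.ch⟩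
  rw [MonoidHom.range_comp] at b
  refine ⟨Nat.card_congr e.toEquiv ▸ a, fun s _ c d => .of_comap (MulAut.congr e).symm.injective
    (f := (MulAut.congr e).symm.toMonoidHom) ?_⟩
  rw [← map_equiv_eq_comap_symm']
  exact b s c (by rwa [card_map_of_injective (MulAut.congr e).injective])

variable [Finite G] [Fact p.Prime] (h : Cf p θ H)
include h

omit [Finite G] in
theorem Cf.ord {g : G} (e : orderOf (g : G ⧸ H) = p) : orderOf (θ g : Out Y) = p :=
  orderOf_eq_prime (by
    rw [← QuotientGroup.mk_pow, QuotientGroup.eq_one_iff, ← map_pow, ← h.iff,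
      ← QuotientGroup.eq_one_iff, QuotientGroup.mk_pow, ← e, pow_orderOf_eq_one]) fun a =>
    (Fact.out : p.Prime).ne_one (by rwa [(QuotientGroup.eq_one_iff _).2 ((h.iff g).2
      ((QuotientGroup.eq_one_iff _).1 a)), orderOf_one, eq_comm] at e)

theorem Cf.elt : ∃ α ∈ θ.range, α ∉ Inn Y ∧ ∃ b, α ^ p ^ b = 1 := by
  obtain ⟨g, -, e⟩ := h.ch.ker (QuotientGroup.mk'_surjective H) (1 : G →* Unit)
  obtain ⟨b, m, h1, h2⟩ := exists_part (isOfFinOrder_of_finite g) p
  exact ⟨θ (g ^ m), ⟨_, rfl⟩, fun a => (Fact.out : p.Prime).coprime_iff_not_dvd.1 h1 (e ▸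
    orderOf_dvd_of_pow_eq_one ((QuotientGroup.eq_one_iff (g ^ m)).2 ((h.iff _).2 a))), b, by
      rw [← map_pow, ← pow_mul, h2, map_one]⟩

theorem Cf.shape [Finite Y] (S : Shape (Out Y) n) : p = 2 ∨ p ∣ n := by
  obtain ⟨N, C, S⟩ := S
  have := S.nrm
  have := S.cyc
  have := Normal.quotient_commutative_iff_commutator_le.2 S.der
  let : CommGroup (Out Y ⧸ N) := { mul_comm := this.1.1 }
  have := isCyclic_of_surjective _ ((QuotientGroup.mk' N).subgroupMap_surjective C)
  have hn : (N ⊔ C).Normal := Normal.of_commutator_le _ (S.der.trans le_sup_left)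
  obtain ⟨g, a, e⟩ := h.ch.ker (QuotientGroup.mk'_surjective H) ((((powMonoidHom 2).comp
    (QuotientGroup.mk' N)).codRestrict (C.map (QuotientGroup.mk' N)) fun x => by
      obtain ⟨c, hc⟩ := S.idx
      have := mem_map_of_mem (QuotientGroup.mk' N) (pow_mem (pow_index_mem (N ⊔ C) x) c)
      rwa [← pow_mul, ← hc, Subgroup.map_sup, (map_eq_bot_iff N).2 (by simp), bot_sup_eq] at this).comp
        ((QuotientGroup.mk' _).comp θ))
  refine or_iff_not_imp_left.2 fun b => S.pr p Fact.out b ((h.ord e).symm.dvd.trans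
    (orderOf_dvd_natCard N (mem_of_cop (cop2 b) ?_ ((QuotientGroup.eq_one_iff _).1
      (congrArg Subtype.val a)))))
  rw [← h.ord e, pow_orderOf_eq_one]
  exact one_mem _

theorem Cf.frat [Fact s.Prime] (hs : s ≠ 2) (hY : Injective (MulAut.conj (G := Y)))
    (h1 : ∀ P : Subgroup Y, IsPGroup s P → IsCyclic P) (h2 : s ∣ Nat.card Y) : Adj p s θ.range := by
  have e : H ≃* Y := ((H.equivMapOfInjective θ h.inj).trans (.subgroupCongr (le_antisymm
    (fun _ ⟨g, a, b⟩ => b ▸ (h.iff g).1 a) fun α a => (h.le a).imp fun g (b : θ g = α) =>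
      ⟨(h.iff g).2 (b ▸ a), b⟩))).trans (MonoidHom.ofInjective hY).symm
  obtain ⟨P⟩ : Nonempty (Sylow s H) := inferInstance
  have := h1 _ (P.2.map e.toMonoidHom)
  exact .of_comap h.inj (θ.comap_range_self ▸ h.ch.frat hs P (isCyclic_of_surjective _
    (P.1.equivMapOfInjective e.toMonoidHom e.injective).symm.surjective) (Nat.card_congr e.toEquiv ▸ h2))

omit h [Fact p.Prime] in
theorem Cf.fld [Finite Y] (h : Cf 2 θ H) (hY : Injective (MulAut.conj (G := Y))) (Φ : A →* MulAut Y)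
    (h1 : ∀ σ, Φ σ ∈ Inn Y → σ = 1) {m : ℕ} (hm : Odd m) (h2 : Nat.card (Out Y) = 2 * m * Nat.card A)
    {y : Y} (h3 : ∀ σ, Φ σ y = y) (h4 : s ∣ orderOf y) : Adj 2 s θ.range := by
  have : Finite (MulAut Y) := .of_injective _ DFunLike.coe_injective
  let f := (QuotientGroup.mk' (Inn Y)).comp Φ
  have h5 : Injective f := (injective_iff_map_eq_one _).2 fun σ e =>
    h1 σ ((QuotientGroup.eq_one_iff _).1 e)
  let j : G ⧸ H →* Out Y := QuotientGroup.map H _ θ fun g => (h.iff g).1
  have h6 : Injective j := (injective_iff_map_eq_one _).2 (QuotientGroup.mk_surjective.forall.2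
    fun g e => (QuotientGroup.eq_one_iff _).2 ((h.iff g).2 ((QuotientGroup.eq_one_iff _).1 e)))
  obtain ⟨P⟩ : Nonempty (Sylow 2 (G ⧸ H)) := inferInstance
  by_contra a
  refine h.ch.ncyc P (isCyclic_of_card_dvd_prime (p := 2) ?_)
  obtain ⟨k, hk⟩ := P.2.exists_card_eq
  rw [← f.range.index_mul_card, ← Nat.card_congr (MonoidHom.ofInjective h5).toEquiv,
    Nat.mul_left_inj (Nat.card_pos_iff.2 ⟨⟨1⟩, .of_injective _ h5⟩).ne'] at h2
  refine hk ▸ ((Nat.coprime_two_left.2 hm).pow_left k).dvd_of_dvd_mul_right (hk ▸ h2 ▸ ?_)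
  rw [← card_map_of_injective h6, index, Nat.card_congr (MulAction.selfEquivOrbitsQuotientProd
    (G := P.1.map j) (QuotientGroup.mk_surjective.forall.2 (QuotientGroup.mk_surjective.forall.2
      fun β => eq_bot_iff.2 ?_))), Nat.card_prod]
  · exact dvd_mul_left ..
  rintro ⟨_, g, hg, rfl⟩ e
  obtain ⟨g, rfl⟩ := QuotientGroup.mk_surjective g
  obtain ⟨σ, e⟩ := QuotientGroup.eq.1 (MulAction.mem_stabilizer_iff.1 e).symm
  have h7 : ((β * Φ σ * β⁻¹ : MulAut Y) : Out Y) = θ g := by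
    simp only [QuotientGroup.mk_mul, QuotientGroup.mk_inv]
    exact (congrArg ((β : Out Y) * · * (β : Out Y)⁻¹) e).trans (by simp [mul_assoc]; rfl)
  obtain ⟨b, hb⟩ := (P.2.map j) ⟨_, _, hg, rfl⟩
  refine by_contra fun c => a ⟨β * Φ σ * β⁻¹, ?_, _, h.le ⟨β y, rfl⟩, MulEquiv.ext fun x => by
    simp [h3], (dvd_orderOf hb c).trans ?_, by rwa [orderOf_injective _ hY, β.orderOf_eq]⟩
  · simpa using mul_mem (⟨g, rfl⟩ : θ g ∈ θ.range) (h.le (QuotientGroup.eq.1 h7.symm))
  · exact ((orderOf_coe _).symm.trans (congrArg _ h7.symm)).dvd.trans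
      (orderOf_map_dvd (QuotientGroup.mk' _) _)

end CF.BN.Ba
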