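import Cfsg.Agent.BN.BcA

/-! A prime adjacent to all others: the models. -/

set_option autoImplicit false

namespace CF.BN.Ba

open Cfsg CF.Chev CF.BN CF.KB CF.KI CF.Loc CF.Sig

variable {B ι : Type} [Fintype B] [DecidableEq B] [Fintype ι] [DecidableEq ι] {C : ChevBasis B ι}
  {K : Type} [Field K] {G Y : Type*} [Group G] [Group Y] {ρ : StRep C K G}
  {π v w : Equiv.Perm ι} {e : ι → ℕ} {g : G} {r p q f N M : ℕ} {c : B → Kˣ}
  {F σ : MulAut G} {X : Subgroup G} {τ : Equiv.Perm B} {ε : B → ℕ} {κ : Y →* G}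
  {E : Subgroup (MulAut Y)} {Tr : Prop}

variable (C p) in
/-- A twist of the diagram symmetry centralizes an element of order `p` of the Weyl group. -/
def Vr (τ : Equiv.Perm B) : Prop := ∀ π ∈ C.Aut, (∀ i, π (C.simple i) = C.simple (τ i)) →
  ∃ w ∈ C.W, ∃ v ∈ C.W, orderOf v = p ∧ Commute (w * π) v

theorem modEq_three (hr : r.Prime) (h : 3 ≠ r) (f : ℕ) : r ^ (2 * f) ≡ 1 [MOD 3] := by
  simpa [pow_mul, Nat.totient_prime Nat.prime_three] using (Nat.ModEq.pow_totient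
    ((Nat.coprime_primes hr Nat.prime_three).2 h.symm)).pow f

variable [Fact r.Prime] [CharP K r] [IsAlgClosed K] {h : ρ.IsAdj} (hK : Big K (2 * Fintype.card ι))
  [Nonempty B] [Fact p.Prime]
include hK

theorem FV.adj2 (D : FV r h F π e) (h3 : T3 C) (hX : Sb r F X) (h1 : F (h.r3.tor c) = h.r3.tor c)
    (h2 : h.r3.tor c ∈ X) (h4 : h.r3.tor c ≠ 1) (hq : q ∣ orderOf (h.r3.tor c))
    (H : p = r ∨ p = 2 ∨ r ^ (2 * f) ≡ 1 [MOD p]) (a1 : π ∈ C.Aut) (a2 : ∀ s, e s = f)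
    (h5 : (Ps C c).Nonempty) : Adj p q X := by
  by_cases h6 : p = r ∨ p = 2
  · exact D.adj' hK le_rfl h3 hX h1 h2 h4 hq (.inl ⟨h6.imp_right .inl, h5⟩)
  obtain ⟨i, hi⟩ := not_forall.1 (mt (tor_eq_one' h) h4)
  obtain ⟨F', w, hw, y, hy, D', hS, hR⟩ := D.normal hK (card_le le_rfl C) (S := Ps C c)
    (c := fun _ : Unit => c) (by simp) (h3.ne hi) (one_mem _) fun _ => by simpa
  rw [one_mul] at hR
  have _ := D'.finGn hK (card_le le_rfl C) hS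
  obtain ⟨⟨x, hx⟩, e⟩ := exists_prime_orderOf_dvd_card' p (D'.lemS hK (card_le le_rfl C)
    (not_or.1 h6).2 (not_or.1 h6).1 hS h5 (mul_mem (C.W_le_Aut hw) a1) a2
    ((or_assoc.2 H).resolve_left h6))
  have := (Subgroup.closure_le (_ ⊓ ρ.U _)).2 (fun g a => And.intro ((hX.rel hR).unip g a.2.1 a.2.2)
    a.1) hx
  exact .of_comap (MulAut.conj y).injective ⟨x, this.1, _, by
    simpa [(commute_C0 h.r3 hy).eq], commute_tor_U h.r3 this.2, by simp [← e], hq⟩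

section

variable (S : St r h κ F τ fun _ => f)
include S

omit [Fact p.Prime] in
theorem St.tw2 (hC : C.Conn) (hτ : τ ∈ C.Sym) : ∃ (T : Tw ρ) (e : ι → ℕ), T.p = τ ∧
    FV r h F T.π e ∧ TG T r ∧ (∀ s, e s = f) ∧ T.π ∈ C.Aut ∧ Sb r F κ.range := by
  obtain ⟨T, e, hT, rfl, D, M, he, hG, -⟩ := S.exists_tw hK le_rfl
  exact ⟨T, e, rfl, D, M, he f fun _ => rfl, mem_Aut_of_sym hC hτ fun s i => by
    simpa [Tw.S] using compat_one (S := T.S) hτ s i, S.unip,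
    fun g hg => hG (M.cm_le (fix_eq hT ▸ hg))⟩

theorem St.tr [Fact q.Prime] (hC : C.Conn) (h3 : T3 C) (hτ : τ ∈ C.Sym) (hqr : q ≠ r)
    (H : p = r ∨ p = 2 ∨ r ^ (2 * f) ≡ 1 [MOD p]) (A : Adj r q κ.range) : Adj p q κ.range := by
  obtain ⟨T, e, rfl, D, M, a2, a1, hX⟩ := S.tw2 hK hC hτ
  obtain ⟨_, ⟨x, rfl⟩, _, ⟨y, rfl⟩, b1, b2, b3⟩ := A
  have b4 := orderOf_pow_orderOf_div (D.fin (S.fix x)).orderOf_pos.ne' b2
  have b5 := orderOf_pow_orderOf_div (D.fin (S.fix y)).orderOf_pos.ne' b3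
  have b6 := b1.pow_pow (orderOf (κ x) / r) (orderOf (κ y) / q)
  rw [← map_pow κ y] at b5 b6
  generalize y ^ _ = y, κ x ^ _ = u at b4 b5 b6
  have b7 : κ y ≠ 1 := fun e => (Fact.out : q.Prime).ne_one (by simp [← b5, e])
  obtain ⟨F', w, hw, c, z, D', -, c1, c2, hR⟩ := D.nf hK le_rfl hqr h3 (S.fix y)
    (b5 ▸ pow_orderOf_eq_one _) b7
  refine .of_comap (MulAut.conj z).injective (D'.adj2 hK h3 (hX.rel hR) (by
    simpa [c2, mul_assoc] using fix_conj hR (S.fix y)) ⟨y, c2⟩ (by simpa [c2] using b7)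
    (b5.symm.trans (c2 ▸ (MulAut.conj z).orderOf_eq _)).dvd H
    (mul_mem (C.W_le_Aut hw) a1) a2 (Set.nonempty_iff_ne_empty.2 fun c3 => ?_))
  have c4 := pow_mem_C0 h (g := z⁻¹ * u * z) (Fact.out : q.Prime).pos c1 (by
    simpa [c2, mul_assoc, -Commute.conj_iff] using b6.map (MulAut.conj z⁻¹))
  have c5 : (z⁻¹ * u * z) ^ r = 1 := by simp [cj_pow, ← b4]
  refine (Fact.out : r.Prime).ne_one (b4 ▸ orderOf_eq_one_iff.2 ?_)
  simpa [mul_assoc, inv_mul_eq_one] using KG.eq_one_of_pow ((Nat.coprime_primes Fact.out Fact.out).2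
    hqr) (M.tor _ (by simpa [C0, c3] using c4) 1 (by rw [pow_one, pow_right_comm, c5, one_pow])) c5

omit [Fact p.Prime] in
theorem St.hi [Fact q.Prime] (h3 : T3 C) (hq2 : q ≠ 2) (h1 : κ.range ≤ X) (h2 : X ≤ Fx F) (hg : g ∈ X)
    (h4 : g ∉ κ.range) {b : ℕ} (h5 : g ^ q ^ b = 1) {β : ι}
    (h6 : lg C.toRootSys Set.univ β = C.neg β) : Adj r q X := by
  obtain ⟨T, e, hT, rfl, D, M, -, hG, -⟩ := S.exists_tw hK le_rfl
  obtain ⟨l, a1, z, a2, rfl⟩ := M.dec (fix_eq hT ▸ h2 hg)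
  obtain ⟨n, a3, a4⟩ := M.form.toGen.exists_n0
  obtain ⟨c, rfl⟩ := h.r3.range_tor.ge a2.1
  have a5 : h.r3.tor c ∈ 𝐍(T.Gen) := M.norm_gen (by simp [show T.σ _ = _ from a2.2])
  have a6 : h.r3.tor (c * mp (Mw C (lg C.toRootSys Set.univ)) c) ∈ X := by
    have := (mul_mem_cancel_left (h1 (hG a1))).1 hg
    rw [map_mul, ← conj_tor h.r3 a4.acts]
    exact mul_mem this (mul_mem (mul_mem (h1 (hG a3)) this) (inv_mem (h1 (hG a3))))
  have a7 : q ∣ orderOf (h.r3.tor (c * mp (Mw C (lg C.toRootSys Set.univ)) c)) := by_contra fun d => by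
    refine h4 (hG (mul_mem a1 (mem_of_cop (((cop2 hq2).mul_right
      ((Fact.out : q.Prime).coprime_iff_not_dvd.2 d)).pow_left b) ?_ ?_)))
    · simpa [h5] using pow_mul_mem a1 a5 (q ^ b)
    · have := pow_mul_mem (mul_mem (conj_mem_of_mem_normalizer a5 a3) (conj_mem_of_mem_normalizer
        (pow_mem a5 2) (inv_mem a3))) (pow_mem a5 2) (orderOf (h.r3.tor (c * mp (Mw C
          (lg C.toRootSys Set.univ)) c)))
      rwa [show _ * h.r3.tor c ^ 2 = h.r3.tor (c * mp (Mw C (lg C.toRootSys Set.univ)) c) by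
        rw [map_mul, ← conj_tor h.r3 a4.acts]; group, pow_orderOf_eq_one, one_mul, inv_mem_iff,
        ← pow_mul] at this
  refine D.adj' hK le_rfl h3 ⟨fun g a b => h1 (S.unip g a b), fun g hg => h1 (hG (M.cm_le
    (fix_eq hT ▸ hg)))⟩ (h2 a6) a6 (fun e => (Fact.out : q.Prime).not_dvd_one (by simpa [e] using a7))
    a7 (.inl ⟨.inl rfl, β, ?_⟩)
  simpa [rv_mul, rv_neg, h6, eq_inv_iff_mul_eq_one] using (rv_Mw a4.mem_Aut c β).symm

theorem St.sig (hC : C.Conn) (hτ : τ ∈ C.Sym) (H : p = r ∨ p = 2 ∨ p = 3 ∨ Vr C p τ) {j f' : ℕ}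
    (a9 : SF ρ r σ (τ ^ j) fun _ => f') (b1 : σ ^ q = F) :
    ∃ y, σ (κ y) = κ y ∧ p ∣ orderOf y := by
  have hp := (Fact.out : p.Prime)
  obtain ⟨T, e, rfl, D, -, -, a1, -⟩ := S.tw2 hK hC hτ
  obtain ⟨N', M', c1, c2⟩ := S.isFr.2
  have c3 : IsFr h r σ := ⟨fun τ _ g => (a9.fa_eq h h a9 τ g).symm, q * N', M', c1, by
    rw [pow_mul, b1, c2]⟩
  obtain ⟨T', e'', c4, c5, D', M', c6, c7, -⟩ := exists_fv hK (card_le le_rfl C) (e := fun _ => f') a9 c3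
  suffices p ∣ Nat.card T'.Gen by
    have _ := M'.finG
    obtain ⟨⟨x, hx⟩, c8⟩ := exists_prime_orderOf_dvd_card' p this
    obtain ⟨y, rfl⟩ := gen_le M'.form M'.up (fun g hg => S.unip g (b1 ▸ pow_fix (mem_Fx.1
      (fix_eq c4 ▸ hg)) q)) hx
    exact ⟨y, mem_Fx.1 (fix_eq c4 ▸ M'.form.Gen_le hx), by simp [← c8, orderOf_injective κ S.inj]⟩
  by_cases c8 : p = r ∨ p = 2
  · exact M'.dvd c8
  obtain rfl | H := (or_assoc.2 H).resolve_left c8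
  · exact M'.dvd_of_unif (by decide) (not_or.1 c8).1 (C.simple (Classical.arbitrary B))
      (c5 ▸ pow_mem hτ j) (f := f') (fun s t => by rw [c6, (c7 s).choose_spec])
      (modEq_three Fact.out (not_or.1 c8).1 _)
  obtain ⟨w, d5, v, d6, d7, d8⟩ := H _ a1 T.π_simple
  have d9 := pow_mul_mem d5 (Subgroup.mem_normalizer_fintype fun v hv =>
    (D.mon.nW h.faithful (nW_wd hv)).mem_W) j
  rw [← π_ext T T' c5] at d9
  have e1 := nW_wd (ρ := ρ) d9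
  have e2 := nw_mem_Alg (h := h) (p := r) (wd C ((w * T.π) ^ j * T'.π⁻¹))
  obtain ⟨n, e3, e4⟩ := (D'.conj e1 e2).fixN hK le_rfl d6 (by simpa using d8.pow_left j)
  obtain ⟨y, e5⟩ := c3.lang hK (card_le le_rfl C) e2
  obtain ⟨i, m, e6, e7⟩ := exists_part ((D'.conj e1 e2).fin e4) p
  refine by_contra fun hd => hp.coprime_iff_not_dvd.1 e6 (d7 ▸ orderOf_dvd_of_pow_eq_one
    ((nW_pow e3 m).eq_one_of_mem_Bo h.faithful ?_))
  have key : ∀ i x, σ x = x → x ^ p ^ i = 1 → x = 1 := fun i => by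
    induction' i with i ih
    · simp +contextual
    · exact fun x a b => Subgroup.mem_bot.1 (h.center.le (M'.cent_of_not_dvd (not_or.1 c8).2 hd
        (by simp [c4, a]) (ih (x ^ p) (by rw [map_pow, a]) (by rwa [← pow_mul, ← pow_succ']) ▸
          one_mem _)))
  have := key i (y⁻¹ * n ^ m * y⁻¹⁻¹) (by
    simpa only [map_pow (_ * σ), e4] using rel_of_lang e5 (n ^ m)) (by
      rw [conj_pow, ← pow_mul, e7]; simp)
  exact conj_eq_one_iff.1 this ▸ one_mem _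

theorem St.ncyc [Finite Y] (hC : C.Conn) (h3 : T3 C) (hτ : τ ∈ C.Sym) (hp2 : p ≠ 2) (hpr : p ≠ r)
    (h1 : AbS p (Fx F)) (h2 : ¬ p ∣ N) (h4 : τ ^ N = 1) {P : Subgroup Y} (h5 : IsPGroup p P)
    (h6 : ¬ IsCyclic P) : Adj r p κ.range := by
  obtain ⟨T, e, rfl, D, -, -, -, hX⟩ := S.tw2 hK hC hτ
  obtain ⟨z, F', π', D', hR, a1⟩ := Gd.toral ⟨D, h1, N, h2, π_pow_eq_one T h4 ▸ one_mem _⟩ hK le_rfl h3
    hp2 hpr (h5.map κ) (by rintro _ ⟨y, -, rfl⟩; exact S.fix y)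
  choose c hc using fun a : P => h.r3.range_tor.ge (a1 _ ⟨a, a.2, rfl⟩)
  obtain ⟨a, a2, a3⟩ : ∃ a, rv C (c a) (C.simple (Classical.arbitrary B)) = 1 ∧ a ≠ 1 := by
    by_contra! a
    exact h6 (isCyclic_of_injective_ringHom ((Units.coeHom K).comp (.mk' (fun a => rv C (c a) _)
      fun a b => ((tor_eq_iff h (c' := c a * c b)).1 (by simp [hc, mul_assoc]) _).trans
        (rv_mul ..))) (Units.val_injective.comp ((injective_iff_map_eq_one _).2 a)))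
  have a4 : h.r3.tor (c a) ≠ 1 := by simpa [hc, mul_assoc, inv_mul_eq_one, map_eq_one_iff κ S.inj]
  obtain ⟨b, a5⟩ := isPGroup_iff_forall.1 h5 a a.2
  exact .of_comap (MulAut.conj z).injective (D'.adj' hK le_rfl h3 (hX.rel hR)
    (hc a ▸ fix_conj hR (S.fix _)) ⟨a, by simp [hc, mul_assoc]⟩ a4 (dvd_orderOf (b := b) (by
      simp [hc, cj_pow, ← map_pow, a5]) a4) (.inl ⟨.inl rfl, _, a2⟩))

omit [Fact p.Prime] in
theorem St.np [Fact q.Prime] (Y0 : Ty C τ (Un C τ fun _ => f)) (hq2 : q ≠ 2) (hqr : q ≠ r)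
    (H : ¬ P1 q F κ.range) : Adj r q κ.range ∨ q = 3 ∧ A2 C ∧ (¬ ∃ α s, C.A α s = 0) ∧
      (3 ∣ f → Adj r q κ.range) := by
  obtain ⟨T, e, rfl, D, hX, -, -, a7⟩ := S.dich hK le_rfl Y0
  obtain a | ⟨w, -, f', q', -, c1, -, c2, c3⟩ := a7 q Fact.out hq2
  · exact (H a.2).elim
  obtain rfl : f = f' := c1 (Classical.arbitrary B)
  obtain ⟨c3, c4⟩ := not_or.1 (mt c3 H)
  rw [not_not] at c4
  obtain c5 | c5 | ⟨rfl, c5⟩ := Y0.cen r q Fact.out Fact.out hq2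
  · exact (c3 (c5 K)).elim
  · exact .inl (c2.exA hK le_rfl hq2 hqr (.inl rfl) Y0.t3 hX c4 c5)
  refine (em _).imp (fun ⟨α, a⟩ => c2.exA hK le_rfl hq2 hqr (.inl rfl) Y0.t3 hX c4
    ⟨α, a, by omega⟩) fun a => ⟨rfl, c5, a, ?_⟩
  rintro ⟨f, rfl⟩
  refine c2.a2 hK le_rfl hqr (.inl rfl) Y0.t3 hX rfl ?_ c5
  obtain ⟨x, rfl⟩ : ∃ x, q' = x ^ 3 := by
    obtain ⟨_, _, _, _, -, -, -, -, rfl | rfl⟩ := c2
    exacts [⟨r ^ f, by ring⟩, ⟨-r ^ f, by ring⟩]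
  obtain ⟨y, rfl | rfl | rfl⟩ : ∃ y, x = 3 * y ∨ x = 3 * y + 1 ∨ x = 3 * y + 2 := ⟨x / 3, by omega⟩ <;>
    ring_nf at c4 ⊢ <;> omega

end

theorem Md.res [Finite Y] (S : Md r h κ F τ (fun _ => f) N M Tr) (Y0 : Ty C τ (Un C τ fun _ => f))
    (hτ : τ ∈ C.Sym) (hE : Inn Y ≤ E)
    (hp : p = r ∨ p = 2 ∨ p = 3 ∨ r ^ (2 * f) ≡ 1 [MOD p] ∧ Vr C p τ)
    (h1 : ∃ α ∈ E, α ∉ Inn Y ∧ ∃ b, α ^ p ^ b = 1)
    (h2 : ∀ (s : ℕ) [Fact s.Prime], s ≠ 2 → (∀ P : Subgroup Y, IsPGroup s P → IsCyclic P) →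
      s ∣ Nat.card Y → Adj p s E) (h3 : Nontrivial B ∨ p = 2 ∧ (2 ≠ r → Adj 2 r E))
    (h4 : A2 C → (∃ α s, C.A α s = 0) ∨ p = 2 ∧ Adj 2 3 E ∨
      p = 3 ∧ ∃ β, lg C.toRootSys Set.univ β = C.neg β) : Res p E := by
  have U : Un C τ fun _ => f := ⟨hτ, f, fun _ => rfl⟩
  have hp' := hp.imp_right (Or.imp_right (Or.imp_right (·.2)))
  have h5 : ∀ y, F (κ y) = κ y := S.fix
  have h6 : κ.range ≤ Fx F := by rintro _ ⟨y, rfl⟩; exact h5 y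
  have i2 : ∀ {p q}, Adj p q κ.range → Adj p q E := fun a => S.adj hK le_rfl (a.mono (le_IX hE))
  obtain ⟨-, -, -, -, -, -, -, hX⟩ := S.toSt.tw2 hK Y0.conn hτ
  have out : ∀ (p q : ℕ) [Fact p.Prime] [Fact q.Prime], q ≠ 2 → ¬ (Tr ∧ q = 3) →
      p = r ∨ p = 2 ∨ p = 3 ∨ Vr C p τ → ∀ α ∈ E, α ∉ IA κ → ∀ b, α ^ q ^ b = 1 →
      q ∣ f ∧ (P1 q F κ.range → Adj p q E) := fun p q _ _ a1 a2 a3 α a4 a5 b a6 => by
    obtain ⟨a7, a8⟩ := S.da q Fact.out a1 (not_and.1 a2)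
    obtain ⟨g, z, a9⟩ := a8 α b a6
    obtain ⟨b1, σ, j, e', b2, b3, b4, b5⟩ := S.outer (p := p) hK le_rfl hE hX a7 a4 a6 a9 a5
    obtain ⟨f', b4⟩ := b4 U
    obtain ⟨y, b6, b7⟩ := S.toSt.sig hK Y0.conn hτ a3 (j := j) (f' := f') (by simpa [b4] using b2) b3
    exact ⟨((Nat.Prime.dvd_mul Fact.out).1 (S.deg (fun _ => rfl) ▸ b1)).resolve_left a7,
      fun a => b5 a y b6 b7⟩
  refine ⟨(S.toSt.sig hK Y0.conn hτ hp' (j := 1) (by simpa using S.sf) (pow_one F)).elim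
    fun y a => a.2.trans (orderOf_dvd_natCard y), fun s _ hs h7 => ?_⟩
  have inn := fun (q : ℕ) [Fact q.Prime] a b => S.inn (p := r) (q := q) hK le_rfl Y0 a b (.inl rfl)
    le_rfl h6
  obtain rfl | hsr := eq_or_ne s r
  · obtain rfl | hp2 := eq_or_ne p 2
    · exact h3.elim (fun _ => i2 (S.inn2 hK Y0.conn Y0.t3 hs.symm).symm) fun a => a.2 hs.symm
    by_cases a0 : Tr ∧ p = 3
    · obtain ⟨a0, rfl⟩ := a0
      exact i2 (inn 3 hp2 hs.symm ((S.tri a0).2 hs.symm)).symm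
    obtain ⟨α, a1, a2, b, a3⟩ := h1
    by_cases a4 : α ∈ IA κ
    · obtain ⟨g, a4⟩ := a4
      have a5 : g ∉ κ.range := fun ⟨y, e⟩ => a2 ⟨y, (e ▸ ext_conj y).eq S.inj a4⟩
      have a6 := S.toSt.pw hK le_rfl a4 a3
      have a7 : g ∈ IX κ E := ⟨α, a1, a4⟩
      obtain a | ⟨rfl, a8, a9, -⟩ := S.toSt.np hK Y0 hp2 hs.symm fun a =>
        a5 (a g (S.ix_le hK le_rfl a7) b a6)
      · exact i2 a.symm
      obtain a | ⟨-, β, a⟩ := (h4 a8).resolve_left a9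
      · exact (hp2 a.1).elim
      exact (S.adj hK le_rfl (S.toSt.hi hK Y0.t3 hp2 (le_IX hE) (S.ix_le hK le_rfl) a7 a5 a6 a)).symm
    obtain ⟨a5, a6⟩ := out s p hp2 a0 (.inl rfl) α a1 a4 b a3
    refine ((em _).elim a6 fun a => i2 ((S.toSt.np hK Y0 hp2 hs.symm a).elim id ?_)).symm
    rintro ⟨rfl, -, -, a⟩
    exact a a5
  have tr : Adj r s κ.range → Adj p s E := fun a => i2 (S.toSt.tr hK Y0.conn Y0.t3 hτ hsr
    (or_iff_not_imp_left.2 fun b => (hp.resolve_left b).imp_right fun c => c.elim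
      (fun d => by subst d; exact modEq_three Fact.out b f) (·.1)) a)
  obtain rfl | hs2 := eq_or_ne s 2
  · have := h3.resolve_right fun a => hs a.1.symm
    exact tr (S.inn2 hK Y0.conn Y0.t3 hsr)
  by_cases a1 : AbS s κ.range
  swap
  · exact tr (inn s hs2 hsr a1)
  have a0 : ¬ (Tr ∧ s = 3) := fun ⟨a, b⟩ => by subst b; exact (S.tri a).2 hsr a1
  by_cases a2 : P1 s F κ.range
  swap
  · obtain a | ⟨rfl, a8, a9, -⟩ := S.toSt.np hK Y0 hs2 hsr a2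
    · exact tr a
    obtain ⟨rfl, a⟩ | a := (h4 a8).resolve_left a9
    exacts [a, (hs a.1.symm).elim]
  by_cases a3 : s ∣ Nat.card Y
  · refine (em _).elim (h2 s hs2 · a3) fun a => ?_
    simp only [not_forall] at a
    obtain ⟨P, a4, a5⟩ := a
    exact tr (S.toSt.ncyc hK Y0.conn Y0.t3 hτ hs2 hsr (a1.mono a2)
      (S.da s Fact.out hs2 (not_and.1 a0)).1 (StRep.Std.eq h.faithful (S.sf.pow N)
        (S.pw ▸ zpow_natCast (fr h r) M ▸ sf_fr h M)).1 a4 a5)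
  have : Finite (MulAut Y) := .of_injective _ DFunLike.coe_injective
  obtain ⟨⟨α, a4⟩, a5⟩ := exists_prime_orderOf_dvd_card' s h7
  rw [← Subgroup.orderOf_coe] at a5
  have a6 : α ^ s ^ 1 = 1 := by rw [pow_one, ← a5, pow_orderOf_eq_one]
  refine (out p s hs2 a0 hp' α a4 (fun ⟨g, a7⟩ => a3 ?_) 1 a6).2 a2
  obtain ⟨y, rfl⟩ := a2 g (S.ix_le hK le_rfl ⟨α, a4, a7⟩) 1 (S.toSt.pw hK le_rfl a7 a6)
  exact a5.symm.dvd.trans ((a7.eq S.inj (ext_conj y) ▸ orderOf_map_dvd MulAut.conj y).trans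
    (orderOf_dvd_natCard y))

end CF.BN.Ba
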