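import Cfsg.Agent.BN.BcB

/-! A prime adjacent to all others: split and twisted groups. -/

set_option autoImplicit false

namespace CF.BN.Ba

open Cfsg Cfsg.Lie CF.Chev CF.BN CF.KB CF.KI CF.KG CF.Loc CF.Sig

variable {G Y A : Type*} [Group G] [Finite G] [Group Y] [Group A] {p : ℕ} [Fact p.Prime]
  {H : Subgroup G} [H.Normal]

theorem Cf.cyc [Finite Y] {θ : G →* MulAut Y} (h : Cf p θ H) [IsCyclic A] (φ : Out Y →* A) :
    p ∣ Nat.card φ.ker := by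
  obtain ⟨g, a, e⟩ := h.ch.ker (QuotientGroup.mk'_surjective H)
    (φ.comp ((QuotientGroup.mk' _).comp θ))
  exact (h.ord e).symm.dvd.trans (Subgroup.orderOf_dvd_natCard _ a)

variable {B ι : Type} [Fintype B] [DecidableEq B] [Fintype ι] [DecidableEq ι] {C : ChevBasis B ι}
  {r f : ℕ} [Fact r.Prime] {N : ℕ} {Tr : Prop}
  {L : Type} [Field L] [Fintype L] [CharP L r] {X : Type} [Group X] {ρ0 : StRep C L X}
  (h0 : ρ0.IsAdj)
include h0

omit [Fintype L] in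
theorem fld_inn [Nonempty B] (σ : RingAut L) (h : h0.fieldAut σ ∈ Inn X) : σ = 1 := by
  obtain ⟨g, hg, e⟩ := (h0.mem_ker_toOut (θ := ⟨_, h0.fieldAut_mem_Stab σ⟩)).1
    ((QuotientGroup.eq_one_iff _).2 h)
  obtain ⟨χ, -, a, -⟩ := StRep.exists_actsT_of_mem_H hg
  rw [h0.conj_eq_diagAut a] at e
  obtain ⟨i⟩ := ‹Nonempty B›
  have k : ∀ t, σ t = χ.ev (C.vec (C.simple i)) * t := fun t =>
    h0.faithful.x_injective (C.simple i) (by rw [← h0.fieldAut_x, ← h0.diagAut_x, ← e])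
  have k1 := k 1
  rw [map_one, mul_one] at k1
  exact RingEquiv.ext fun t => by rw [k, ← k1, one_mul]; rfl

theorem res_split [Nonempty B] (hL : Fintype.card L = r ^ f) (Y0 : ∀ U : Prop, U → Ty C 1 U)
    (hT : Tr → Tri C 1) (hS : ∀ π : Equiv.Perm B, (∀ i j, C.car (π i) (π j) = 0 ↔ C.car i j = 0) →
      π ^ 2 = 1 ∨ Tr ∧ π ^ 6 = 1) {θ : G →* MulAut X} (H0 : Cf p θ H)
    (hp : p = 2 ∨ p = 3 ∨ r ^ (2 * f) ≡ 1 [MOD p] ∧ Vr C p 1)
    (h3 : Nontrivial B ∨ p = 2 ∧ (2 ≠ r → Adj 2 r θ.range))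
    (h4 : A2 C → (∃ α s, C.A α s = 0) ∨ p = 2 ∧ Adj 2 3 θ.range ∨
      p = 3 ∧ ∃ β, lg C.toRootSys Set.univ β = C.neg β) : Res p θ.range := by
  obtain ⟨K, _, i, hK⟩ := exists_big L (2 * Fintype.card ι)
  have := hK.1
  have := charP_of_injective_ringHom i.injective r
  have h := StRep.isAdj_adRes (C := C) (K := K)
  generalize (C.adSt K).res = ρ at h
  have hf := f_pos hL
  have S : St r h (fa h0 h i) (fr h r ^ f) 1 fun _ => f := ⟨zpow_natCast (fr h r) f ▸ sf_fr h f,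
    isFr_fr hf, fa_injective h0 h i, fix_fa h0 h i hL, fun g hg ⟨_, hn⟩ => unip_fa h0 h i hL hg hn⟩
  have U : Un C 1 fun _ => f := ⟨one_mem _, f, fun _ => rfl⟩
  have hC := (Y0 _ U).conn
  have := HasSt.fin ⟨K, _, _, _, _, _, _, h, _, _, hK, S⟩
  refine Md.res (Tr := Tr) hK ⟨S, hf, pow_one _, fun z hz => (rig_fa h0 h i hL hK (card_le le_rfl C)
    (g := 1) (sf_fr h z) (by simpa)).2.2 (Classical.arbitrary B), .inl U, fun q a b c =>
      ⟨a.not_dvd_one, fun α n d => ?_⟩, fun a => ⟨U, fun b => ?_⟩⟩ (Y0 _ U) U.1 H0.le (.inr hp) H0.elt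
    (fun s _ a => H0.frat a h0.conj_injective) h3 h4
  swap
  · obtain ⟨-, c, _, _, _, d⟩ := hT a
    exact S.tri' hK hC b (one_mem _) c (fun _ => rfl) d.1 d.2.1 d.2.2.1 d.2.2.2.1 d.2.2.2.2
  obtain ⟨x, hx⟩ := StRep.exists_conj_mul_mem_Stab h0.r3 h0.faithful h0.gp α
  obtain ⟨_, _, h1⟩ := h0.exists_std ⟨_, hx⟩
  have h2 : h0.toPerm ⟨_, hx⟩ ^ q ^ n = 1 := by
    rw [← h0.outPerm_toOut, ← map_pow]
    change h0.outPerm (((MulAut.conj x * α : MulAut X) : Out X) ^ _) = 1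
    rw [QuotientGroup.mk_mul, mk_conj, one_mul, ← QuotientGroup.mk_pow, d, QuotientGroup.mk_one, map_one]
  have h3 := (Nat.coprime_primes a Nat.prime_two).2 b
  obtain ⟨χ, σ, h4⟩ := (h0.mem_ker_toPerm hC (θ := ⟨_, hx⟩)).1
    ((hS _ (h1.car_eq_zero_iff h0.faithful)).elim (eq_one_of_pow (h3.pow_left n) h2) fun e =>
      eq_one_of_pow ((h3.mul_right ((Nat.coprime_primes a Nat.prime_three).2 (c e.1))).pow_left n) h2 e.2)
  obtain ⟨z, rfl⟩ := exists_Fz (r := r) σ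
  obtain ⟨g, -, h5⟩ := Idg.ext h0 h i hL ⟨x⁻¹, χ, rfl⟩
  have h6 := h5.mul (ext_std h0 h i hL SF.one SF.one z)
  rw [one_mul, one_mul, mul_assoc, ← h4, map_inv, inv_mul_cancel_left] at h6
  exact ⟨g, z, h6⟩

theorem res_gr {T : Tw ρ0} {G1 : Subgroup X} {ω : ι → ℝ} (M : LT r T G1 ω)
    (hK : ∃ i, ∀ t, KG.Crd ρ0 G1 i t) (hq : T.p ∈ C.Sym) (hL : Fintype.card L = (r ^ f) ^ N)
    (hm : T.p ^ N = 1) (hφ : ∀ j t, T.φ (C.simple j) t = t ^ r ^ f) {v : Lˣ}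
    (hv : ∀ j, T.φ (C.simple j) v = v * T.c (C.simple j)) (Y0 : ∀ U : Prop, U → Ty C T.p U)
    (hT : Tr → Tri C T.p) (hN : N = 2 ∨ Tr ∧ N = 3)
    (H1 : ∀ q : ℕ, q.Prime → q ≠ 2 → ∀ (α : MulAut G1) b, α ^ q ^ b = 1 → DF h0 α)
    {θ : G →* MulAut G1} (H0 : Cf p θ H) (hp : p = 2 ∨ p = 3 ∨ r ^ (2 * f) ≡ 1 [MOD p] ∧ Vr C p T.p)
    [Nontrivial B] (h4 : A2 C → (∃ α s, C.A α s = 0) ∨
      p = 3 ∧ ∃ β, lg C.toRootSys Set.univ β = C.neg β) : Res p θ.range := by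
  rw [← pow_mul] at hL
  obtain ⟨K, _, i, hK'⟩ := exists_big L (2 * Fintype.card ι)
  have := hK'.1
  have := M.finite
  have := charP_of_injective_ringHom i.injective r
  have h := StRep.isAdj_adRes (C := C) (K := K)
  generalize (C.adSt K).res = ρ at h
  obtain ⟨γ, h5⟩ := GrT.exists (r := r) h M.conn (e := 0) (.inl ⟨hq, rfl⟩)
  have h6 := h5.mul (sf_fr h f)
  simp only [zpow_natCast, Pi.zero_apply, Nat.cast_zero, zero_add, mul_one] at h6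
  have h8 : (γ * fr h r ^ f) ^ N = fr h r ^ (f * N) := StRep.Std.ext h.gp (h6.pow N) (by
    simpa [hm, KB.SF, mul_comm, ← zpow_natCast] using sf_fr (r := r) h (f * N))
  obtain ⟨κ, S, h9, h10⟩ := model M h0 hK h i hL (e := fun _ => f) h6 h8 hφ hv
  have U : Un C T.p fun _ => f := ⟨hq, f, fun _ => rfl⟩
  refine Md.res (Tr := Tr) hK' ⟨S, f_pos hL, h8, h9, .inl U, fun q a b c => ⟨?_, fun α n d =>
    h10 α (H1 q a b α n d)⟩, fun a => ⟨U, fun b => ?_⟩⟩ (Y0 _ U) hq H0.le (.inr hp) H0.elt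
    (fun s _ a => H0.frat a ((injective_iff_map_eq_one _).2 fun y e => S.inj ((S.rig hK' le_rfl SF.one
      (by simpa [e] using ext_conj (k := κ) y)).trans (map_one κ).symm))) (.inl ‹_›)
    fun a => (h4 a).imp_right .inr
  · obtain rfl | ⟨d, rfl⟩ := hN
    exacts [mt (Nat.prime_dvd_prime_iff_eq a Nat.prime_two).1 b,
      mt (Nat.prime_dvd_prime_iff_eq a Nat.prime_three).1 (c d)]
  · obtain ⟨-, c, _, _, _, d⟩ := hT a
    exact S.tri' hK' M.conn b hq c (fun _ => rfl) d.1 d.2.1 d.2.2.1 d.2.2.2.1 d.2.2.2.2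

end CF.BN.Ba
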