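import Cfsg.Agent.BN.BcC
import Cfsg.Agent.S2126
import Cfsg.Agent.S2127
import Cfsg.Agent.S2128

/-! A prime adjacent to all others: the families. -/

set_option autoImplicit false

namespace CF.BN.Ba

open Cfsg Cfsg.Lie Cfsg.Agent CF.Chev CF.BN CF.KB CF.KI CF.KG CF.Loc Equiv

variable {B ι : Type} [Fintype B] [DecidableEq B] [Fintype ι] [DecidableEq ι] {C : ChevBasis B ι}
  {n r p : ℕ}

theorem orth {P : Prop} (i j : B) (h : C.car i j = 0) (_ : A2 C) : (∃ α s, C.A α s = 0) ∨ P :=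
  .inl ⟨_, _, (C.A_simple_simple i j).trans h⟩

theorem orth' {P : Prop} (i j : B) (h : C.car i j * C.car j i = 2 ∨ C.car i j * C.car j i = 3)
    (_ : A2 C) : (∃ α s, C.A α s = 0) ∨ P := by
  simp only [← C.A_simple_simple] at h
  refine .inl (h.elim (fun h => ⟨C.simple j, C.refl (C.simple i) (C.simple j), ?_⟩) fun h =>
    ⟨C.simple i, C.refl (C.simple j) (C.refl (C.simple i) (C.simple j)), ?_⟩) <;>
    simp only [C.A_refl_right, C.A_self, h] <;> ring

theorem vrA [Fact p.Prime] (hn : 1 ≤ n) (h1 : p ∣ n + 1) {τ : Perm (Fin n)}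
    (h : τ = 1 ∨ τ = Fin.revPerm) : Vr (cbA n) p τ := fun π a b => by
  obtain ⟨σ, h6⟩ := exists_prime_orderOf_dvd_card (G := Perm (Fin (n + 1))) p (by
    rw [Fintype.card_perm, (Fact.out : p.Prime).dvd_factorial, Fintype.card_fin]
    exact Nat.le_of_dvd n.succ_pos h1)
  have h2 : permA σ ∈ (cbA n).W := W_A.ge ⟨σ, rfl⟩
  have h3 : orderOf (permA σ) = p := by
    rwa [orderOf_injective permA fun a b e => Equiv.ext fun x => by
      obtain ⟨y, h⟩ := @exists_ne _ (Fin.nontrivial_iff_two_le.2 (by omega)) x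
      exact congrArg (·.1.1) (DFunLike.congr_fun e ⟨(x, y), h.symm⟩)]
  obtain rfl | rfl := h
  · exact ⟨1, one_mem _, _, h2, h3, by simp [aut_ext a (one_mem _) b]⟩
  refine ⟨_, W_A.ge ⟨Fin.revPerm, rfl⟩, _, h2, h3, ?_⟩
  rw [aut_ext (mul_mem ((cbA n).W_le_Aut (W_A.ge ⟨Fin.revPerm, rfl⟩)) a) (cbA n).negPerm_mem_Aut
    fun i => ?_]
  · exact Equiv.ext fun s => (RootSys.neg_aut ((cbA n).W_le_Aut h2) s).symm
  · rw [Perm.mul_apply, b]
    exact Subtype.ext (Prod.ext (by simp [permA_val, cbA_simple, cbA_neg, Fin.rev_castSucc])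
      (by simp [permA_val, cbA_simple, cbA_neg, Fin.rev_succ]))

theorem betaA : ∃ β, lg (cbA 2).toRootSys Set.univ β = (cbA 2).neg β := by
  obtain ⟨σ, h⟩ := W_A.le (lg_mem_W (R := (cbA 2).toRootSys) Set.univ)
  have := fun s => pos_lg_univ (R := (cbA 2).toRootSys) (r := s)
  simp only [← h, cbA_pos, permA_val] at this ⊢
  exact ⟨⟨(0, 2), by decide⟩, Subtype.ext ((by decide : ∀ σ : Perm (Fin 3), (∀ s : RtA 2,
    σ s.1.1 < σ s.1.2 ↔ ¬ s.1.1 < s.1.2) → (σ 0, σ 2) = (2, 0)) σ this)⟩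

section

variable {L X : Type} [Field L] [Group X] {ρ : StRep C L X} (h : ρ.IsAdj)
include h

theorem dvd_x [Fact r.Prime] [CharP L r] (s : ι) : r ∣ orderOf (ρ.x s 1) :=
  dvd_orderOf (b := 1) (by simp [← ρ.x_nsmul]) fun e => one_ne_zero (h.faithful.x_injective s
    (e.trans (ρ.x_zero s).symm))

theorem fld_nw (l : List B) (σ : RingAut L) : h.fieldAut σ (ρ.nw l) = ρ.nw l := by
  induction' l with i l ih
  · simp
  · simp [ih, StRep.ns, PreSt.n, h.fieldAut_x]

end

variable {G Y : Type*} [Group G] [Finite G] [Group Y] [Fact p.Prime] {H : Subgroup G} [H.Normal]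
  {θ : G →* MulAut Y} (H0 : Cf p θ H)
include H0

theorem Cf.three [Finite Y] {P : Prop} (S : Shape (Out Y) 3) : p = 2 ∨ p = 3 ∨ P :=
  (H0.shape S).imp_right fun a => .inl ((Nat.prime_dvd_prime_iff_eq Fact.out Nat.prime_three).1 a)

theorem Cf.odd [Finite Y] (S : Shape (Out Y) 1) {m : ℕ} (h : Nat.card (Out Y) = 2 * m + 1) :
    Res p θ.range := by
  obtain rfl := (H0.shape S).resolve_right (Fact.out : p.Prime).not_dvd_one
  have := H0.cyc (1 : Out Y →* Unit)
  rw [MonoidHom.ker_one, Subgroup.card_top] at this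
  omega

theorem res_psl (h : IsPSLChar r Y) : Res p θ.range := by
  obtain ⟨K, _, _, _, n, h1, h2, ⟨e⟩⟩ := h
  have := Fact.mk (CharP.char_is_prime K r)
  obtain ⟨n, rfl⟩ : ∃ m, n = m + 1 := ⟨n - 1, by omega⟩
  have : Nonempty (Fin n) := ⟨⟨0, by omega⟩⟩
  obtain ⟨⟨f, hf⟩, -, hL : _ = r ^ f⟩ := FiniteField.card K r
  have h0 := adj_quot (faithful_slRep n K (by omega)) (slRep_Gp n K)
  refine H0.equiv e fun H1 => ?_
  have key := res_split h0 hL (fun _ a => tyA (by omega) a (.inl rfl)) False.elim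
    (path fun _ _ => .rfl) H1
  obtain rfl | h3 := eq_or_ne n 1
  · obtain ⟨φ, a1, -, a2⟩ := S2602.result hf hL (hL ▸ h2 rfl)
    obtain rfl := (Nat.prime_dvd_prime_iff_eq Fact.out Nat.prime_two).1
      ((a2 ▸ H1.cyc φ).trans (Nat.gcd_dvd_left ..))
    refine key (.inl rfl) (.inr ⟨rfl, fun a => H1.fld h0.conj_injective _ (fld_inn h0) odd_one ?_
      (fun σ => (h0.fieldAut_x ..).trans (congrArg _ (map_one σ))) (dvd_x h0 ((cbA 1).simple 0))⟩)
      fun a => ?_
    · rw [card_of_surj a1, a2, card_ringAut' hL, card_mult, Nat.card_zmod, Nat.gcd_eq_left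
        (Nat.Odd.sub_odd ((Fact.out : r.Prime).odd_of_ne_two a.symm).pow odd_one).two_dvd,
        mul_one]
    · obtain ⟨a, b, c, -⟩ := a.2.2
      exact absurd c (by revert a b; simp only [cbA_A]; decide)
  obtain ⟨φ, a1, a2, a3⟩ := S2601.result hf hL (n := n + 1) (by omega)
  have a4 := H1.shape (.of_cyc_ker φ a1 _ (idx_fst f) a2 fun _ _ _ a => a3 ▸ a)
  refine key (a4.imp_right fun a => .inr ⟨?_, vrA (by omega) (a.trans (Nat.gcd_dvd_left ..))
    (.inl rfl)⟩) (.inl (Fin.nontrivial_iff_two_le.2 (by omega))) ?_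
  · simpa [mul_comm 2, pow_mul] using (((Nat.modEq_iff_dvd' (Nat.one_le_pow _ _
      (Fact.out : r.Prime).pos)).2 (a.trans (Nat.gcd_dvd_right ..))).pow 2).symm
  obtain rfl | h4 := eq_or_ne n 2
  swap
  · exact orth ⟨0, by omega⟩ ⟨2, by omega⟩ (by simp [cbA_car])
  refine fun _ => .inr (a4.imp ?_ fun a => ⟨(Nat.prime_dvd_prime_iff_eq Fact.out Nat.prime_three).1
    (a.trans (Nat.gcd_dvd_left ..)), betaA⟩)
  rintro rfl
  refine ⟨rfl, H1.fld h0.conj_injective _ (fld_inn h0) ((by decide : Odd 3).of_dvd_nat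
    (Nat.gcd_dvd_left 3 (r ^ f - 1))) ?_ (fld_nw h0 [0, 1]) (Dvd.dvd.trans ?_
      (order_dvd h0.faithful (StRep.nW_nw _)))⟩
  · rw [card_of_surj a1, a3, card_ringAut' hL, card_mult, Nat.card_prod, Nat.card_zmod, Nat.card_zmod]
    ring
  · rw [show (cbA 2).wp [0, 1] = permA (swap 0 1 * swap 1 2) by
      simp [← RootSys.refl_simple, refl_A, cbA_simple]]
    exact (orderOf_eq_prime (by decide +kernel) (by decide +kernel)).symm.dvd

theorem res_psp (h : IsPSpChar r Y) : Res p θ.range := by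
  obtain ⟨F, _, _, _, m, hm, -, ⟨e⟩⟩ := h
  have := Fact.mk (CharP.char_is_prime F r)
  have : Nontrivial (Fin m) := Fin.nontrivial_iff_two_le.2 hm
  obtain ⟨⟨f, hf⟩, -, hF : _ = r ^ f⟩ := FiniteField.card F r
  refine H0.equiv e fun H1 => res_split (adj_quot (faithful_spRep m F (by omega)) (spRep_Gp m F)) hF
    (fun _ => tyC hm) False.elim (path fun i j => by
      simp only [cbA_car, cbC_car, Fin.ext_iff]; omega) H1 (H1.three ?_) (.inl ‹_›)
    (orth' ⟨m - 2, by omega⟩ ⟨m - 1, by omega⟩ (.inl (by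
      simp only [cbC_car, Fin.ext_iff]; split_ifs <;> omega)))
  by_cases h : m = 2 ∧ r = 2
  · obtain ⟨rfl, rfl⟩ := h
    have := (S2600.result hf hF).1
    exact .of_cyclic
  have : NeZero m := ⟨by omega⟩
  obtain ⟨φ, h1, ⟨e'⟩⟩ := (CF.Known.model_sp (F := F) hm).out_ext
    (CF.Known.psi_sp_surjective r hm fun h1 h2 => h ⟨h1, h2⟩) CF.Known.kap_sp_surjective _
    CF.Known.chiSp_surjective CF.Known.chiSp_eq_one
  have := isCyclic_ringAut (F := F)
  refine .of_small_ker φ h1 ?_ dvd_rfl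
  rw [Nat.card_congr e'.toEquiv, CF.Known.card_quot_sq]
  exact (Nat.gcd_dvd_left _ _).trans (by decide)

theorem res_odd (h : IsPOmegaOddChar r Y) : Res p θ.range := by
  obtain ⟨F, _, _, _, m, hm, ho, ⟨e⟩⟩ := h
  have := Fact.mk (CharP.char_is_prime F r)
  have : Nontrivial (Fin m) := Fin.nontrivial_iff_two_le.2 (by omega)
  obtain ⟨⟨f, hf⟩, -, hF : _ = r ^ f⟩ := FiniteField.card F r
  have h4 : ∃ a : F, a ≠ 0 ∧ a ≠ 1 := Suz.exists_ne_zero_ne_one (by
    have := Fintype.one_lt_card (α := F); obtain ⟨k, hk⟩ := ho; omega)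
  obtain ⟨e'⟩ := S2604.result hf hF (by
    rintro rfl
    exact (Nat.not_even_iff_odd.2 ho) (hF ▸ even_two.pow_of_ne_zero hf.ne')) hm
  exact H0.equiv e fun H1 => res_split (adj_quot (faithful_omRepB (by omega) h4)
    (omRepB_Gp (by omega) h4)) hF (fun _ => tyB (by omega)) False.elim (path fun i j => by
      simp only [cbA_car, cbB_car, Fin.ext_iff]; omega) H1 (H1.three (.of_add e' (by simp) dvd_rfl))
    (.inl ‹_›) (orth ⟨0, by omega⟩ ⟨2, by omega⟩ (by simp [cbB_car]))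

theorem res_plus [Finite Y] (h : IsPOmegaPlusChar r Y) : Res p θ.range := by
  obtain ⟨F, _, _, _, m, hm, ⟨e⟩⟩ := h
  have := Fact.mk (CharP.char_is_prime F r)
  obtain ⟨⟨f, hf⟩, -, hF : _ = r ^ f⟩ := FiniteField.card F r
  have hp : ∀ {P}, p = 2 ∨ p = 3 ∨ P := H0.three (.congr (outCongr e.symm) (by
    rcases eq_or_ne r 2 with rfl | h2
    · have h := S2607.result hf hF hm
      split_ifs at h <;> obtain ⟨e'⟩ := h
      · exact .of_prod e' (by simp; decide) dvd_rfl
      · exact .of_add e' (by simp) dvd_rfl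
    have h := S2608.result hf hF h2 hm
    split_ifs at h <;> obtain ⟨e'⟩ := h
    · exact .of_prod e' (by simp; decide) dvd_rfl
    · exact .of_add (A := ZMod 2 × ZMod 2) (e'.trans (AddEquiv.toMultiplicative
        (G := ZMod 2 × ZMod 2 × ZMod f) (H := (ZMod 2 × ZMod 2) × ZMod f) AddEquiv.prodAssoc.symm))
        (by simp) dvd_rfl
    · exact .of_prod e' (by rw [DihedralGroup.nat_card]; decide) dvd_rfl))
  obtain rfl | h5 := eq_or_ne m 4
  · obtain ⟨ψ⟩ := S1082.result (F := F)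
    exact H0.equiv (e.trans ψ.symm) fun H1 => res_split (C := cD4) (Tr := True) (linkD4.isAdj F) hF
      (tyD4 (.inl rfl)) (fun _ => triD4 (.inl rfl)) (by simp only [carD4']; decide +kernel) H1 hp
      (.inl inferInstance) (orth 0 2 (carD4' 0 2))
  obtain ⟨n, rfl⟩ : ∃ n, m = n + 1 := ⟨m - 1, by omega⟩
  have h4 : 3 ≤ n + 1 := by omega
  exact H0.equiv e fun H1 => res_split (adj_quot (faithful_omRepD F h4) (omRepD_Gp F h4)) hF
    (fun _ a => tyD (by omega) a (.inl rfl)) False.elim (symD (by omega)) H1 hp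
    (.inl (Fin.nontrivial_iff_two_le.2 (by omega))) (orth ⟨0, by omega⟩ ⟨2, by omega⟩ (by
      simp only [cbD_car, Fin.ext_iff]; rw [if_neg (by omega), if_neg (by omega)]))

theorem res_minus [Finite Y] (h : IsPOmegaMinusChar r Y) : Res p θ.range := by
  obtain ⟨F, _, _, _, m, a, b, hm, hab, ⟨e⟩⟩ := h
  have := Fact.mk (CharP.char_is_prime F r)
  obtain ⟨⟨f, hf⟩, -, hF : _ = r ^ f⟩ := FiniteField.card F r
  obtain ⟨K, _, _, i, φ, w, h1, h2, h3, h4, h5, h6⟩ := exists_quadExt' hab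
  have := charP_of_injective_ringHom i.injective r
  have := Fintype.ofFinite K
  have hQ (v) : Geom.qMinus (m - 1) K (-(w + φ w)) (w * φ w) (i ∘ v) =
      i (Geom.qMinus (m - 1) F a b v) := by rw [h4, h5, qMinus_comp]
  have hn : 2 ≤ m - 1 := by omega
  obtain ⟨M0, h7⟩ := lt0O' h1 h2 hn hab h3 hQ (p := r)
  have M := M0.quot (le_sup_of_le_left h7)
  have h0 := adj_quot (twO h1 h2 hn).faith (twO h1 h2 hn).top
  have e' := e.trans (M0.nonempty_equiv (MonoidHom.ofInjective (omMap_injective hQ)).symm).some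
  have hp : ∀ j, (twQuot (twO h1 h2 hn)).p j = pD (m - 1) j := fun _ => rfl
  have hK : ∃ i, ∀ t, KG.Crd _ _ i t := ⟨_, crd_pair M (i := Fin.last _)
    (Equiv.swap_apply_self _ _ _) (by
    simp only [hp, Ne, Fin.ext_iff, val_pD hn, Fin.val_last]
    split_ifs <;> omega) (by
    simp only [hp, cbD_car, Ne, Fin.ext_iff, val_pD hn, Fin.val_last]
    split_ifs <;> first | omega | (rename_i h; simp at h; omega)) (fun _ => rfl) h1⟩
  have : Nontrivial (Fin (m - 1 + 1)) := Fin.nontrivial_iff_two_le.2 (by omega)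
  have key : ∀ {Z : Type} [Group Z], Nonempty (Out (POmega F (quadFormMinus (m - 1) F a b)) ≃* Z) →
      Nat.card Z ∣ 8 * f → (∀ x y : Z, Commute (x ^ 4) y) → Shape Z 3 → Res p θ.range :=
    fun ⟨u⟩ c d S =>
    have v := ((outCongr e').symm.trans (outCongr e)).trans u
    H0.equiv e' fun H1 => res_gr h0 M hK (pD_mem hn) (N := 2) (f := f) (by simpa [← hF] using h6)
      (Equiv.ext fun _ => Equiv.swap_apply_self _ _ _) (fun _ => hF ▸ invol_eq_pow h1 h3) (v := 1)
      (fun _ => (map_one φ).trans (mul_one _).symm) (fun _ a => tyD hn a (.inr rfl)) False.elim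
      (.inl rfl) (fun _ => df_cen h0 M hK (fun _ => .inl rfl) ((Nat.card_congr v.toEquiv).dvd.trans
        (c.trans (mul_dvd_mul_left _ (card_ringAut' hF ▸ card_ringAut_dvd i))))
        fun x y => v.injective (by simpa using (d (v x) (v y)).eq)) H1
      (H0.three (S.congr ((outCongr e).trans u).symm)) fun a => orth ⟨0, by omega⟩ ⟨2, by omega⟩ (by
        simp only [cbD_car, Fin.ext_iff]; rw [if_neg (by omega), if_neg (by omega)]) a
  rcases eq_or_ne r 2 with rfl | h2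
  · obtain ⟨c, d⟩ := S2605.result hf hF hm a b hab
    exact key ⟨.refl _⟩ (d ▸ mul_dvd_mul_right (by decide) f)
      (fun x y => c.isMulCommutative.is_comm.comm ..) .of_cyclic
  have h := S2606.result hf hF h2 hm a b hab
  split_ifs at h
  · exact key h (by simp [card_mult, DihedralGroup.card]) (fun x y => Prod.ext (by
      simp [(by decide : ∀ x : DihedralGroup 4, x ^ 4 = 1)]) (mul_comm ..))
      (.of_prod (.refl _) (by rw [DihedralGroup.nat_card]; decide) dvd_rfl)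
  · exact key h (by simpa [card_mult, ← mul_assoc] using mul_dvd_mul_right (by decide : 2 * 2 ∣ 8) f)
      (fun _ _ => .all ..) (.of_add (.refl _) (by simp) dvd_rfl)

theorem res_psu [Finite Y] (h : IsPSUChar r Y) : Res p θ.range := by
  obtain ⟨K, _, _, _, n, q, hK, hn, h32, ⟨e⟩⟩ := h
  have := Fact.mk (CharP.char_is_prime K r)
  obtain ⟨f, -, hF⟩ := FiniteField.card K r
  obtain ⟨j, -, rfl⟩ := (Nat.dvd_prime_pow Fact.out).1
    (show q ∣ r ^ f.1 from hF ▸ hK ▸ dvd_pow_self q two_ne_zero)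
  obtain ⟨ψ, h1, -, h7⟩ := S2603.result (f := j) (Nat.pos_of_ne_zero fun e => by
    simpa [hK, e] using Fintype.one_lt_card (α := K)) rfl hK hn h32
  have o : Nat.card (Out Y) = Nat.gcd n (r ^ j + 1) * Nat.card (RingAut K) := by
    rw [Nat.card_congr (outCongr e).toEquiv, card_of_surj h1, h7, card_ringAut' (p := r) (hK.trans
      (by rw [← pow_mul, mul_comm])), card_mult, Nat.card_zmod]
  have hp : p ∣ Nat.gcd n (r ^ j + 1) := h7 ▸ (H0.cyc (ψ.comp (outCongr e).toMonoidHom)).trans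
    (Subgroup.card_comap_dvd_of_injective ψ.ker _ (outCongr e).injective)
  obtain ⟨n, rfl⟩ : ∃ m, n = m + 1 := ⟨n - 1, by omega⟩
  obtain ⟨φ, h3, h4, h5⟩ := Geom.exists_conj hK
  have h6 : 1 ≤ n := by omega
  have L := lt0U h6 hK h3 h4 h5 (p := r)
  obtain ⟨u⟩ := nonempty_SU_equiv hK h3 h5 h6
  have e' := e.trans (L.nonempty_equiv u).some
  have h8 := card_H_quot L (tor_injective_slRep n K)
  have h9 := Geom.card_center_su hK h3 (Geom.isHerm_hermSesq h4 h5) (Geom.hermSesq_nondegenerate φ)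
    (by simp; omega) ((Geom.suToUG_injective (n + 1) h3).comp u.injective)
    (ρ := (Geom.suToUG _ h3).comp u.toMonoidHom) (by
      rw [MonoidHom.range_comp, MonoidHom.range_eq_top.2 u.surjective, ← MonoidHom.range_eq_map,
        Geom.suToUG_range])
  rw [Module.finrank_fin_fun] at h9
  have M := L.quot (le_sup_of_le_left (genU h6 hK h3 h4 h5 (by omega) h32))
  have h0 := adj_quot (twU h6 φ).faith (twU h6 φ).top
  have hc : ∃ i, ∀ t, KG.Crd (slRep n K).quot ((twU h6 φ).Fix.map (QuotientGroup.mk' _)) i t := by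
    rcases nodeU_cases (⟨0, h6⟩ : Fin n) with e | ⟨k, e, hk⟩ | ⟨e, e', e''⟩
    · have := congrArg Fin.val e; change n - (0 + 1) = 0 at this; omega
    · obtain ⟨a5, a6, a7, a8, a9, -⟩ := heisU_aux hk
      refine ⟨k, fun t => .quot ?_⟩
      obtain ⟨s, hs⟩ := exists_trace_eq hK h3 (a := t * φ t) (by rw [map_mul, h5, mul_comm])
      have := (heis_mem_Fix a5 a6 a7 h6 a8 a9 (φ := φ) (t := t) (u := -φ t) (s := s)).2
        ⟨by simp [h5], rfl, by rw [map_neg, h5]; linear_combination -hs⟩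
      rw [heis, ← cbA_simple] at this
      exact ⟨_, mul_mem ((slRep n K).x_mem_U (And.intro ((mem_rootsU h6 (φ := φ) hk _).1
        (by simp)).1 (by simp [cbA_simple, a5.symm])) _) ((slRep n K).x_mem_U (And.intro
        ((mem_rootsU h6 (φ := φ) hk _).1 (by simp)).1 (by simp [cbA_simple, a6.symm])) _), this⟩
    · exact ⟨_, fun t => .quot ⟨_, (slRep n K).x_mem_U (And.intro
        ((twU h6 φ).pos_π_iff.2 ((cbA n).pos_simple _)) (by
          rw [show revA n = (twU h6 φ).π from rfl, Tw.π_simple]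
          exact (cbA n).simple_injective.ne e)) _,
        twU_fix₂ h6 h5 (r := (cbA n).simple _) (by simp [cbA_simple, Fin.ext_iff]; omega)
          (by simp [cbA_simple, Fin.ext_iff]; omega) t⟩⟩
  obtain ⟨w, hw⟩ := DFunLike.ne_iff.1 h4
  have : Nontrivial (Fin n) := Fin.nontrivial_iff_two_le.2 (by omega)
  refine H0.equiv e' fun H1 => res_gr h0 M hc revA_mem hK (Equiv.ext Fin.rev_rev) (fun _ => h3)
    (v := Units.mk0 _ (sub_ne_zero.2 hw)) (fun _ => ?_) (fun _ a => tyA h6 a (.inr rfl)) False.elim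
    (.inl rfl) (fun _ _ _ α _ _ => df_count M h0 hc (fun _ => .inr rfl) (by
        rw [← Nat.card_congr (outCongr e').toEquiv, o, ← mul_assoc, ← h9, h8]; rfl) α) H1
    (.inr (.inr ⟨?_, vrA h6 (hp.trans (Nat.gcd_dvd_left ..)) (.inr rfl)⟩)) ?_
  · change φ (φ w - w) = (φ w - w) * ((-1 : Kˣ) : K)
    simp [h5]
  · refine ((Nat.modEq_iff_dvd' (Nat.one_le_pow _ _ (Fact.out : r.Prime).pos)).2 ?_).symm
    rw [mul_comm, pow_mul, ← one_pow 2, Nat.sq_sub_sq]
    exact (hp.trans (Nat.gcd_dvd_right ..)).mul_right _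
  obtain rfl | h4 := eq_or_ne n 2
  · exact fun _ => .inr ⟨(Nat.prime_dvd_prime_iff_eq Fact.out Nat.prime_three).1
      (hp.trans (Nat.gcd_dvd_left ..)), betaA⟩
  · exact orth ⟨0, by omega⟩ ⟨2, by omega⟩ (by simp [cbA_car])

theorem res_exc (h : IsExceptionalChevChar r Y) : Res p θ.range := by
  obtain ⟨K, _, _, _, h⟩ := h
  have := Fact.mk (CharP.char_is_prime K r)
  obtain ⟨⟨f, hf⟩, -, hK : _ = r ^ f⟩ := FiniteField.card K r
  obtain ⟨-, ⟨e⟩⟩ | ⟨⟨e⟩⟩ | ⟨⟨e⟩⟩ | ⟨⟨e⟩⟩ | ⟨⟨e⟩⟩ := h <;> refine H0.equiv e fun H1 => ?_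
  · exact res_split (C := cG2) (linkG2.isAdj K) hK (fun U _ => tyG2 U) False.elim
      (fun π _ => .inl ((by decide : ∀ π : Perm (Fin 2), π ^ 2 = 1) π)) H1 (H1.three (shape_chev goodG2
        cenG2 K (grG2 K).1 (by rw [(grG2 K).2]; split_ifs <;> simp) (by simp) dvd_rfl))
      (.inl inferInstance) (orth' 0 1 (by simp only [carG2']; decide +kernel))
  · exact res_split (C := cF4) (linkF4.isAdj K) hK (fun U _ => tyF4 U) False.elim
      (by simp only [carF4']; decide +kernel) H1 (H1.three (shape_chev goodF4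
        cenF4 K (grF4 K).1 (by rw [(grF4 K).2]; split_ifs <;> simp) (by simp) dvd_rfl))
      (.inl inferInstance) (orth 0 2 (carF4' 0 2))
  · exact res_split (C := cE6) (linkE6.isAdj K) hK (fun _ a => tyE6 a (.inl rfl)) False.elim
      (fun π h => .inl (by
        rcases mem_symE6.1 (slE6.mem_Sym fun i j _ => h i j) with rfl | rfl <;> decide)) H1
      (H1.three (shape_chev goodE6 cenE6 K (goodE6.gr_of_SL K slE6 notLongE6) (by
        rw [goodE6.range_of_SL K slE6, card_symE6]) (gcd_dvd (by decide) _) dvd_rfl))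
      (.inl inferInstance) (orth 0 1 (carE6' 0 1))
  · have := goodE7.nonempty
    exact res_split (linkE7.isAdj K) hK (fun _ => tyE7) False.elim (fun π h => .inl (by
      rw [Subgroup.mem_bot.1 (symE7.le (slE7.mem_Sym fun i j _ => h i j)), one_pow])) H1
      (H1.three (shape_chev goodE7 cenE7 K (goodE7.gr_of_SL K slE7 notLongE7) (by
        rw [goodE7.range_of_SL K slE7, symE7]; simp) (gcd_dvd (by decide) _) dvd_rfl))
      (.inl (inferInstanceAs (Nontrivial (Fin 7)))) (orth (0 : Fin 7) (1 : Fin 7) (carE7 _ _))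
  · have := goodE8.nonempty
    exact res_split (linkE8.isAdj K) hK (fun _ => tyE8) False.elim (fun π h => .inl (by
      rw [Subgroup.mem_bot.1 (symE8.le (slE8.mem_Sym fun i j _ => h i j)), one_pow])) H1
      (H1.three (shape_chev goodE8 cenE8 K (goodE8.gr_of_SL K slE8 notLongE8) (by
        rw [goodE8.range_of_SL K slE8, symE8]; simp) (by simp) dvd_rfl))
      (.inl (inferInstanceAs (Nontrivial (Fin 8)))) (orth (0 : Fin 8) (1 : Fin 8) (carE8 _ _))

theorem res_tw (h : IsTwistedE6D4Char r Y) : Res p θ.range := by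
  obtain ⟨K, _, _, _, q, hq, h⟩ := h
  have := Fact.mk (CharP.char_is_prime K r)
  obtain ⟨f, -, hF⟩ := FiniteField.card K r
  obtain ⟨j, -, rfl⟩ := (Nat.dvd_prime_pow Fact.out).1 (show q ∣ r ^ f.1 from hF ▸ h.elim
    (fun a => a.1 ▸ dvd_pow_self q two_ne_zero) fun a => a.1 ▸ dvd_pow_self q three_ne_zero)
  obtain ⟨hK, ⟨e⟩⟩ | ⟨hK, ⟨e⟩⟩ := h
  · obtain ⟨φ, hφ, h3⟩ := exists_frobE6 hq hK
    have h := isGr_twE6 φ
    have M := ltE6 (p := r) hφ h3
    have := M.finite
    have e0 : cE6.simple 0 = 56 := by decide +kernel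
    have h1 := card_H_of_tor (T := twE6 φ) (linkE6.r3_gpRep K) (linkE6.isAdj K).center (by
      rintro _ ⟨c, hc, rfl⟩; exact tor_memE6 hφ _ (h.mem_TF.1 hc))
      (Subgroup.card_le_of_le (H_inf_gE6 hφ h3))
    rw [card_ker_E6 h hφ hK] at h1
    have h4 := outE6 r hq.one_lt hK hφ h3
    have hp : (twE6 φ).p = symE6 := h.p_eq.trans (by decide)
    have hc : ∃ i, ∀ t, KG.Crd (repE6 K) (gE6 (repE6 K) (r ^ j)) i t := ⟨0, fun t => ⟨_,
      (repE6 K).x_mem_U (r := 36) (by decide +kernel) (φ t), e0 ▸ mem_gE6₂ (by decide) hφ t⟩⟩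
    exact H0.equiv (e.trans (packE6 hφ h3).e) fun H1 => res_gr (C := cE6) (linkE6.isAdj K) M hc
      (mem_symE6.2 (.inr hp)) hK (by rw [hp]; decide)
      (fun _ => by rwa [h.φ_eq]) (v := 1) (by simp [h.c_eq]) (fun _ a => tyE6 a (.inr hp)) False.elim
      (.inl rfl) (fun _ _ _ α _ _ => df_count M _ hc (fun i => .inl (h.c_eq i)) ((congrArg _ h4).trans
        ((mul_left_comm ..).trans ((mul_assoc ..).symm.trans (congrArg (· * _) h1)))).le α) H1
      (H1.three (shape_tw M (linkE6.isAdj K) h.c_eq (fun i => ⟨_, by rw [h.φ_eq]; exact hφ⟩) hc h4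
        (.inr ⟨h1.symm, (Nat.gcd_dvd_left _ _).trans (by decide), dvd_rfl⟩))) (orth 0 1 (carE6' 0 1))
  · obtain ⟨φ, hφ, h3⟩ := exists_frobD4 hq hK
    have h := isGr_twD4 φ
    have M := ltD4 (p := r) hφ h3
    have := M.finite
    have e0 : cD4.simple 0 = 18 := by decide +kernel
    have hp : (twD4 φ).p = pD4 := h.p_eq
    have hc : ∃ i, ∀ t, KG.Crd (repD4 K) (gD4 (repD4 K) _) i t := ⟨0, fun t => ⟨_, mul_mem
      ((repD4 K).x_mem_U (r := 13) (by decide +kernel) (φ t))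
      ((repD4 K).x_mem_U (r := 12) (by decide +kernel) (φ (φ t))),
      e0 ▸ mem_gD4₃ (Or.inl rfl) hφ t⟩⟩
    have h4 := outD4 r hq.one_lt hK hφ h3
    exact H0.equiv (e.trans (packD4 hφ h3).e) fun H1 => res_gr (C := cD4) (Tr := True)
      (linkD4.isAdj K) M hc (hp ▸ (mem_sym_iff carD4).2 (by decide +kernel)) hK (by rw [hp]; decide)
      (fun _ => by rwa [h.φ_eq]) (v := 1) (by simp [h.c_eq]) (tyD4 (.inr hp)) (fun _ => triD4 (.inr hp))
      (.inr ⟨trivial, rfl⟩) (fun _ _ _ α _ _ => df_count M _ hc (fun i => .inl (h.c_eq i))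
        (count_one M (linkD4.isAdj K) h4) α) H1 (H1.three (shape_tw M (linkD4.isAdj K) h.c_eq
          (fun i => ⟨_, by rw [h.φ_eq]; exact hφ⟩) hc (h4.trans (one_mul _).symm) (.inl rfl)))
      (orth 0 2 (carD4' 0 2))

theorem res_lie [Finite Y] (h : IsLieTypeChar r Y) : Res p θ.range := by
  obtain h | h | h | h | h | h | h | h | ⟨rfl, K, _, _, m, hm, hK, ⟨e⟩⟩ |
    ⟨rfl, K, _, _, m, hm, hK, ⟨e⟩⟩ | ⟨rfl, K, _, _, m, hm, hK, ⟨e⟩⟩ := h
  · exact res_psl H0 h
  · exact res_psp H0 h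
  · exact res_psu H0 h
  · exact res_odd H0 h
  · exact res_plus H0 h
  · exact res_minus H0 h
  · exact res_exc H0 h
  · exact res_tw H0 h
  all_goals have u := outCongr e
  · exact H0.odd (.congr u.symm (shape_of_fld _ ((Suz.lieD K m hK).exists_conj_mul_fieldAut
      (Suz.two_lt_card hm hK)) 1)) ((Nat.card_congr u.toEquiv).trans (S2126.result hm hK))
  · obtain ⟨_, φ, hφ, h2⟩ := exists_theta Nat.prime_two hK
    have h := isIs_twF4 φ
    have e0 : cF4.simple 3 = 24 := by decide +kernel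
    exact H0.odd (.congr (outCongr (e.trans (packF4 hφ h2).e)).symm (shape_tw (ltF4 hφ h2)
      (linkF4.isAdj K) (fun i => h.c_eq _)
      (fun i => ⟨2 ^ m * iF4.lam (cF4.simple i), by simp [h.φ_eq, hφ, pow_mul]⟩)
      ⟨3, fun t => ⟨_, (repF4 K).x_mem_U (r := 33) (by decide +kernel) (φ t), by
        rw [e0, ← (SO.commute (C := cF4) (by decide +kernel) _ _ _).eq]
        exact mem_gF4₂ f4L₂_pos hφ t⟩⟩ ((outF4 (by
          rw [Nat.card_eq_fintype_card, hK]
          exact Nat.pow_lt_pow_right (m := 1) one_lt_two (by omega)) hφ h2).trans (one_mul _).symm)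
      (.inl rfl))) ((Nat.card_congr u.toEquiv).trans (S2128.result hm hK))
  · obtain ⟨T, ⟨D⟩⟩ := Ree.nonempty_ree hK
    exact H0.odd (.congr u.symm (shape_of_fld _ (D.exists_conj_mul_fieldAut
      (Ree.three_lt_card hK hm)) 1)) ((Nat.card_congr u.toEquiv).trans (S2127.result hm hK))

end CF.BN.Ba
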