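import Cfsg.Agent.Spec.D43
import Cfsg.Agent.BN.D42D

/-! The Schur multiplier of `³D₄(2)`. -/

set_option autoImplicit false
set_option maxRecDepth 1000000
set_option maxHeartbeats 0
set_option Elab.async false

namespace CF.BN.D42

open CF.Comp CF.Bt CF.Schur CF.Schur.Pc CF.Spec CF.Spec.D43 Cfsg Cfsg.Lie

variable {G Ω : Type*} [Group G] [MulAction G Ω] {D : CF.Comp.Dom Ω 819} {f : ℕ → G} {H : Subgroup G} {bs : List ℕ}
  [Finite H]

noncomputable def Wx2 : List (List Nat) := [[(nat_lit 1), (nat_lit 13), (nat_lit 15), (nat_lit 13), (nat_lit 7), (nat_lit 15), (nat_lit 13), (nat_lit 15), (nat_lit 13), (nat_lit 12), (nat_lit 13), (nat_lit 1), (nat_lit 13), (nat_lit 12), (nat_lit 12), (nat_lit 3), (nat_lit 5), (nat_lit 7)],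
  [(nat_lit 3), (nat_lit 5), (nat_lit 12), (nat_lit 13), (nat_lit 15), (nat_lit 13), (nat_lit 15), (nat_lit 11), (nat_lit 9), (nat_lit 11), (nat_lit 11), (nat_lit 13), (nat_lit 11), (nat_lit 11), (nat_lit 3), (nat_lit 5), (nat_lit 3)],
  [(nat_lit 7), (nat_lit 13), (nat_lit 3), (nat_lit 12), (nat_lit 7), (nat_lit 15), (nat_lit 13), (nat_lit 15), (nat_lit 13), (nat_lit 15), (nat_lit 7), (nat_lit 1), (nat_lit 9), (nat_lit 13), (nat_lit 11), (nat_lit 3), (nat_lit 5), (nat_lit 1)],
  [(nat_lit 13), (nat_lit 7), (nat_lit 11), (nat_lit 15), (nat_lit 13), (nat_lit 15), (nat_lit 13), (nat_lit 15), (nat_lit 5), (nat_lit 11), (nat_lit 13), (nat_lit 9), (nat_lit 13), (nat_lit 11), (nat_lit 11), (nat_lit 7), (nat_lit 9)],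
  [(nat_lit 7), (nat_lit 13), (nat_lit 9), (nat_lit 15), (nat_lit 13), (nat_lit 15), (nat_lit 13), (nat_lit 7), (nat_lit 12), (nat_lit 9), (nat_lit 11), (nat_lit 13), (nat_lit 12), (nat_lit 9), (nat_lit 11), (nat_lit 3), (nat_lit 5), (nat_lit 9), (nat_lit 1)],
  [(nat_lit 13), (nat_lit 9), (nat_lit 15), (nat_lit 13), (nat_lit 1), (nat_lit 9), (nat_lit 15), (nat_lit 13), (nat_lit 15), (nat_lit 11), (nat_lit 1), (nat_lit 9), (nat_lit 13), (nat_lit 12), (nat_lit 12), (nat_lit 12), (nat_lit 3), (nat_lit 5), (nat_lit 9), (nat_lit 1)],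
  [(nat_lit 3), (nat_lit 15), (nat_lit 13), (nat_lit 7), (nat_lit 15), (nat_lit 13), (nat_lit 15), (nat_lit 12), (nat_lit 7), (nat_lit 13), (nat_lit 9), (nat_lit 12), (nat_lit 12), (nat_lit 1), (nat_lit 9)],
  [(nat_lit 11), (nat_lit 7), (nat_lit 12), (nat_lit 13), (nat_lit 15), (nat_lit 13), (nat_lit 15), (nat_lit 5), (nat_lit 13), (nat_lit 9), (nat_lit 13), (nat_lit 12), (nat_lit 12), (nat_lit 12), (nat_lit 1), (nat_lit 7), (nat_lit 3)],
  [(nat_lit 15), (nat_lit 13), (nat_lit 12), (nat_lit 7), (nat_lit 12), (nat_lit 13), (nat_lit 15), (nat_lit 13), (nat_lit 15), (nat_lit 13), (nat_lit 9), (nat_lit 12), (nat_lit 13), (nat_lit 5), (nat_lit 12), (nat_lit 9), (nat_lit 1), (nat_lit 3)],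
  [(nat_lit 13), (nat_lit 7), (nat_lit 11), (nat_lit 15), (nat_lit 13), (nat_lit 15), (nat_lit 13), (nat_lit 15), (nat_lit 12), (nat_lit 13), (nat_lit 7), (nat_lit 13), (nat_lit 9), (nat_lit 13), (nat_lit 9), (nat_lit 12), (nat_lit 12), (nat_lit 5), (nat_lit 9), (nat_lit 7)],
  [(nat_lit 9), (nat_lit 13), (nat_lit 15), (nat_lit 5), (nat_lit 13), (nat_lit 1), (nat_lit 9), (nat_lit 13), (nat_lit 12)],
  [(nat_lit 11), (nat_lit 7), (nat_lit 1), (nat_lit 15), (nat_lit 13), (nat_lit 15), (nat_lit 13), (nat_lit 15), (nat_lit 5), (nat_lit 12), (nat_lit 5), (nat_lit 7), (nat_lit 9), (nat_lit 1)],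
  [(nat_lit 13), (nat_lit 1), (nat_lit 7), (nat_lit 9), (nat_lit 15), (nat_lit 13), (nat_lit 15), (nat_lit 13), (nat_lit 15), (nat_lit 13), (nat_lit 7), (nat_lit 1), (nat_lit 13), (nat_lit 9), (nat_lit 12), (nat_lit 12), (nat_lit 12), (nat_lit 9), (nat_lit 1), (nat_lit 9), (nat_lit 3)],
  [(nat_lit 5), (nat_lit 13), (nat_lit 7), (nat_lit 15), (nat_lit 13), (nat_lit 5), (nat_lit 15), (nat_lit 13), (nat_lit 15), (nat_lit 13), (nat_lit 7), (nat_lit 13), (nat_lit 11), (nat_lit 11), (nat_lit 1), (nat_lit 9), (nat_lit 1)]]

theorem qx2_0 : allFrom (preRow N Nx2 Wx2 819 10) 0 14 = true := by decide +kernel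

theorem qx2 : ∀ j < 14, preRow N Nx2 Wx2 819 10 j = true := by
  have h : ∀ j < 0, preRow N Nx2 Wx2 819 10 j = true := by simp
  have h := forall_lt_add h (allFrom_iff.1 qx2_0)
  exact h

theorem wx2 : wfAll Nx2 819 = true := by decide +kernel

noncomputable def Px2 : Dat := ⟨(nat_lit 2), (nat_lit 12), (nat_lit 9), (nat_lit 12), (nat_lit 90),
  (BT.node (nat_lit 39) (BT.node (nat_lit 19) (BT.node (nat_lit 9) (BT.node (nat_lit 4) (BT.node (nat_lit 2) (BT.node (nat_lit 1) (BT.leaf []) (BT.leaf [(nat_lit 1), (nat_lit 4)])) (BT.node (nat_lit 3) (BT.leaf []) (BT.leaf [(nat_lit 2), (nat_lit 10)]))) (BT.node (nat_lit 6) (BT.node (nat_lit 5) (BT.leaf [(nat_lit 2), (nat_lit 5)]) (BT.leaf [])) (BT.node (nat_lit 7) (BT.leaf [(nat_lit 3)]) (BT.node (nat_lit 8) (BT.leaf [(nat_lit 3), (nat_lit 6), (nat_lit 9)]) (BT.leaf [(nat_lit 3)]))))) (BT.node (nat_lit 14) (BT.node (nat_lit 11) (BT.node (nat_lit 10) (BT.leaf []) (BT.leaf [(nat_lit 4), (nat_lit 11)])) (BT.node (nat_lit 12) (BT.leaf [(nat_lit 4), (nat_lit 11)]) (BT.node (nat_lit 13) (BT.leaf [(nat_lit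 4), (nat_lit 8)]) (BT.leaf [(nat_lit 4), (nat_lit 7)])))) (BT.node (nat_lit 16) (BT.node (nat_lit 15) (BT.leaf [(nat_lit 11)]) (BT.leaf [(nat_lit 5), (nat_lit 8)])) (BT.node (nat_lit 17) (BT.leaf [(nat_lit 5), (nat_lit 11)]) (BT.node (nat_lit 18) (BT.leaf [(nat_lit 5), (nat_lit 11)]) (BT.leaf [(nat_lit 5), (nat_lit 9)])))))) (BT.node (nat_lit 29) (BT.node (nat_lit 24) (BT.node (nat_lit 21) (BT.node (nat_lit 20) (BT.leaf [(nat_lit 5), (nat_lit 11)]) (BT.leaf [(nat_lit 11)])) (BT.node (nat_lit 22) (BT.leaf [(nat_lit 6), (nat_lit 7), (nat_lit 10), (nat_lit 11)]) (BT.node (nat_lit 23) (BT.leaf [(nat_lit 6)]) (BT.leaf [(nat_lit 6), (nat_lit 9), (nat_lit 11)])))) (BT.node (nat_lit 26) (BT.node (nat_lit 25) (BT.leaf [(nat_lit 6), (nat_lit 11)]) (BT.leaf [(nat_lit 6)])) (BT.node (nat_lit 27) (BT.leaf [(nat_lit 6), (nat_lit 11)]) (BT.node (nat_lit 28) (BT.leaf [(nat_lit 11)]) (BT.leaf [(nat_lit 7)]))))) (BT.node (nat_lit 34) (BT.node (nat_lit 31) (BT.node (nat_lit 30) (BT.leaf [(nat_lit 7), (nat_lit 11)]) (BT.leaf [(nat_lit 7), (nat_lit 10)]))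 (BT.node (nat_lit 32) (BT.leaf [(nat_lit 7)]) (BT.node (nat_lit 33) (BT.leaf [(nat_lit 7)]) (BT.leaf [(nat_lit 7), (nat_lit 11)])))) (BT.node (nat_lit 36) (BT.node (nat_lit 35) (BT.leaf [(nat_lit 7)]) (BT.leaf [])) (BT.node (nat_lit 37) (BT.leaf [(nat_lit 8)]) (BT.node (nat_lit 38) (BT.leaf [(nat_lit 8), (nat_lit 11)]) (BT.leaf [(nat_lit 8)]))))))) (BT.node (nat_lit 58) (BT.node (nat_lit 48) (BT.node (nat_lit 43) (BT.node (nat_lit 41) (BT.node (nat_lit 40) (BT.leaf [(nat_lit 8), (nat_lit 10)]) (BT.leaf [(nat_lit 8)])) (BT.node (nat_lit 42) (BT.leaf [(nat_lit 8)]) (BT.leaf [(nat_lit 8), (nat_lit 11)]))) (BT.node (nat_lit 45) (BT.node (nat_lit 44) (BT.leaf [(nat_lit 8)]) (BT.leaf [])) (BT.node (nat_lit 46) (BT.leaf [(nat_lit 9), (nat_lit 10)]) (BT.node (nat_lit 47) (BT.leaf [(nat_lit 9), (nat_lit 11)]) (BT.leaf [(nat_lit 9)]))))) (BT.node (nat_lit 53) (BT.node (nat_lit 50) (BT.node (nat_lit 49) (BT.leaf [(nat_lit 9)]) (BT.leaf [(nat_lit 9), (nat_lit 11)])) (BT.node (nat_lit 51) (BT.leaf [(nat_lit 9)]) (BT.node (nat_lit 52) (BT.leaf [(nat_lit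 9)]) (BT.leaf [(nat_lit 9)])))) (BT.node (nat_lit 55) (BT.node (nat_lit 54) (BT.leaf [(nat_lit 9)]) (BT.leaf [])) (BT.node (nat_lit 56) (BT.leaf [(nat_lit 10)]) (BT.node (nat_lit 57) (BT.leaf [(nat_lit 10), (nat_lit 11)]) (BT.leaf [(nat_lit 10)])))))) (BT.node (nat_lit 68) (BT.node (nat_lit 63) (BT.node (nat_lit 60) (BT.node (nat_lit 59) (BT.leaf [(nat_lit 10)]) (BT.leaf [(nat_lit 10)])) (BT.node (nat_lit 61) (BT.leaf [(nat_lit 10)]) (BT.node (nat_lit 62) (BT.leaf [(nat_lit 10)]) (BT.leaf [(nat_lit 10)])))) (BT.node (nat_lit 65) (BT.node (nat_lit 64) (BT.leaf [(nat_lit 10)]) (BT.leaf [(nat_lit 10)])) (BT.node (nat_lit 66) (BT.leaf []) (BT.node (nat_lit 67) (BT.leaf [(nat_lit 11)]) (BT.leaf [(nat_lit 11)]))))) (BT.node (nat_lit 73) (BT.node (nat_lit 70) (BT.node (nat_lit 69) (BT.leaf [(nat_lit 11)]) (BT.leaf [(nat_lit 11)])) (BT.node (nat_lit 71) (BT.leaf [(nat_lit 11)]) (BT.node (nat_lit 72) (BT.leaf [(nat_lit 11)]) (BT.leaf [(nat_lit 11)])))) (BT.node (nat_lit 75) (BT.node (nat_lit 74) (BT.leaf [(nat_lit 11)]) (BT.leaf [(nat_lit 11)]))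 (BT.node (nat_lit 76) (BT.leaf [(nat_lit 11)]) (BT.node (nat_lit 77) (BT.leaf [(nat_lit 11)]) (BT.leaf [])))))))),
  [⟨(nat_lit 0), [(nat_lit 0)], [(nat_lit 0), (nat_lit 2), (nat_lit 7)]⟩,
  ⟨(nat_lit 0), [(nat_lit 2)], [(nat_lit 2), (nat_lit 3), (nat_lit 9), (nat_lit 11)]⟩,
  ⟨(nat_lit 0), [(nat_lit 3)], [(nat_lit 0), (nat_lit 7), (nat_lit 8), (nat_lit 10)]⟩,
  ⟨(nat_lit 0), [(nat_lit 4)], [(nat_lit 4), (nat_lit 5), (nat_lit 10)]⟩,
  ⟨(nat_lit 0), [(nat_lit 11)], [(nat_lit 11)]⟩,
  ⟨(nat_lit 0), [(nat_lit 6)], [(nat_lit 4), (nat_lit 7), (nat_lit 10), (nat_lit 11)]⟩,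
  ⟨(nat_lit 0), [(nat_lit 7)], [(nat_lit 8)]⟩,
  ⟨(nat_lit 0), [(nat_lit 1)], [(nat_lit 1), (nat_lit 5), (nat_lit 8), (nat_lit 9)]⟩,
  ⟨(nat_lit 0), [(nat_lit 10)], [(nat_lit 10)]⟩,
  ⟨(nat_lit 0), [(nat_lit 5)], [(nat_lit 5), (nat_lit 6), (nat_lit 9), (nat_lit 10)]⟩,
  ⟨(nat_lit 1), [(nat_lit 1)], [(nat_lit 5), (nat_lit 7), (nat_lit 8), (nat_lit 9), (nat_lit 11)]⟩,
  ⟨(nat_lit 0), [(nat_lit 9)], [(nat_lit 7), (nat_lit 8)]⟩]⟩

noncomputable def Xx2_0 : List Test := [⟨(nat_lit 0), [(nat_lit 4)], [(nat_lit 4), (nat_lit 4)], (nat_lit 0x40000000000000000040000000000000000000000000000000000000000000000000000000000000000000000000000000000000000000000000000000000000000000000000000000000000000000000000000000000000000000000000000000000000000)⟩,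
  ⟨(nat_lit 0), [(nat_lit 5)], [(nat_lit 5), (nat_lit 5)], (nat_lit 0x40000000000000008000000000000000000000000000000000000000000000000000000000000000000000000000000000000000000000000000000000000000000000000000000000000000000000000000000000000000000000000000000000000000000)⟩,
  ⟨(nat_lit 0), [(nat_lit 6)], [(nat_lit 6), (nat_lit 6)], (nat_lit 0x40000000000001000000000000000000000000000000000000000000000000000000000000000000000000000000000000000000000000000000000000000000000000000000000000000000000000000000000000000000000000000000000000000000000)⟩,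
  ⟨(nat_lit 0), [(nat_lit 2)], [(nat_lit 0), (nat_lit 0)], (nat_lit 0x40000000000000000000000000000200000000000000000000008000000000000000000000000000000000000000000000000000000000000000000000000000000000000000000000000000000000000000000000000000000000000000000000000000000)⟩,
  ⟨(nat_lit 0), [(nat_lit 4)], [(nat_lit 0), (nat_lit 0)], (nat_lit 0x40200000000000000000000000040000000000000000000000000000000000000000000000000000000000000000000000000000000000000000000000000000000000000000000000000000000000000000000000000000000000000000000000000000000)⟩,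
  ⟨(nat_lit 0), [(nat_lit 4)], [(nat_lit 1), (nat_lit 1)], (nat_lit 0x40200000000000000000000008000000000000000000000000000000000000000000000000000000000000000000000000000000000000000000000000000000000000000000000000000000000000000000000000000000000000000000000000000000000)⟩,
  ⟨(nat_lit 0), [(nat_lit 4)], [(nat_lit 2), (nat_lit 2)], (nat_lit 0x40000000000000000000000000000000000000000000000000000000000000000000000000001000000000000040000000000000000000000000000000000000000000000000000000000000000000000000000000000000000000000000000000000000000)⟩,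
  ⟨(nat_lit 0), [(nat_lit 4)], [(nat_lit 3), (nat_lit 3)], (nat_lit 0x40000000000000000000000000000000000000000000000000000000000000000000000000000000000000000000000008000000008000000000000000000000000000000000000000000000000000000000000000000000000000000000000000000000000)⟩,
  ⟨(nat_lit 0), [(nat_lit 5)], [(nat_lit 0), (nat_lit 0)], (nat_lit 0x40000000000000000000000000000000000000000000000000000000000000000000000000001000000000000000001000000000000000000000000000000000000000000000000000000000000000000000000000000000000000000000000000000000000)⟩,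
  ⟨(nat_lit 0), [(nat_lit 5)], [(nat_lit 2), (nat_lit 2)], (nat_lit 0x40200000000000000000001000000000000000000000000000000000000000000000000000000000000000000000000000000000000000000000000000000000000000000000000000000000000000000000000000000000000000000000000000000000000)⟩,
  ⟨(nat_lit 0), [(nat_lit 5)], [(nat_lit 3), (nat_lit 3)], (nat_lit 0x40000000000000000000000000000000000000000000000000000040000000000001000000000000000000000000000000000000000000000000000000000000000000000000000000000000000000000000000000000000000000000000000000000000000)⟩,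
  ⟨(nat_lit 0), [(nat_lit 6)], [(nat_lit 3), (nat_lit 3)], (nat_lit 0x40200000000000000000200000000000000000000000000000000000000000000000000000000000000000000000000000000000000000000000000000000000000000000000000000000000000000000000000000000000000000000000000000000000000)⟩,
  ⟨(nat_lit 0), [(nat_lit 7)], [(nat_lit 2), (nat_lit 2)], (nat_lit 0x40000000000000000000000000000200000000000000000200000000000000000000000000000000000000000000000000000000000000000000000000000000000000000000000000000000000000000000000000000000000000000000000000000000000)⟩,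
  ⟨(nat_lit 0), [(nat_lit 8)], [(nat_lit 3), (nat_lit 3)], (nat_lit 0x40000000000000000000000000000200000000000000040000000000000000000000000000000000000000000000000000000000000000000000000000000000000000000000000000000000000000000000000000000000000000000000000000000000000)⟩,
  ⟨(nat_lit 0), [(nat_lit 7)], [(nat_lit 4), (nat_lit 4)], (nat_lit 0x40000000000200000000000000000000000000000000000000000000000000000000000000000000000000000000000000000000000000000000000000000000000000000000000000000000000000000000000000000000000000000000000000000000000)⟩,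
  ⟨(nat_lit 0), [(nat_lit 8)], [(nat_lit 4), (nat_lit 4)], (nat_lit 0x40000000040000000000000000000000000000000000000000000000000000000000000000000000000000000000000000000000000000000000000000000000000000000000000000000000000000000000000000000000000000000000000000000000000)⟩,
  ⟨(nat_lit 0), [(nat_lit 9)], [(nat_lit 5), (nat_lit 5)], (nat_lit 0x40000008000000000000000000000000000000000000000000000000000000000000000000000000000000000000000000000000000000000000000000000000000000000000000000000000000000000000000000000000000000000000000000000000000)⟩,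
  ⟨(nat_lit 0), [(nat_lit 10)], [(nat_lit 4), (nat_lit 4)], (nat_lit 0x40001000000000000000000000000000000000000000000000000000000000000000000000000000000000000000000000000000000000000000000000000000000000000000000000000000000000000000000000000000000000000000000000000000000)⟩,
  ⟨(nat_lit 0), [(nat_lit 1)], [(nat_lit 0), (nat_lit 0)], (nat_lit 0x40200000000000000000000000000000000000000000000000000000000000000000000000000000000000000000000000000000000000000000000000000000000000000000000040000000040000000000000000000000000000000000000000000000000)⟩,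
  ⟨(nat_lit 0), [(nat_lit 2)], [(nat_lit 1), (nat_lit 1)], (nat_lit 0x40200000000000000000000000000000000000000000000000000000000000000000000000000000000000000000000000000000000000000000000000000000001000000001000000000000000000000000000000000000000000000000000000000000000)⟩,
  ⟨(nat_lit 0), [(nat_lit 6)], [(nat_lit 6), (nat_lit 1)], (nat_lit 0x40000000000000000000000008000000000000000000000000000000000000000000000000000000000000000000000000000000000000000000000000000000000000000000000000000000000000000000000000000000000000000000000000000000000)⟩,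
  ⟨(nat_lit 0), [(nat_lit 7)], [(nat_lit 7), (nat_lit 2)], (nat_lit 0x40000000000000000000000000000200000040000000000000000000000000000000000000000000000000000000000000000000000000000000000000000000000000000000000000000000000000000000000000000000000000000000000000000000000)⟩,
  ⟨(nat_lit 0), [(nat_lit 8)], [(nat_lit 8), (nat_lit 3)], (nat_lit 0x40000000000000000000000000000200008000000000000000000000000000000000000000000000000000000000000000000000000000000000000000000000000000000000000000000000000000000000000000000000000000000000000000000000000)⟩,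
  ⟨(nat_lit 0), [(nat_lit 9)], [(nat_lit 9), (nat_lit 0)], (nat_lit 0x40000000000000000000000000000201000000000000000000000000000000000000000000000000000000000000000000000000000000000000000000000000000000000000000000000000000000000000000000000000000000000000000000000000000)⟩,
  ⟨(nat_lit 0), [(nat_lit 6)], [(nat_lit 2), (nat_lit 2)], (nat_lit 0x40200008000000000000001000000000000000000000000000000040000000000000008000000000000000000000000000000000000000000000000000000000000000000000000000000000000000000000000000000000000000000000000000000000000)⟩,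
  ⟨(nat_lit 1), [(nat_lit 0), (nat_lit 0)], [], (nat_lit 0x40000000000000000000000000000200000040000000000200000000000000000000000000000000000000000000000008000000000040001000000000000000000000000000000000000000000000000000200008000000000000000000000000000000000)⟩,
  ⟨(nat_lit 0), [(nat_lit 1)], [(nat_lit 1), (nat_lit 0)], (nat_lit 0x40200000000000000040000000000000000000000000000000000000000000000000000000000000000000000000000000000000000000000000000000000000000000000000000040000008000000000000000000000000000000000000000000000000000)⟩,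
  ⟨(nat_lit 0), [(nat_lit 2)], [(nat_lit 2), (nat_lit 1)], (nat_lit 0x40200000000000008000000000000000000000000000000000000000000000000000000000000000000000000000000000000000000000000000000000000000001000000200000000000000000000000000000000000000000000000000000000000000000)⟩,
  ⟨(nat_lit 1), [(nat_lit 1), (nat_lit 1)], [], (nat_lit 0x40200008000000000000201000000000000000000000000000000040000000000001008000000000000000000000000000000000000000000000000000000000000000000000000000000000000201000000000000000000000000000000000000000000000)⟩,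
  ⟨(nat_lit 1), [(nat_lit 2), (nat_lit 2)], [], (nat_lit 0x40000000000000000000000000000200008040000000000000008000000000000000000000001008000000000000001008000000000000001000000000000000000000000000000000000000000200000000000000000001000000000000000000000000000)⟩,
  ⟨(nat_lit 0), [(nat_lit 7)], [(nat_lit 3), (nat_lit 2)], (nat_lit 0x40000000000000000000000000000000000000000000040000000000000000000000000000000000000000000000000000000000000000000000000000000000000000000000000000000000000000000000000000000000000000000000000000000000000)⟩,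
  ⟨(nat_lit 0), [(nat_lit 4)], [(nat_lit 4), (nat_lit 2)], (nat_lit 0x40000000000000000000001000000000000000000000000000000000000000000000000000001000000001000000000000000000000000000000000000000000000000000000000000000000000000000000000000000000000000000000000000000000000)⟩,
  ⟨(nat_lit 0), [(nat_lit 4)], [(nat_lit 4), (nat_lit 3)], (nat_lit 0x40000000000000000000200000000000000000000000000000000000000000000000000000000000000000000000000008000001000000000000000000000000000000000000000000000000000000000000000000000000000000000000000000000000000)⟩,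
  ⟨(nat_lit 0), [(nat_lit 5)], [(nat_lit 5), (nat_lit 0)], (nat_lit 0x40000000000000000000000000040000000000000000000000000000000000000000000000001000000200000000000000000000000000000000000000000000000000000000000000000000000000000000000000000000000000000000000000000000000)⟩,
  ⟨(nat_lit 0), [(nat_lit 5)], [(nat_lit 5), (nat_lit 3)], (nat_lit 0x40000000000000000000200000000000000000000000000000000040000000040000000000000000000000000000000000000000000000000000000000000000000000000000000000000000000000000000000000000000000000000000000000000000000)⟩,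
  ⟨(nat_lit 0), [(nat_lit 3)], [(nat_lit 1), (nat_lit 1)], (nat_lit 0x40200000000000000000000000000000000000000000000000000040000008000000000040000000000000000000000000000000000000000008000000000040000000000000000000000000000000000000000000000000000000000000000000000000000)⟩,
  ⟨(nat_lit 1), [(nat_lit 3), (nat_lit 3)], [(nat_lit 4)], (nat_lit 0x40200000000000008000000000000200000000001008000000000000000000000000000000000000000000000000000000000000000000000000000000000000001008000000000000000000000000000000000000000000000000000000000001000000000)⟩,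
  ⟨(nat_lit 1), [(nat_lit 5), (nat_lit 5)], [(nat_lit 4)], (nat_lit 0x40201000000200000040000000000200000040000008000000000000000000000000000000000000000000000000000008000001000000000008000000000000000000000000000040000000000000000000000000000000000000000000000001000000000)⟩,
  ⟨(nat_lit 0), [(nat_lit 6)], [(nat_lit 0), (nat_lit 0)], (nat_lit 0x40201000000200000000000000040200000040000000000000008000000000000000000000000000000000000000000008000000000000001000000000000000000000000000000000000000000000000000000000000000000000000000000000000000000)⟩,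
  ⟨(nat_lit 0), [(nat_lit 6)], [(nat_lit 6), (nat_lit 2)], (nat_lit 0x40200008000001000000001000000000000000000000000000000040000008000000000000000000000000000000000000000000000000000000000000000000000000000000000000000000000000000000000000000000000000000000000000000000000)⟩,
  ⟨(nat_lit 0), [(nat_lit 4)], [(nat_lit 3), (nat_lit 0)], (nat_lit 0x40000000000200000000200000000000000000000000000000000000000000000000000000000000000000000000000000000000000000001000000000000000000000000000000000000000000000000000000000000000000000000000000000000000000)⟩,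
  ⟨(nat_lit 0), [(nat_lit 5)], [(nat_lit 3), (nat_lit 2)], (nat_lit 0x40000008000000000000200000000000000000000000000000000000000000000000008000000000000000000000000000000000000000000000000000000000000000000000000000000000000000000000000000000000000000000000000000000000000)⟩,
  ⟨(nat_lit 0), [(nat_lit 6)], [(nat_lit 4), (nat_lit 3)], (nat_lit 0x40000000000200000040000000000000000000000000000000000000000000000000000000000000000000000000000000040000000000000000000000000000000000000000000000000000000000000000000000000000000000000000000000000000000)⟩,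
  ⟨(nat_lit 0), [(nat_lit 7)], [(nat_lit 4), (nat_lit 2)], (nat_lit 0x40000000000000000000000000000000008000000008000000000000000000000000000000000008000000000000000000000000000000000000000000000000000000000000000000000000000000000000000000000000000000000000000000000000000)⟩,
  ⟨(nat_lit 0), [(nat_lit 7)], [(nat_lit 5), (nat_lit 0)], (nat_lit 0x40000000040000000000000000040000000000000000000000000000000000000000000000000008000000000000000000000000000000000000000000000000000000000000000000000000000000000000000000000000000000000000000000000000000)⟩,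
  ⟨(nat_lit 0), [(nat_lit 7)], [(nat_lit 5), (nat_lit 3)], (nat_lit 0x40000008000000000000200000000000000000000000000000000000001000000000000000000000000000000000000000000000000000000000000000000000000000000000000000000000000000000000000000000000000000000000000000000000000)⟩,
  ⟨(nat_lit 0), [(nat_lit 8)], [(nat_lit 1), (nat_lit 0)], (nat_lit 0x40000000000000000040000000040000000000000000000000000000000000000000000000000000000001000000000000000000000000000000000000000000000000000000000000000000000000000000000000000000000000000000000000000000000)⟩,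
  ⟨(nat_lit 0), [(nat_lit 8)], [(nat_lit 5), (nat_lit 3)], (nat_lit 0x40000000000000000000000000000001000000001000000000000000200000000000000000000000000000000000000000000000000000000000000000000000000000000000000000000000000000000000000000000000000000000000000000000000000)⟩,
  ⟨(nat_lit 0), [(nat_lit 9)], [(nat_lit 4), (nat_lit 2)], (nat_lit 0x40000000040000000000001000000000000000000000000000000000200000000000000000000000000000000000000000000000000000000000000000000000000000000000000000000000000000000000000000000000000000000000000000000000000)⟩,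
  ⟨(nat_lit 0), [(nat_lit 4)], [(nat_lit 3), (nat_lit 2)], (nat_lit 0x40000000000000000000000000000000000000000000000000000000000000000000000000000008000000008000000000000000000040000000000000000000000000000000000000000000000000000000000000000000000000000000000000000000000)⟩,
  ⟨(nat_lit 0), [(nat_lit 5)], [(nat_lit 3), (nat_lit 0)], (nat_lit 0x40000000000000000000000000000000000000000000000000000000200000000000000000200000000000008000000000000000000000000000000000000000000000000000000000000000000000000000000000000000000000000000000000000000000)⟩,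
  ⟨(nat_lit 0), [(nat_lit 3)], [(nat_lit 3), (nat_lit 1)], (nat_lit 0x40200000000001000000000000000000000000000000000000000040000008000001000000000000000000000000000000000000000000000008000001000000000000000000000000000000000000000000000000000000000000000000000000000000000)⟩,
  ⟨(nat_lit 1), [(nat_lit 6), (nat_lit 7)], [(nat_lit 7), (nat_lit 6), (nat_lit 4)], (nat_lit 0x40000008040000008000000000000000000000000000000000000000200000000000000000000000000200000000200000000000000000200000000000000000000000000000000000000000000000000000000000000000000000000000000001000000000)⟩,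
  ⟨(nat_lit 1), [(nat_lit 6), (nat_lit 1)], [(nat_lit 1), (nat_lit 6), (nat_lit 8)], (nat_lit 0x40001000040000000000000000000001000000000000000000000000200000000000000000000000000000008040000000000000000040000000000000000000000000000000000000000000000000000000000000000000000000001000000000000000000)⟩,
  ⟨(nat_lit 1), [(nat_lit 6), (nat_lit 9)], [(nat_lit 9), (nat_lit 6), (nat_lit 4)], (nat_lit 0x40001008000000000000000000000000008000000000000000000000200000000000000000000000040200000000000000000200000000000000000000000000000000000000000000000000000000000000000000000000000000000000000001000000000)⟩,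
  ⟨(nat_lit 1), [(nat_lit 7), (nat_lit 7)], [], (nat_lit 0x40000008000000008000000000000000000000000000000000000040200000040000000040001000000200000000200000000000000000000000000000000000001000000001000000000000000000000000000000000000000000000000000000000000000)⟩,
  ⟨(nat_lit 2), [(nat_lit 10), (nat_lit 10)], [], (nat_lit 0x40000008040000008000000000000000000000000000000000000040201000040000000000001008000200000000000008000200000000000000000000000000001000000000000000000000000000000000000000040000000000000000000000000000000)⟩,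
  ⟨(nat_lit 0), [(nat_lit 8)], [(nat_lit 6), (nat_lit 3)], (nat_lit 0x40000000040000000000200000000000000000200000000000000000000000000000000000000000000000000000000000000000000000000000000000000000000000000000000000000000000000000000000000000000000000000000000000000000000)⟩,
  ⟨(nat_lit 1), [(nat_lit 9), (nat_lit 9)], [(nat_lit 4)], (nat_lit 0x40200000000001000000000000000201000000201000000000000040000008040000000000000000000000000000000000000000000000000008040000000000000000000000000000000000000000000000000000000000000000000000000001000000000)⟩,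
  ⟨(nat_lit 0), [(nat_lit 4)], [(nat_lit 2), (nat_lit 1)], (nat_lit 0x40200000000000008000001000000000000000000000000000000000000000000000000000000000000200000000200000000000000000000000000000000000000008000000000000000000000000000000000000000000000000000000000000000000000)⟩,
  ⟨(nat_lit 0), [(nat_lit 6)], [(nat_lit 4), (nat_lit 2)], (nat_lit 0x40000008000000000040000000000000000000000000000000000000200000000200000000000000040000000000000000000000000000000000000000000000000000000000000000000000000000000000000000000000000000000000000000000000000)⟩,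
  ⟨(nat_lit 0), [(nat_lit 5)], [(nat_lit 4), (nat_lit 3)], (nat_lit 0x40000000000000000000200000000000000000000000000000000000001000000200000000000000000000000000000000000200000000000000000000000000000000000000000000000000000000000000000000000000000000000000000000000000000)⟩,
  ⟨(nat_lit 0), [(nat_lit 6)], [(nat_lit 2), (nat_lit 1)], (nat_lit 0x40000008000000008000000008000000000000000000000000000000000000040000000040000000000000000000000000000000000000000000040000000000000000000000000000000000000000000000000000000000000000000000000000000000000)⟩,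
  ⟨(nat_lit 0), [(nat_lit 9)], [(nat_lit 1), (nat_lit 0)], (nat_lit 0x40200000000000000000000000040000000000000008000001000000000000000200000000000000000000000000000000000000000000000000000000000000000000000000000000000000000000000000000000000000000000000000000000000000000)⟩,
  ⟨(nat_lit 0), [(nat_lit 3)], [(nat_lit 2), (nat_lit 1)], (nat_lit 0x40200008000000008000000000000000000000000000000000000000000008000000008000000000000000000000000000000000000000000000040000008000000000040000000000000000000000000000000000000000000000000000000000000000000)⟩,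
  ⟨(nat_lit 1), [(nat_lit 11), (nat_lit 7)], [(nat_lit 7), (nat_lit 11), (nat_lit 4)], (nat_lit 0x40200008040000000000000000000000000000000000000000000000201000000000000040000008000200000000200000000200000000200000000000000000000000000000000000000000000000000000000000000000000000000000000001000000000)⟩,
  ⟨(nat_lit 0), [(nat_lit 6)], [(nat_lit 1), (nat_lit 0)], (nat_lit 0x40201000000000000040000008000000000000000008000001000000000000000000000000000000000000000000000000000001000000200000000200000000000000000000000000000000000000000000000000000000000000000000000000000000000)⟩,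
  ⟨(nat_lit 1), [(nat_lit 2), (nat_lit 0)], [(nat_lit 0), (nat_lit 2)], (nat_lit 0x40000000000000000000000000000000000000000000000200008000000000000000000000000008000000000040001000000000000040000000000000000000000000000000000000000000000000000040000008000000000000000000000000000000000)⟩,
  ⟨(nat_lit 0), [(nat_lit 2)], [(nat_lit 1), (nat_lit 0)], (nat_lit 0x40201000000000000040000000000000008000001008000001000000000000000000000000001000000200000000000000000000000000000000000000000000000008000000008000001000000000000000000000000000000000000000000000000000000)⟩,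
  ⟨(nat_lit 0), [(nat_lit 3)], [(nat_lit 1), (nat_lit 0)], (nat_lit 0x40001008000000000000000000000201000000000000000000000000000000000200000000200000000000000000000008040000000000000000000200000000200000000000000000200000000000000000000000000000000000000000000000000000000)⟩,
  ⟨(nat_lit 1), [(nat_lit 1), (nat_lit 0)], [(nat_lit 0), (nat_lit 1), (nat_lit 8)], (nat_lit 0x40001000000200000000001000040000000000000000000000000000001000000000008000200000000000000000000000000000008040000000000000000000000000000000000000000000000001000040000000000000000000001000000000000000000)⟩,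
  ⟨(nat_lit 1), [(nat_lit 2), (nat_lit 1)], [(nat_lit 1), (nat_lit 2)], (nat_lit 0x40001000040200000000000000040000008000000000040200000000201000000000000000200000000000008040000000000000008040000000000000000000000000000000000000000000000001000040000008000000000000000000000000000000000)⟩]

noncomputable def cx2 : Cert := ⟨Px2, (nat_lit 0), Xx2_0,
  [],
  [(nat_lit 0),
  (nat_lit 0),
  (nat_lit 0),
  (nat_lit 0),
  (nat_lit 0x40000000000000000000000000000000000000000000000000000000000000000000000000000000000000000000000000000000000000000000000000000000000000000000000000000000000000000000000000000200000000000000000000000000000),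
  (nat_lit 0x40000000000000000000000000000000000000000000000000000000000000000000000000000000000000000000000000000000000000000000000000000000000000000000000000000000000000000000001000000000000000000000000000000000000),
  (nat_lit 0x40000000000000000000000000000000000000000000000000000000000000000000000000000000000000000000000000000000000000000000000000000000000000040000000000000000000000008000000000000000000000000000000000000000000),
  (nat_lit 0x40000000000000000000000000000000000000000000000000000000000000000000000000000000000000000000000000000000000000000000000000000000000000000000000000200000000000000000000000000000000000000000000000000000000),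
  (nat_lit 0x40000000000000000000000000000000000000000000000000000000000000000000000000000000000000000000000000000000000000000000000000000000000000000000000000001000000000000000000000000000000000000000000000000000000),
  (nat_lit 0x40000000000000000000000000000000000000000000000000000000000000000000000000000000000000000000000000000000000000000000000000000000000000040000000000000000000000000000000000000000000000000000000000000000000),
  (nat_lit 0x40000000000000000000000000000000000000000000000000000000000000000000000000000000000000000000000000000000000000000000000000000000000000000000000000000000000000000000000008000000000000000000000000000000000),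
  (nat_lit 0x40000000000000000000000000000000000000000000000000000000000000000000000000000000000000000000000000000000000000000000000000000000000000000000000000000000040000000000000000000000000000000000000000000000000)],
  (BT.node (nat_lit 39) (BT.node (nat_lit 19) (BT.node (nat_lit 9) (BT.node (nat_lit 4) (BT.node (nat_lit 2) (BT.node (nat_lit 1) (BT.leaf (nat_lit 0x8800046300f03384a1)) (BT.leaf (nat_lit 0))) (BT.node (nat_lit 3) (BT.leaf (nat_lit 0x239d1b95040a9a80b)) (BT.leaf (nat_lit 0)))) (BT.node (nat_lit 6) (BT.node (nat_lit 5) (BT.leaf (nat_lit 0)) (BT.leaf (nat_lit 0xc00020024002c16a18))) (BT.node (nat_lit 7) (BT.leaf (nat_lit 0xc80020120000d3ab78)) (BT.node (nat_lit 8) (BT.leaf (nat_lit 0)) (BT.leaf (nat_lit 0x880004714080616381)))))) (BT.node (nat_lit 14) (BT.node (nat_lit 11) (BT.node (nat_lit 10) (BT.leaf (nat_lit 0x880004734090616581)) (BT.leaf (nat_lit 0))) (BT.node (nat_lit 12) (BT.leaf (nat_lit 67371009)) (BT.node (nat_lit 13) (BT.leaf (nat_lit 0)) (BT.leaf (nat_lit 0))))) (BT.node (nat_lit 16) (BT.node (nat_lit 15) (BT.leaf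 (nat_lit 1310752)) (BT.leaf (nat_lit 0x12a890d00680db8022))) (BT.node (nat_lit 17) (BT.leaf (nat_lit 0x7ec120b700e44a30)) (BT.node (nat_lit 18) (BT.leaf (nat_lit 0x7ec120b708ec4a32)) (BT.leaf (nat_lit 0))))))) (BT.node (nat_lit 29) (BT.node (nat_lit 24) (BT.node (nat_lit 21) (BT.node (nat_lit 20) (BT.leaf (nat_lit 0x4e80d8a5807f4a02)) (BT.leaf (nat_lit 0x7ec120b700fc4a10))) (BT.node (nat_lit 22) (BT.leaf (nat_lit 0xe4f6f6aea6406f1802)) (BT.node (nat_lit 23) (BT.leaf (nat_lit 0x7641e00a80420826)) (BT.leaf (nat_lit 0x106019a250066c217))))) (BT.node (nat_lit 26) (BT.node (nat_lit 25) (BT.leaf (nat_lit 0x30487aa38134c631)) (BT.leaf (nat_lit 0x690c03147006b002a))) (BT.node (nat_lit 27) (BT.leaf (nat_lit 0x6019aa50177c231)) (BT.node (nat_lit 28) (BT.leaf (nat_lit 0x304078238035ca31)) (BT.leaf (nat_lit 0x10000104820)))))) (BT.node (nat_lit 34) (BT.node (nat_lit 31) (BT.node (nat_lit 30) (BT.leaf (nat_lit 0x76d1b8a7403d6802)) (BT.leaf (nat_lit 0xc00020020000c33a00))) (BT.node (nat_lit 32) (BT.leaf (nat_lit 0x140403228b8)) (BT.node (nat_lit 33)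 (BT.leaf (nat_lit 0x14140222018)) (BT.leaf (nat_lit 0x24611a8a100774801))))) (BT.node (nat_lit 36) (BT.node (nat_lit 35) (BT.leaf (nat_lit 0x40000004001)) (BT.leaf (nat_lit 0x14040322838))) (BT.node (nat_lit 37) (BT.leaf (nat_lit 0x400080000311)) (BT.node (nat_lit 38) (BT.leaf (nat_lit 0x468098a7006f4a21)) (BT.leaf (nat_lit 0x400080000251)))))))) (BT.node (nat_lit 58) (BT.node (nat_lit 48) (BT.node (nat_lit 43) (BT.node (nat_lit 41) (BT.node (nat_lit 40) (BT.leaf (nat_lit 0xc00022120000d3ba30)) (BT.leaf (nat_lit 0x400000100031))) (BT.node (nat_lit 42) (BT.leaf (nat_lit 0x400280100221)) (BT.leaf (nat_lit 0x2761088a10067ca20)))) (BT.node (nat_lit 45) (BT.node (nat_lit 44) (BT.leaf (nat_lit 0x100000108030)) (BT.leaf (nat_lit 0x400080000211))) (BT.node (nat_lit 46) (BT.leaf (nat_lit 0xc00027120000c33810)) (BT.node (nat_lit 47) (BT.leaf (nat_lit 0x460198a10066c033)) (BT.leaf (nat_lit 0x20000110820)))))) (BT.node (nat_lit 53) (BT.node (nat_lit 50) (BT.node (nat_lit 49) (BT.leaf (nat_lit 0x20001100e20)) (BT.leaf (nat_lit 0x2661188a100764801)))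 (BT.node (nat_lit 51) (BT.leaf (nat_lit 0x20401000200)) (BT.node (nat_lit 52) (BT.leaf (nat_lit 0x28001110824)) (BT.leaf (nat_lit 0x200000110820))))) (BT.node (nat_lit 55) (BT.node (nat_lit 54) (BT.leaf (nat_lit 0x1000000108220)) (BT.leaf (nat_lit 0x20001100a20))) (BT.node (nat_lit 56) (BT.leaf (nat_lit 1073750024)) (BT.node (nat_lit 57) (BT.leaf (nat_lit 0x2e61190a14026e821)) (BT.leaf (nat_lit 1073754112))))))) (BT.node (nat_lit 68) (BT.node (nat_lit 63) (BT.node (nat_lit 60) (BT.node (nat_lit 59) (BT.leaf (nat_lit 1073741824)) (BT.leaf (nat_lit 0x18004050a030))) (BT.node (nat_lit 61) (BT.leaf (nat_lit 0x180004090a220)) (BT.node (nat_lit 62) (BT.leaf (nat_lit 0x200000000108820)) (BT.leaf (nat_lit 1075847168))))) (BT.node (nat_lit 65) (BT.node (nat_lit 64) (BT.leaf (nat_lit 1077944320)) (BT.leaf (nat_lit 1082138624))) (BT.node (nat_lit 66) (BT.leaf (nat_lit 1073750016)) (BT.node (nat_lit 67) (BT.leaf (nat_lit 1048624)) (BT.leaf (nat_lit 1048576)))))) (BT.node (nat_lit 73) (BT.node (nat_lit 70) (BT.node (nat_lit 69) (BT.leaf (nat_lit 1049120))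 (BT.leaf (nat_lit 1050656))) (BT.node (nat_lit 71) (BT.leaf (nat_lit 1)) (BT.node (nat_lit 72) (BT.leaf (nat_lit 2)) (BT.leaf (nat_lit 4))))) (BT.node (nat_lit 75) (BT.node (nat_lit 74) (BT.leaf (nat_lit 16384)) (BT.leaf (nat_lit 32768))) (BT.node (nat_lit 76) (BT.leaf (nat_lit 65536)) (BT.node (nat_lit 77) (BT.leaf (nat_lit 131072)) (BT.leaf (nat_lit 1048608)))))))))⟩

theorem okx2 : cx2.OK := Cert.ok_of_check (by decide) (by decide +kernel)


noncomputable def Lx2 : List Lvl := [⟨(nat_lit 0), [[(nat_lit 3), (nat_lit 23)],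
  [(nat_lit 9)],
  [(nat_lit 11)],
  [(nat_lit 13), (nat_lit 19)],
  [(nat_lit 15)],
  [(nat_lit 17)],
  [(nat_lit 19)],
  [(nat_lit 21)],
  [(nat_lit 23)]], (nat_lit 1)⟩,
  ⟨(nat_lit 1), [[(nat_lit 1), (nat_lit 9), (nat_lit 15), (nat_lit 17)],
  [(nat_lit 5), (nat_lit 11), (nat_lit 17)],
  [(nat_lit 7), (nat_lit 13), (nat_lit 15), (nat_lit 21)]], (nat_lit 1)⟩]


noncomputable def gx2 : List (List Nat) := [[(nat_lit 25)],
  [(nat_lit 27)]]

theorem hx2_0 : allFrom (relRow (sameW Nx2 819 10) 0 Px2) 0 12 = true := by decide +kernel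

theorem hx2 : ∀ j < 12, relRow (sameW Nx2 819 10) 0 Px2 j = true := by
  have h : ∀ j < 0, relRow (sameW Nx2 819 10) 0 Px2 j = true := by simp
  have h := forall_lt_add h (allFrom_iff.1 hx2_0)
  exact h

theorem px2 : lall (prAt (sameW Nx2 819 10) 0 gx2) Px2.prs = true := by decide +kernel

theorem lx2 : lowOK Nx2 819 0 Px2 Lx2 = true := by decide +kernel

theorem pbdx2 (mdl : Mdl D N f H bs) (card : Nat.card H = 211341312) : PBd H 2 1 :=
  have h := (mdl.new (k := 10) (l := 14) (by decide) wx2 (by decide +kernel) (by decide +kernel) qx2)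
  h.pbd (h.sameW (k := 10) (by decide)) okx2 (gs := gx2) hx2 px2 lx2 card (by decide) rfl rfl

noncomputable def Wx3 : List (List Nat) := [[(nat_lit 13), (nat_lit 15), (nat_lit 13), (nat_lit 1), (nat_lit 9), (nat_lit 15), (nat_lit 13), (nat_lit 15), (nat_lit 5), (nat_lit 13), (nat_lit 11), (nat_lit 13), (nat_lit 9), (nat_lit 12), (nat_lit 12), (nat_lit 7), (nat_lit 1), (nat_lit 3)],
  [(nat_lit 11), (nat_lit 13), (nat_lit 12), (nat_lit 15), (nat_lit 13), (nat_lit 15), (nat_lit 13), (nat_lit 15), (nat_lit 9), (nat_lit 7), (nat_lit 13), (nat_lit 9), (nat_lit 11), (nat_lit 3), (nat_lit 5)],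
  [(nat_lit 9), (nat_lit 15), (nat_lit 13), (nat_lit 15), (nat_lit 13), (nat_lit 7), (nat_lit 15), (nat_lit 13), (nat_lit 15), (nat_lit 13), (nat_lit 12), (nat_lit 1), (nat_lit 7), (nat_lit 13), (nat_lit 12), (nat_lit 9), (nat_lit 11), (nat_lit 5), (nat_lit 9), (nat_lit 7)],
  [(nat_lit 13), (nat_lit 1), (nat_lit 3), (nat_lit 5), (nat_lit 15), (nat_lit 13), (nat_lit 15), (nat_lit 13), (nat_lit 15), (nat_lit 5), (nat_lit 13), (nat_lit 7), (nat_lit 1), (nat_lit 13), (nat_lit 11), (nat_lit 5), (nat_lit 7), (nat_lit 9), (nat_lit 1), (nat_lit 3)],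
  [(nat_lit 13), (nat_lit 11), (nat_lit 5), (nat_lit 15), (nat_lit 13), (nat_lit 15), (nat_lit 13), (nat_lit 15), (nat_lit 7), (nat_lit 1), (nat_lit 9), (nat_lit 13), (nat_lit 9), (nat_lit 11), (nat_lit 1), (nat_lit 7), (nat_lit 3)],
  [(nat_lit 11), (nat_lit 7), (nat_lit 15), (nat_lit 13), (nat_lit 15), (nat_lit 13), (nat_lit 15), (nat_lit 12), (nat_lit 1), (nat_lit 9), (nat_lit 1), (nat_lit 3)]]

theorem qx3_0 : allFrom (preRow N Nx3 Wx3 819 10) 0 6 = true := by decide +kernel

theorem qx3 : ∀ j < 6, preRow N Nx3 Wx3 819 10 j = true := by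
  have h : ∀ j < 0, preRow N Nx3 Wx3 819 10 j = true := by simp
  have h := forall_lt_add h (allFrom_iff.1 qx3_0)
  exact h

theorem wx3 : wfAll Nx3 819 = true := by decide +kernel

noncomputable def Px3 : Dat := ⟨(nat_lit 3), (nat_lit 4), (nat_lit 7), (nat_lit 6), (nat_lit 16),
  (BT.node (nat_lit 5) (BT.node (nat_lit 2) (BT.node (nat_lit 1) (BT.leaf []) (BT.leaf [(nat_lit 1), (nat_lit 2)])) (BT.node (nat_lit 3) (BT.leaf []) (BT.node (nat_lit 4) (BT.leaf [(nat_lit 2), (nat_lit 3)]) (BT.leaf [(nat_lit 2), (nat_lit 3)])))) (BT.node (nat_lit 7) (BT.node (nat_lit 6) (BT.leaf []) (BT.leaf [(nat_lit 3)])) (BT.node (nat_lit 8) (BT.leaf [(nat_lit 3)]) (BT.node (nat_lit 9) (BT.leaf [(nat_lit 3)]) (BT.leaf []))))),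
  [⟨(nat_lit 0), [(nat_lit 2)], [(nat_lit 2), (nat_lit 2)]⟩,
  ⟨(nat_lit 1), [(nat_lit 1)], [(nat_lit 1), (nat_lit 1)]⟩,
  ⟨(nat_lit 1), [(nat_lit 2)], [(nat_lit 2), (nat_lit 2), (nat_lit 3)]⟩,
  ⟨(nat_lit 1), [(nat_lit 3)], [(nat_lit 3)]⟩,
  ⟨(nat_lit 1), [(nat_lit 0)], [(nat_lit 0), (nat_lit 1), (nat_lit 2)]⟩,
  ⟨(nat_lit 0), [(nat_lit 0)], [(nat_lit 0), (nat_lit 0), (nat_lit 1), (nat_lit 1), (nat_lit 2)]⟩]⟩

noncomputable def Xx3_0 : List Test := [⟨(nat_lit 1), [(nat_lit 0), (nat_lit 0), (nat_lit 0)], [], (nat_lit 0x10000000020000000000000000000)⟩,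
  ⟨(nat_lit 2), [(nat_lit 1), (nat_lit 1), (nat_lit 1)], [], (nat_lit 0x10000000000000100000000000000)⟩,
  ⟨(nat_lit 0), [(nat_lit 2)], [(nat_lit 0), (nat_lit 0), (nat_lit 0)], (nat_lit 0x10200000000000000000000000000)⟩,
  ⟨(nat_lit 0), [(nat_lit 3)], [(nat_lit 1), (nat_lit 0)], (nat_lit 0x20008000000000000000000000000)⟩,
  ⟨(nat_lit 0), [(nat_lit 1)], [(nat_lit 0), (nat_lit 0), (nat_lit 0)], (nat_lit 0x10204001020000000000000000000)⟩,
  ⟨(nat_lit 0), [(nat_lit 2)], [(nat_lit 1), (nat_lit 0)], (nat_lit 0x20004101000000000000000000000)⟩,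
  ⟨(nat_lit 2), [(nat_lit 2), (nat_lit 1)], [(nat_lit 1), (nat_lit 2), (nat_lit 3)], (nat_lit 0x20208080000000000000000400000)⟩,
  ⟨(nat_lit 2), [(nat_lit 2), (nat_lit 4)], [(nat_lit 4), (nat_lit 2), (nat_lit 3)], (nat_lit 0x20204001000808000000000400000)⟩,
  ⟨(nat_lit 1), [(nat_lit 5), (nat_lit 5), (nat_lit 5)], [], (nat_lit 0x20208101000410200040000000000)⟩]

noncomputable def cx3 : Cert := ⟨Px3, (nat_lit 0), Xx3_0,
  [],
  [(nat_lit 0),
  (nat_lit 0),
  (nat_lit 0x10000000000000002000000000000),
  (nat_lit 0x10000000000008000000000000000)],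
  (BT.node (nat_lit 5) (BT.node (nat_lit 2) (BT.node (nat_lit 1) (BT.leaf (nat_lit 18753)) (BT.leaf (nat_lit 0))) (BT.node (nat_lit 3) (BT.leaf (nat_lit 6)) (BT.node (nat_lit 4) (BT.leaf (nat_lit 0)) (BT.leaf (nat_lit 4158))))) (BT.node (nat_lit 7) (BT.node (nat_lit 6) (BT.leaf (nat_lit 2)) (BT.leaf (nat_lit 226))) (BT.node (nat_lit 8) (BT.leaf (nat_lit 415)) (BT.node (nat_lit 9) (BT.leaf (nat_lit 27)) (BT.leaf (nat_lit 18))))))⟩

theorem okx3 : cx3.OK := Cert.ok_of_check (by decide) (by decide +kernel)


noncomputable def Lx3 : List Lvl := [⟨(nat_lit 0), [[(nat_lit 1), (nat_lit 7)],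
  [(nat_lit 1), (nat_lit 7)],
  [(nat_lit 3), (nat_lit 7)],
  [(nat_lit 3), (nat_lit 7)],
  [(nat_lit 5)],
  [(nat_lit 5)],
  [(nat_lit 7)],
  [(nat_lit 7)]], (nat_lit 1)⟩]


noncomputable def gx3 : List (List Nat) := [[(nat_lit 9)],
  [(nat_lit 11)]]

theorem hx3_0 : allFrom (relRow (sameW Nx3 819 10) 0 Px3) 0 4 = true := by decide +kernel

theorem hx3 : ∀ j < 4, relRow (sameW Nx3 819 10) 0 Px3 j = true := by
  have h : ∀ j < 0, relRow (sameW Nx3 819 10) 0 Px3 j = true := by simp
  have h := forall_lt_add h (allFrom_iff.1 hx3_0)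
  exact h

theorem px3 : lall (prAt (sameW Nx3 819 10) 0 gx3) Px3.prs = true := by decide +kernel

theorem lx3 : lowOK Nx3 819 0 Px3 Lx3 = true := by decide +kernel

theorem pbdx3 (mdl : Mdl D N f H bs) (card : Nat.card H = 211341312) : PBd H 3 1 :=
  have h := (mdl.new (k := 10) (l := 6) (by decide) wx3 (by decide +kernel) (by decide +kernel) qx3)
  h.pbd (h.sameW (k := 10) (by decide)) okx3 (gs := gx3) hx3 px3 lx3 card (by decide) rfl rfl

noncomputable def Wx7 : List (List Nat) := [[(nat_lit 7), (nat_lit 12), (nat_lit 13), (nat_lit 5), (nat_lit 15), (nat_lit 13), (nat_lit 15), (nat_lit 13), (nat_lit 15), (nat_lit 1), (nat_lit 9), (nat_lit 13), (nat_lit 9), (nat_lit 12), (nat_lit 12), (nat_lit 7), (nat_lit 9)],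
  [(nat_lit 9), (nat_lit 12), (nat_lit 13), (nat_lit 11), (nat_lit 5), (nat_lit 15), (nat_lit 13), (nat_lit 15), (nat_lit 13), (nat_lit 15), (nat_lit 13), (nat_lit 11), (nat_lit 5), (nat_lit 13), (nat_lit 11), (nat_lit 13), (nat_lit 12), (nat_lit 9), (nat_lit 11), (nat_lit 3), (nat_lit 5), (nat_lit 7), (nat_lit 3)],
  [(nat_lit 7), (nat_lit 13), (nat_lit 12), (nat_lit 9), (nat_lit 12), (nat_lit 15), (nat_lit 13), (nat_lit 15), (nat_lit 13), (nat_lit 15), (nat_lit 1), (nat_lit 11), (nat_lit 9), (nat_lit 13), (nat_lit 11), (nat_lit 11), (nat_lit 11), (nat_lit 3)],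
  [(nat_lit 12), (nat_lit 13), (nat_lit 9), (nat_lit 13), (nat_lit 15), (nat_lit 13), (nat_lit 15), (nat_lit 12), (nat_lit 9), (nat_lit 13), (nat_lit 9), (nat_lit 11), (nat_lit 11), (nat_lit 5), (nat_lit 7), (nat_lit 1)]]

theorem qx7_0 : allFrom (preRow N Nx7 Wx7 819 10) 0 4 = true := by decide +kernel

theorem qx7 : ∀ j < 4, preRow N Nx7 Wx7 819 10 j = true := by
  have h : ∀ j < 0, preRow N Nx7 Wx7 819 10 j = true := by simp
  have h := forall_lt_add h (allFrom_iff.1 qx7_0)
  exact h

theorem wx7 : wfAll Nx7 819 = true := by decide +kernel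

noncomputable def Px7 : Dat := ⟨(nat_lit 7), (nat_lit 2), (nat_lit 8), (nat_lit 4), (nat_lit 7),
  (BT.node (nat_lit 1) (BT.leaf []) (BT.node (nat_lit 2) (BT.leaf [(nat_lit 1)]) (BT.leaf []))),
  [⟨(nat_lit 0), [(nat_lit 0)], [(nat_lit 1), (nat_lit 1), (nat_lit 1), (nat_lit 1)]⟩,
  ⟨(nat_lit 0), [(nat_lit 1)], [(nat_lit 0), (nat_lit 0), (nat_lit 0), (nat_lit 0), (nat_lit 0)]⟩,
  ⟨(nat_lit 1), [(nat_lit 1)], [(nat_lit 0), (nat_lit 0), (nat_lit 0), (nat_lit 0), (nat_lit 0), (nat_lit 1), (nat_lit 1), (nat_lit 1), (nat_lit 1), (nat_lit 1)]⟩,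
  ⟨(nat_lit 1), [(nat_lit 0)], [(nat_lit 1), (nat_lit 1)]⟩]⟩

noncomputable def Xx7_0 : List Test := [⟨(nat_lit 1), [(nat_lit 0), (nat_lit 0), (nat_lit 0), (nat_lit 0), (nat_lit 0), (nat_lit 0), (nat_lit 0)], [], (nat_lit 0x604000600000000)⟩,
  ⟨(nat_lit 1), [(nat_lit 1), (nat_lit 1), (nat_lit 1), (nat_lit 1), (nat_lit 1), (nat_lit 1), (nat_lit 1)], [], (nat_lit 0x606000500000000)⟩,
  ⟨(nat_lit 2), [(nat_lit 2), (nat_lit 3)], [(nat_lit 3), (nat_lit 2)], (nat_lit 0x300030000000000)⟩]

noncomputable def cx7 : Cert := ⟨Px7, (nat_lit 0), Xx7_0,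
  [],
  [(nat_lit 0),
  (nat_lit 0)],
  (BT.node (nat_lit 1) (BT.leaf (nat_lit 18)) (BT.node (nat_lit 2) (BT.leaf (nat_lit 98)) (BT.leaf (nat_lit 34))))⟩

theorem okx7 : cx7.OK := Cert.ok_of_check (by decide) (by decide +kernel)


noncomputable def Lx7 : List Lvl := [⟨(nat_lit 0), [[(nat_lit 1), (nat_lit 3), (nat_lit 3), (nat_lit 3)],
  [(nat_lit 1), (nat_lit 3), (nat_lit 3), (nat_lit 3)],
  [(nat_lit 1), (nat_lit 3), (nat_lit 3), (nat_lit 3)],
  [(nat_lit 1), (nat_lit 3), (nat_lit 3), (nat_lit 3)],
  [(nat_lit 1), (nat_lit 3), (nat_lit 3), (nat_lit 3)],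
  [(nat_lit 1), (nat_lit 3), (nat_lit 3), (nat_lit 3)],
  [(nat_lit 3)],
  [(nat_lit 3)],
  [(nat_lit 3)],
  [(nat_lit 3)],
  [(nat_lit 3)],
  [(nat_lit 3)]], (nat_lit 1)⟩]


noncomputable def gx7 : List (List Nat) := [[(nat_lit 5)],
  [(nat_lit 7)]]

theorem hx7_0 : allFrom (relRow (sameW Nx7 819 10) 0 Px7) 0 2 = true := by decide +kernel

theorem hx7 : ∀ j < 2, relRow (sameW Nx7 819 10) 0 Px7 j = true := by
  have h : ∀ j < 0, relRow (sameW Nx7 819 10) 0 Px7 j = true := by simp
  have h := forall_lt_add h (allFrom_iff.1 hx7_0)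
  exact h

theorem px7 : lall (prAt (sameW Nx7 819 10) 0 gx7) Px7.prs = true := by decide +kernel

theorem lx7 : lowOK Nx7 819 0 Px7 Lx7 = true := by decide +kernel

theorem pbdx7 (mdl : Mdl D N f H bs) (card : Nat.card H = 211341312) : PBd H 7 1 :=
  have h := (mdl.new (k := 10) (l := 4) (by decide) wx7 (by decide +kernel) (by decide +kernel) qx7)
  h.pbd (h.sameW (k := 10) (by decide)) okx7 (gs := gx7) hx7 px7 lx7 card (by decide) rfl rfl

theorem mult (mdl : Mdl D N f H bs) (card : Nat.card H = 211341312) : Nat.card (Mult H) ≤ 1 :=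
  card_mult_le (b := 13) (k := 12) card [(2, 1), (3, 1), (7, 1)] (by decide +kernel) (by
    simp only [List.mem_cons, List.not_mem_nil, or_false, forall_eq_or_imp, forall_eq]
    exact ⟨⟨by decide, pbdx2 mdl card⟩, ⟨by decide, pbdx3 mdl card⟩, ⟨by decide, pbdx7 mdl card⟩⟩)

theorem schur {K : Type*} [Field K] [Fintype K] (hK : Fintype.card K = 8) :
    HasCyclicSchurMultiplier (twistedD4 K 2) 1 := by
  have hc : Nat.card (twistedD4 K 2) = 211341312 := CF.BN.D4_card Nat.prime_two.isPrimePow hK
  have : Finite (twistedD4 K 2) := Nat.finite_of_card_ne_zero (by rw [hc]; decide)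
  obtain ⟨el, hT⟩ := exists_ok_tab fld hK
  have ht : T8.Tot := tabT_tot _ _ _ (by decide)
  have pw2 : ∀ a, el (T8.pw a 2) = el a ^ 2 ∧ el (T8.pw a 4) = el a ^ 2 ^ 2 := fun a => ⟨hT.pw ht a 2, hT.pw ht a 4⟩
  have c1 : T8.mac 1 1 1 = 0 := by decide +kernel
  have e : T8.pw 1 2 = 1 ∧ T8.pw 1 4 = 1 ∧ T8.pw 2 2 = 4 ∧ T8.pw 2 4 = 6 := by decide +kernel
  obtain ⟨Ω, _, D, g, h1, h2⟩ := linU.hasReps hT finSumFinEquiv
    ((Units.coeHom _).comp (twistedD4 K 2).subtype) (fun i hi => by
      have a := pw2 1
      have b := pw2 2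
      rw [e.1, e.2.1] at a
      rw [e.2.2.1, e.2.2.2] at b
      interval_cases i
      exacts [exists_gen hT ht c1 mem0 (.inl ⟨el 1, a.1.symm, _, .head _, rfl⟩),
        exists_gen hT ht c1 mem1 (.inl ⟨el 1, a.1.symm, _, .tail _ (.head _), rfl⟩),
        exists_gen hT ht c1 mem2 (.inr ⟨el 1, _, .head _, by rw [← a.1, ← a.2]; rfl⟩),
        exists_gen hT ht c1 mem3 (.inr ⟨el 2, _, .head _, by rw [← b.1, ← b.2]; rfl⟩),
        exists_gen hT ht c1 mem4 (.inr ⟨el 1, _, .tail _ (.head _), by rw [← a.1, ← a.2]; rfl⟩)])
  have h3 := reps_new (h1.extend (k := 10) (by decide) h2 slpU) (k := 10) (l := 8) (by decide) D43.wN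
    (by decide +kernel) (by decide +kernel) qN
  exact trivial_of_mult_le (mult_of_top (mult (mdl_of_exact (exact_of_le (c := C) h3 (by decide) (A := ⊤)
    (fun _ _ => trivial) (Subgroup.card_top.trans hc).le okC) fun _ => trivial) (card_top_eq hc)))

end CF.BN.D42
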