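import Cfsg.Agent.Comp.TCDefs

set_option autoImplicit false
set_option maxRecDepth 1000000
set_option maxHeartbeats 0
set_option Elab.async false

namespace CF.BN.O82m

open CF.Comp

noncomputable def U0_0 : Net := (Net.cons (nat_lit 1) (nat_lit 0x150150045454000400541500500440) (Net.cons (nat_lit 2) (nat_lit 0x113211133330222002013332020200) (Net.cons (nat_lit 4) (nat_lit 0x7060807040d0a000c06070a0e0000) (Net.cons (nat_lit 8) (nat_lit 0xbc0067001b0079005500040000) (Net.cons (nat_lit 16) (nat_lit 0x2000005f380000f74200002000) (Net.cons (nat_lit 32) (nat_lit 0x3c1003000000000c800000) (Net.cons (nat_lit 64) (nat_lit 0x3d79130c800000) (Net.cons (nat_lit 32) (nat_lit 0x3dff3b000000009b5e2000) (Net.cons (nat_lit 16) (nat_lit 0x42000084880000adfb0000df00) (Net.cons (nat_lit 8) (nat_lit 0xfa006800ce00b90008000f00f0) (Net.cons (nat_lit 4) (nat_lit 0x4000906020e030002010e0706030c) (Net.cons (nat_lit 2) (nat_lit 0x2213203110211133021232002212) (Net.cons (nat_lit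 1) (nat_lit 0x5500050445050515144144014111) Net.nil)))))))))))))
noncomputable def U0_1 : Net := (Net.cons (nat_lit 1) (nat_lit 0x111140450404140141410400500141) (Net.cons (nat_lit 2) (nat_lit 0x10021030103021133120001332102) (Net.cons (nat_lit 4) (nat_lit 0x6050d000d09020a04080709000100) (Net.cons (nat_lit 8) (nat_lit 0x4400650030005000e9004c002a) (Net.cons (nat_lit 16) (nat_lit 0x200000a04b0000098700002300) (Net.cons (nat_lit 32) (nat_lit 0x20940a00000000e7000000) (Net.cons (nat_lit 64) (nat_lit 0x3096ebe7000000) (Net.cons (nat_lit 32) (nat_lit 0x34ffeb000000002fff2300) (Net.cons (nat_lit 16) (nat_lit 0x5e0000610400007bb70000e66a) (Net.cons (nat_lit 8) (nat_lit 0x5f00ce008700bb003c00a40098) (Net.cons (nat_lit 4) (nat_lit 0x509080306070a01090e02080d0505) (Net.cons (nat_lit 2) (nat_lit 0x111103003022020300230330131121) (Net.cons (nat_lit 1) (nat_lit 0x105015044444040441045445045105) Net.nil)))))))))))))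
noncomputable def U0 : List Net := [U0_0, U0_1]
noncomputable def U1_0 : Net := (Net.cons (nat_lit 1) (nat_lit 0x40551544005050110515400554000) (Net.cons (nat_lit 2) (nat_lit 0x32310010212323013323130012102) (Net.cons (nat_lit 4) (nat_lit 0x60e0a0c0a0f02020406080f0b0a00) (Net.cons (nat_lit 8) (nat_lit 0xaf00d800cf007a00ae00600017) (Net.cons (nat_lit 16) (nat_lit 0x440000f2ab0000250a00002000) (Net.cons (nat_lit 32) (nat_lit 0x2191890000000020000000) (Net.cons (nat_lit 64) (nat_lit 0x5965b6b53ed23f) (Net.cons (nat_lit 32) (nat_lit 0x3f9d6400000000814380c1) (Net.cons (nat_lit 16) (nat_lit 0x4f0000cc9b00008e6c00006c2c) (Net.cons (nat_lit 8) (nat_lit 0xde0098006c000a00c3003500b3) (Net.cons (nat_lit 4) (nat_lit 0x10e0906070a0b06090604010b0204) (Net.cons (nat_lit 2) (nat_lit 0x130100031132133133113301323220) (Net.cons (nat_lit 1) (nat_lit 0x11051044555455011050050155440) Net.nil)))))))))))))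
noncomputable def U1_1 : Net := (Net.cons (nat_lit 1) (nat_lit 0x100540405511540154511055051450) (Net.cons (nat_lit 2) (nat_lit 0x103110110230221003001001020302) (Net.cons (nat_lit 4) (nat_lit 0x50a0209040b020908060400090508) (Net.cons (nat_lit 8) (nat_lit 0x4a004b000100e6009700920078) (Net.cons (nat_lit 16) (nat_lit 0x440000170500000e8700000280) (Net.cons (nat_lit 32) (nat_lit 0xcc1e00000000042000000) (Net.cons (nat_lit 64) (nat_lit 0x283f587245dcac) (Net.cons (nat_lit 32) (nat_lit 0x37c0ba000000007eb32b54) (Net.cons (nat_lit 16) (nat_lit 0x7600001461000077770000f1fc) (Net.cons (nat_lit 8) (nat_lit 0xa8006800ae006400df00eb0000) (Net.cons (nat_lit 4) (nat_lit 0x70f030c0a0d03010906070e09050c) (Net.cons (nat_lit 2) (nat_lit 0x123100002332200031010230301012) (Net.cons (nat_lit 1) (nat_lit 0x140441155011514000055410145104) Net.nil)))))))))))))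
noncomputable def U1_2 : Net := (Net.cons (nat_lit 1) (nat_lit 0x55400401444515501504055510550) (Net.cons (nat_lit 2) (nat_lit 0x113120112223010321122301000100) (Net.cons (nat_lit 4) (nat_lit 0x306010c0e0d0b080c030c01080100) (Net.cons (nat_lit 8) (nat_lit 0x4f00cc00c100cd008500d00043) (Net.cons (nat_lit 16) (nat_lit 0x220000642000006b4a00008000) (Net.cons (nat_lit 32) (nat_lit 0xe08910000000070000000) (Net.cons (nat_lit 64) (nat_lit 0x4feb0e7d9110bb) (Net.cons (nat_lit 32) (nat_lit 0x3e170000000000c66c4484) (Net.cons (nat_lit 16) (nat_lit 0x7b0000b8aa0000f2b40000bc96) (Net.cons (nat_lit 8) (nat_lit 0xce000d0091006e0021000f004b) (Net.cons (nat_lit 4) (nat_lit 0x200040d01050d070b0e07020f00) (Net.cons (nat_lit 2) (nat_lit 0x121020210310113100322303011330) (Net.cons (nat_lit 1) (nat_lit 0x55554105540045444105150111510) Net.nil)))))))))))))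
noncomputable def U1_3 : Net := (Net.cons (nat_lit 1) (nat_lit 0x105041014554400154154000011450) (Net.cons (nat_lit 2) (nat_lit 0x32102221130010331113022112122) (Net.cons (nat_lit 4) (nat_lit 0x70a050d0c0e0c010d0b000e080b00) (Net.cons (nat_lit 8) (nat_lit 0x85000e0020005b005000220000) (Net.cons (nat_lit 16) (nat_lit 0x2800002e2700008a2400008200) (Net.cons (nat_lit 32) (nat_lit 0x3867140000000020800000) (Net.cons (nat_lit 64) (nat_lit 0x5dc66922a6a994) (Net.cons (nat_lit 32) (nat_lit 0x30094000000001cb0b5f0) (Net.cons (nat_lit 16) (nat_lit 0x6c0000046a0000d29d000032e2) (Net.cons (nat_lit 8) (nat_lit 0xab008b008c00c200dc005e00a4) (Net.cons (nat_lit 4) (nat_lit 0x30c0703040e020004000103080902) (Net.cons (nat_lit 2) (nat_lit 0x122132321030202230020300010012) (Net.cons (nat_lit 1) (nat_lit 0x4500414014050040105101011404) Net.nil)))))))))))))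
noncomputable def U1_4 : Net := (Net.cons (nat_lit 1) (nat_lit 0x101105501511440400504401401000) (Net.cons (nat_lit 2) (nat_lit 0x2302131213032030320002220000) (Net.cons (nat_lit 4) (nat_lit 0x30800030d08040c0804070a0e0400) (Net.cons (nat_lit 8) (nat_lit 0x960040004300ae000200420020) (Net.cons (nat_lit 16) (nat_lit 0x100000829000002d6400006280) (Net.cons (nat_lit 32) (nat_lit 0x3079000000000046000000) (Net.cons (nat_lit 64) (nat_lit 0x140350c7247ec0) (Net.cons (nat_lit 32) (nat_lit 0x3039840000000064c10a20) (Net.cons (nat_lit 16) (nat_lit 0x210000c28400002b7600004850) (Net.cons (nat_lit 8) (nat_lit 0xf600600043006f001200ab0000) (Net.cons (nat_lit 4) (nat_lit 0x30800030d08060608040702010d00) (Net.cons (nat_lit 2) (nat_lit 0x101302033312130220321102312030) (Net.cons (nat_lit 1) (nat_lit 0x101005401011400401104401011010) Net.nil)))))))))))))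
noncomputable def U1_5 : Net := (Net.cons (nat_lit 1) (nat_lit 0x114151140115150404555515555444) (Net.cons (nat_lit 2) (nat_lit 0x1202301112300211012230203010) (Net.cons (nat_lit 4) (nat_lit 0x103070f0e05020408000503020208) (Net.cons (nat_lit 8) (nat_lit 0xb900460042008c000000980040) (Net.cons (nat_lit 16) (nat_lit 0x36000042a50000d2b800003980) (Net.cons (nat_lit 32) (nat_lit 0xc4b8c0000000004800000) (Net.cons (nat_lit 64) (nat_lit 0x21c25bd4acad94) (Net.cons (nat_lit 32) (nat_lit 0x75f98a00000000219434d8) (Net.cons (nat_lit 16) (nat_lit 0x57000000e40000599800005aa8) (Net.cons (nat_lit 8) (nat_lit 0x300058006500a200cd00ba0060) (Net.cons (nat_lit 4) (nat_lit 0x702030f0c0e040a01030c09080f0c) (Net.cons (nat_lit 2) (nat_lit 0x113101111130211213002013130100) (Net.cons (nat_lit 1) (nat_lit 0x54551000050004541554115105514) Net.nil)))))))))))))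
noncomputable def U1_6 : Net := (Net.cons (nat_lit 1) (nat_lit 0x4445540445014104155101004400) (Net.cons (nat_lit 2) (nat_lit 0x12000010201100221131001113000) (Net.cons (nat_lit 4) (nat_lit 0x40601030a0f020004050801040000) (Net.cons (nat_lit 8) (nat_lit 0xab004a00660033000800520000) (Net.cons (nat_lit 16) (nat_lit 0x8000000600000b2c000008800) (Net.cons (nat_lit 32) (nat_lit 0x4443010000000044000000) (Net.cons (nat_lit 64) (nat_lit 0x47d68b46210d00) (Net.cons (nat_lit 32) (nat_lit 0x4cef01000000006c108c40) (Net.cons (nat_lit 16) (nat_lit 0x1c000044e20000ffe00000c080) (Net.cons (nat_lit 8) (nat_lit 0xab005a00760033009800560000) (Net.cons (nat_lit 4) (nat_lit 0x40609030a07020804050809040200) (Net.cons (nat_lit 2) (nat_lit 0x112001110201100221131001113000) (Net.cons (nat_lit 1) (nat_lit 0x5445540445014114155101004400) Net.nil)))))))))))))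
noncomputable def U1_7 : Net := (Net.cons (nat_lit 1) (nat_lit 0x51111005454041454404440104110) (Net.cons (nat_lit 2) (nat_lit 0x2310111301311101022320012220) (Net.cons (nat_lit 4) (nat_lit 0x20c0c080803000d050b060c090708) (Net.cons (nat_lit 8) (nat_lit 0xb00cb007200a4000700660048) (Net.cons (nat_lit 16) (nat_lit 0x280000cd0e0000b01c00000080) (Net.cons (nat_lit 32) (nat_lit 0x700b00000000080800000) (Net.cons (nat_lit 64) (nat_lit 0x7b2009e9cc14b0) (Net.cons (nat_lit 32) (nat_lit 0x4ac3d00000000005a79338) (Net.cons (nat_lit 16) (nat_lit 0x420000e69f000009060000d890) (Net.cons (nat_lit 8) (nat_lit 0xb004300c00010004700ef0040) (Net.cons (nat_lit 4) (nat_lit 0x10e0e000405000a0905070d000008) (Net.cons (nat_lit 2) (nat_lit 0x111302113311020013021001322000) (Net.cons (nat_lit 1) (nat_lit 0x111104041441510014014115441440) Net.nil)))))))))))))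
noncomputable def U1_8 : Net := (Net.cons (nat_lit 1) (nat_lit 0x50014514510515504045454410000) (Net.cons (nat_lit 2) (nat_lit 0x2001320033230121122203020000) (Net.cons (nat_lit 4) (nat_lit 0x4040c0906050a04040108000800) (Net.cons (nat_lit 8) (nat_lit 0x28008e0082000000b7007c0000) (Net.cons (nat_lit 16) (nat_lit 0x58000044da0000885e00000800) (Net.cons (nat_lit 32) (nat_lit 0x540102000000000c000000) (Net.cons (nat_lit 64) (nat_lit 0x3a01220c4e9080) (Net.cons (nat_lit 32) (nat_lit 0xc490a00000000df1c2a40) (Net.cons (nat_lit 16) (nat_lit 0x4d0000c45f0000885f00000820) (Net.cons (nat_lit 8) (nat_lit 0x28001e0022000000f7007c0080) (Net.cons (nat_lit 4) (nat_lit 0x104010c0b06050a0404030c000e00) (Net.cons (nat_lit 2) (nat_lit 0x12011320033220321022213030000) (Net.cons (nat_lit 1) (nat_lit 0x50014514510515504045454410000) Net.nil)))))))))))))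
noncomputable def U1_9 : Net := (Net.cons (nat_lit 1) (nat_lit 0x10044411004444404444550010000) (Net.cons (nat_lit 2) (nat_lit 0x23013311233300120302201020000) (Net.cons (nat_lit 4) (nat_lit 0x4070c010d060d0c01090b00010000) (Net.cons (nat_lit 8) (nat_lit 0xae0026004e00bb002600270020) (Net.cons (nat_lit 16) (nat_lit 0x23000004c40000890100000d00) (Net.cons (nat_lit 32) (nat_lit 0x4108380000000006800000) (Net.cons (nat_lit 64) (nat_lit 0x50c5bb36951c00) (Net.cons (nat_lit 32) (nat_lit 0x432a5a00000000ed882240) (Net.cons (nat_lit 16) (nat_lit 0x2f00000dc50000990500000da0) (Net.cons (nat_lit 8) (nat_lit 0xae00a7006d00bb002600270020) (Net.cons (nat_lit 4) (nat_lit 0x6070e010f040f0c030b0b00030400) (Net.cons (nat_lit 2) (nat_lit 0x23013311233300121312201020000) (Net.cons (nat_lit 1) (nat_lit 0x10044411004444404444550010000) Net.nil)))))))))))))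
noncomputable def U1_10 : Net := (Net.cons (nat_lit 1) (nat_lit 0x405151511101400510411000400) (Net.cons (nat_lit 2) (nat_lit 0x122020013232011022312301200000) (Net.cons (nat_lit 4) (nat_lit 0x40401030c02000c00040300010008) (Net.cons (nat_lit 8) (nat_lit 0x8700480073005800e100290010) (Net.cons (nat_lit 16) (nat_lit 0x49000068120000599000004200) (Net.cons (nat_lit 32) (nat_lit 0x80a000000000002000000) (Net.cons (nat_lit 64) (nat_lit 0x62d98d2a9e4300) (Net.cons (nat_lit 32) (nat_lit 0x86b4000000000c7086518) (Net.cons (nat_lit 16) (nat_lit 0x510000f8900000599800004228) (Net.cons (nat_lit 8) (nat_lit 0x8700c900f3005800f100290010) (Net.cons (nat_lit 4) (nat_lit 0x40409030c0a000c00060b00090008) (Net.cons (nat_lit 2) (nat_lit 0x122020013013011022312301220200) (Net.cons (nat_lit 1) (nat_lit 0x1405151511111410510411000400) Net.nil)))))))))))))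
noncomputable def U1_11 : Net := (Net.cons (nat_lit 1) (nat_lit 0x4445540445014104155101004400) (Net.cons (nat_lit 2) (nat_lit 0x12000010201100221131001113000) (Net.cons (nat_lit 4) (nat_lit 0x40601030a0f020004050801040000) (Net.cons (nat_lit 8) (nat_lit 0xab004a00660033000800520000) (Net.cons (nat_lit 16) (nat_lit 0x8000000600000b2c000008800) (Net.cons (nat_lit 32) (nat_lit 0x4443010000000044000000) (Net.cons (nat_lit 64) (nat_lit 0x47d68b46210d00) (Net.cons (nat_lit 32) (nat_lit 0x4cef01000000006c108c40) (Net.cons (nat_lit 16) (nat_lit 0x1c000044e20000ffe00000c080) (Net.cons (nat_lit 8) (nat_lit 0xab005a00760033009800560000) (Net.cons (nat_lit 4) (nat_lit 0x40609030a07020804050809040200) (Net.cons (nat_lit 2) (nat_lit 0x112001110201100221131001113000) (Net.cons (nat_lit 1) (nat_lit 0x5445540445014114155101004400) Net.nil)))))))))))))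
noncomputable def U1 : List Net := [U1_0, U1_1, U1_2, U1_3, U1_4, U1_5, U1_6, U1_7, U1_8, U1_9, U1_10, U1_11]
noncomputable def UW : List (List Nat) := [[(nat_lit 1), (nat_lit 1), (nat_lit 1), (nat_lit 1), (nat_lit 4), (nat_lit 1), (nat_lit 3), (nat_lit 1), (nat_lit 4)],
  [(nat_lit 4), (nat_lit 4), (nat_lit 2), (nat_lit 2), (nat_lit 3), (nat_lit 3), (nat_lit 2), (nat_lit 3), (nat_lit 2), (nat_lit 2)],
  [(nat_lit 7), (nat_lit 7), (nat_lit 6), (nat_lit 8)],
  [(nat_lit 5), (nat_lit 5)],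
  [(nat_lit 9), (nat_lit 12), (nat_lit 10), (nat_lit 12), (nat_lit 9), (nat_lit 12), (nat_lit 12), (nat_lit 12)],
  [(nat_lit 11), (nat_lit 11), (nat_lit 9), (nat_lit 11), (nat_lit 11), (nat_lit 10), (nat_lit 12), (nat_lit 9)],
  [(nat_lit 15), (nat_lit 14), (nat_lit 15), (nat_lit 15), (nat_lit 14), (nat_lit 15), (nat_lit 14), (nat_lit 16)],
  [(nat_lit 16), (nat_lit 16), (nat_lit 13), (nat_lit 15), (nat_lit 14), (nat_lit 14), (nat_lit 15), (nat_lit 15), (nat_lit 14), (nat_lit 16), (nat_lit 13)],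
  [(nat_lit 20), (nat_lit 18), (nat_lit 20), (nat_lit 20), (nat_lit 17), (nat_lit 17), (nat_lit 17), (nat_lit 20), (nat_lit 17), (nat_lit 17), (nat_lit 17)],
  [(nat_lit 19), (nat_lit 17), (nat_lit 20), (nat_lit 17), (nat_lit 19)],
  [(nat_lit 20), (nat_lit 18), (nat_lit 20), (nat_lit 20), (nat_lit 17), (nat_lit 20)],
  [(nat_lit 23), (nat_lit 25), (nat_lit 21), (nat_lit 23), (nat_lit 23), (nat_lit 23), (nat_lit 21), (nat_lit 21)]]
noncomputable def UC : List Lvl := [⟨(nat_lit 0), [[(nat_lit 1)],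
  [(nat_lit 3)]], (nat_lit 6)⟩,
  ⟨(nat_lit 1), [[(nat_lit 5)],
  [(nat_lit 7)]], (nat_lit 6)⟩,
  ⟨(nat_lit 2), [[(nat_lit 9)],
  [(nat_lit 11)]], (nat_lit 5)⟩,
  ⟨(nat_lit 3), [[(nat_lit 13)],
  [(nat_lit 15)]], (nat_lit 5)⟩,
  ⟨(nat_lit 4), [[(nat_lit 17)],
  [(nat_lit 19)]], (nat_lit 2)⟩,
  ⟨(nat_lit 5), [[(nat_lit 21)],
  [(nat_lit 23)],
  [(nat_lit 25)]], (nat_lit 1)⟩,
  ⟨(nat_lit 6), [[(nat_lit 27)]], (nat_lit 1)⟩]
noncomputable def UV : List (List Nat) := [[(nat_lit 0x49cba2fa59301990c49b89379d7a80), (nat_lit 0x36345d05a6cfe66f3b6476c862857f)],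
  [(nat_lit 0x50bc1c6c4cf2984f07221d4a6f30d9), (nat_lit 0x2f43e393b30d67b0f8dde2b590cf26)],
  [(nat_lit 0xcd58404035fea72a28dbf452cca35), (nat_lit 0x732a7bfbfca0158d5d7240bad335ca)],
  [(nat_lit 0x1a8179a34e19d3984ce30e1de0a9a3), (nat_lit 0x657e865cb1e62c67b31cf1e21f565c)],
  [(nat_lit 0x621e2fa160306ef32e2d64385b02cd), (nat_lit 0x1de1d05e9fcf910cd1d29bc7a4fd32)],
  [(nat_lit 0x6b60c072364402c76329fa41bc2d6f), (nat_lit 0x149f3f8dc9bbfd389cd605be43d290)],
  [(nat_lit 0x4eb870780c9ccfb00e79efe4fe6619), (nat_lit 0x31478f87f363304ff186101b0199e6)],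
  [(nat_lit 0x57c402e3a7b7cfd101ff1d083e3e87), (nat_lit 0x283bfd1c5848302efe00e2f7c1c178)]]
noncomputable def Uσ : Net := (Net.cons (nat_lit 1) (nat_lit 0x110015000044451400100541401500) (Net.cons (nat_lit 2) (nat_lit 0x12021221100010210302032003220) (Net.cons (nat_lit 4) (nat_lit 0x2080a07010e020601050d0f000808) (Net.cons (nat_lit 8) (nat_lit 0xe3004d007a0097001500b2000c) (Net.cons (nat_lit 16) (nat_lit 0x3e0000ed04000045a200002300) (Net.cons (nat_lit 32) (nat_lit 0x2b52c40000000080000000) (Net.cons (nat_lit 64) (nat_lit 0x22afd2dddd502c) (Net.cons (nat_lit 32) (nat_lit 0x3de9bb00000000447a32f9) (Net.cons (nat_lit 16) (nat_lit 0x5100003e5f0000b43900001ee8) (Net.cons (nat_lit 8) (nat_lit 0x20009f00d80085003e00c6000f) (Net.cons (nat_lit 4) (nat_lit 0x5030e09060e01070503060c0c0c) (Net.cons (nat_lit 2) (nat_lit 0x110002301310131201011100020223) (Net.cons (nat_lit 1) (nat_lit 0x110444400105554040441051045450) Net.nil)))))))))))))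
noncomputable def UCs : List (List Nat) := [[(nat_lit 0), (nat_lit 0x7fffffffffffffffffffffffffffff)],
  [(nat_lit 0), (nat_lit 0x7fffffffffffffffffffffffffffff)]]
noncomputable def UA : List (List (List Nat)) := [[[1, 0, 1, 0, 1, 0, 0, 0], [1, 0, 1, 0, 0, 0, 0, 0], [1, 0, 1, 1, 1, 1, 0, 0], [0, 1, 1, 1, 1, 1, 0, 0], [1, 1, 1, 0, 0, 1, 1, 0], [0, 0, 1, 1, 0, 1, 1, 1], [1, 0, 1, 1, 1, 1, 1, 0], [0, 0, 0, 1, 1, 1, 0, 1]],
  [[1, 0, 0, 1, 1, 1, 1, 1], [1, 1, 0, 0, 0, 0, 0, 0], [0, 0, 1, 0, 0, 1, 1, 0], [1, 0, 0, 1, 1, 0, 1, 0], [0, 1, 0, 1, 0, 0, 0, 0], [0, 1, 1, 0, 0, 1, 1, 1], [1, 0, 1, 1, 1, 1, 1, 0], [0, 1, 0, 0, 0, 1, 0, 1]]]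
noncomputable def UX : List (List (List (List Nat))) := [[[[0, 1, 1, 0, 0, 1, 1, 0], [1, 1, 0, 0, 1, 0, 1, 1], [0, 1, 1, 1, 1, 0, 1, 0], [1, 1, 1, 1, 1, 1, 1, 0], [1, 1, 0, 0, 1, 0, 0, 1], [0, 1, 0, 1, 1, 1, 1, 0], [0, 1, 1, 1, 0, 1, 0, 0], [1, 1, 0, 0, 0, 0, 1, 0]],
  [[1, 1, 0, 0, 1, 0, 1, 1], [1, 0, 0, 1, 1, 0, 1, 1], [1, 1, 0, 0, 1, 1, 1, 1], [1, 0, 1, 1, 0, 0, 1, 1], [1, 1, 0, 1, 0, 0, 1, 1], [1, 1, 1, 1, 1, 1, 1, 0], [0, 0, 0, 1, 0, 0, 0, 1], [1, 1, 0, 0, 1, 1, 0, 0]],
  [[1, 0, 1, 0, 0, 1, 0, 1], [1, 1, 1, 0, 1, 1, 0, 0], [1, 0, 1, 1, 0, 0, 0, 1], [1, 1, 0, 0, 1, 0, 1, 0], [1, 1, 1, 1, 1, 1, 1, 1], [1, 0, 0, 1, 0, 1, 0, 1], [0, 1, 0, 0, 1, 0, 0, 0], [1, 0, 1, 1, 1, 1, 1, 0]],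
  [[1, 1, 1, 0, 1, 0, 0, 1], [0, 0, 1, 1, 1, 1, 1, 0], [0, 0, 1, 0, 0, 1, 1, 0], [1, 1, 1, 1, 1, 1, 1, 0], [0, 1, 1, 1, 0, 1, 1, 0], [1, 0, 1, 0, 0, 0, 0, 0], [1, 1, 0, 1, 1, 1, 0, 1], [1, 1, 1, 1, 1, 1, 0, 0]]],
 [[[0, 1, 1, 1, 1, 0, 1, 1], [0, 0, 0, 1, 0, 0, 0, 0], [0, 0, 1, 0, 1, 1, 1, 1], [0, 1, 0, 0, 1, 0, 0, 1], [1, 1, 1, 0, 0, 1, 1, 0], [0, 1, 1, 1, 0, 1, 1, 1], [0, 1, 1, 0, 1, 1, 0, 1], [0, 0, 0, 0, 0, 1, 0, 1]],
  [[0, 1, 1, 1, 1, 1, 0, 0], [0, 1, 0, 1, 1, 0, 1, 1], [1, 0, 0, 1, 0, 1, 0, 1], [0, 0, 1, 1, 0, 0, 0, 0], [1, 1, 0, 0, 1, 1, 1, 1], [0, 1, 0, 0, 1, 0, 1, 1], [0, 1, 0, 0, 1, 0, 0, 0], [0, 1, 1, 1, 0, 0, 0, 1]],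
  [[0, 0, 1, 1, 1, 0, 0, 0], [1, 0, 0, 1, 0, 1, 0, 1], [0, 1, 1, 0, 0, 1, 1, 1], [0, 1, 0, 0, 0, 0, 0, 0], [1, 1, 1, 1, 0, 0, 0, 1], [0, 1, 1, 1, 0, 1, 0, 1], [1, 0, 1, 1, 0, 1, 1, 1], [0, 1, 1, 1, 0, 1, 0, 0]],
  [[1, 0, 0, 1, 1, 1, 1, 0], [0, 1, 1, 1, 1, 0, 0, 1], [0, 1, 0, 1, 0, 1, 0, 0], [0, 1, 0, 0, 0, 1, 0, 0], [0, 1, 1, 1, 1, 0, 1, 1], [1, 0, 0, 1, 0, 0, 1, 0], [0, 1, 1, 0, 1, 1, 1, 0], [0, 1, 1, 0, 1, 0, 0, 0]]]]
noncomputable def UB : List (List Nat) := [[0, 0, 0, 1, 0, 0, 0, 0], [0, 0, 0, 0, 1, 0, 0, 0], [0, 0, 0, 0, 0, 1, 0, 0], [0, 0, 0, 0, 0, 0, 0, 0], [0, 0, 0, 0, 0, 0, 0, 0], [0, 0, 0, 0, 0, 0, 0, 0], [0, 0, 0, 0, 0, 0, 1, 1], [0, 0, 0, 0, 0, 0, 0, 1]]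
noncomputable def Nx2_0 : Net := (Net.cons (nat_lit 1) (nat_lit 0x104055405441010511541400140510) (Net.cons (nat_lit 2) (nat_lit 0x31332213310332323323310210020) (Net.cons (nat_lit 4) (nat_lit 0x20a030201040a0204060209020600) (Net.cons (nat_lit 8) (nat_lit 0x8900f400bc008a006200810010) (Net.cons (nat_lit 16) (nat_lit 0x3b00001005000008c000000000) (Net.cons (nat_lit 32) (nat_lit 0x30110000000005e800000) (Net.cons (nat_lit 64) (nat_lit 0x4c16a27f878930) (Net.cons (nat_lit 32) (nat_lit 0x1f493100000000fc2ca868) (Net.cons (nat_lit 16) (nat_lit 0x3b00009885000001d100005888) (Net.cons (nat_lit 8) (nat_lit 0xa1005e003e00a2006a00a9009e) (Net.cons (nat_lit 4) (nat_lit 0x20a070403050602060e0e03020608) (Net.cons (nat_lit 2) (nat_lit 0x31332213310332323323310310020) (Net.cons (nat_lit 1) (nat_lit 0x104055405441050511541400140510) Net.nil)))))))))))))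
noncomputable def Nx2_1 : Net := (Net.cons (nat_lit 1) (nat_lit 0x10004154411044010004040440440) (Net.cons (nat_lit 2) (nat_lit 0x123121302133102122220221302030) (Net.cons (nat_lit 4) (nat_lit 0x50308080d0202090b090603020a00) (Net.cons (nat_lit 8) (nat_lit 0x8a007500b00080001100580040) (Net.cons (nat_lit 16) (nat_lit 0x1f000092c3000099c400001880) (Net.cons (nat_lit 32) (nat_lit 0x5620840000000018000000) (Net.cons (nat_lit 64) (nat_lit 0x97484ba564e00) (Net.cons (nat_lit 32) (nat_lit 0x58284900000000444f8b83) (Net.cons (nat_lit 16) (nat_lit 0x5f0000d957000092890000e1e2) (Net.cons (nat_lit 8) (nat_lit 0x82007d0032002b001200b30063) (Net.cons (nat_lit 4) (nat_lit 0x3070e060b0207010f0d0d0903020d) (Net.cons (nat_lit 2) (nat_lit 0x121120122333213312223113211011) (Net.cons (nat_lit 1) (nat_lit 0x10004150501044010014050440414) Net.nil)))))))))))))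
noncomputable def Nx2_2 : Net := (Net.cons (nat_lit 1) (nat_lit 0x115554111405050444504550551040) (Net.cons (nat_lit 2) (nat_lit 0x103131330120332210203031022032) (Net.cons (nat_lit 4) (nat_lit 0x40f0c0e030a030c070b040c0c00) (Net.cons (nat_lit 8) (nat_lit 0x76008600310041000c00180021) (Net.cons (nat_lit 16) (nat_lit 0x6a00000c230000c98800000080) (Net.cons (nat_lit 32) (nat_lit 0x5010630000000001000000) (Net.cons (nat_lit 64) (nat_lit 0x26e1ced977522d) (Net.cons (nat_lit 32) (nat_lit 0x377e100000000065aa2e76) (Net.cons (nat_lit 16) (nat_lit 0x2f0000ccee00009d8d0000c54d) (Net.cons (nat_lit 8) (nat_lit 0xb60024009300c100c4009800c3) (Net.cons (nat_lit 4) (nat_lit 0x2060d0e040101030e0d010c0e0e0a) (Net.cons (nat_lit 2) (nat_lit 0x103131330120332210203031022032) (Net.cons (nat_lit 1) (nat_lit 0x115554111405050444544550551050) Net.nil)))))))))))))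
noncomputable def Nx2_3 : Net := (Net.cons (nat_lit 1) (nat_lit 0x100141101041504150040450040140) (Net.cons (nat_lit 2) (nat_lit 0x110020222103102211300200000202) (Net.cons (nat_lit 4) (nat_lit 0x70a000c000d020d04080b02000000) (Net.cons (nat_lit 8) (nat_lit 0xaa0020001700a200e800a20000) (Net.cons (nat_lit 16) (nat_lit 0x4000000e40000100500000880) (Net.cons (nat_lit 32) (nat_lit 0x80000000000aa000000) (Net.cons (nat_lit 64) (nat_lit 0x1a82a8ab168ae0) (Net.cons (nat_lit 32) (nat_lit 0x500a8400000000aab17284) (Net.cons (nat_lit 16) (nat_lit 0x4000050e50000100500000880) (Net.cons (nat_lit 8) (nat_lit 0xef0020001700e200e800a20008) (Net.cons (nat_lit 4) (nat_lit 0x70a000c000d020d04090b02000000) (Net.cons (nat_lit 2) (nat_lit 0x110020222123102211300200020302) (Net.cons (nat_lit 1) (nat_lit 0x100141101041514150040450040140) Net.nil)))))))))))))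
noncomputable def Nx2_4 : Net := (Net.cons (nat_lit 1) (nat_lit 0x1514011115510500551500414140) (Net.cons (nat_lit 2) (nat_lit 0x2023031210201203220131302030) (Net.cons (nat_lit 4) (nat_lit 0x80304050805080a0003000f0900) (Net.cons (nat_lit 8) (nat_lit 0x4a00a800d80019005800ea0008) (Net.cons (nat_lit 16) (nat_lit 0x78000072740000b29900000200) (Net.cons (nat_lit 32) (nat_lit 0x10019400000000a7000000) (Net.cons (nat_lit 64) (nat_lit 0x105368afed109c) (Net.cons (nat_lit 32) (nat_lit 0x86102000000008521c9d4) (Net.cons (nat_lit 16) (nat_lit 0x7400007ac80000aec80000a9e1) (Net.cons (nat_lit 8) (nat_lit 0xd200c500530090008300d700cb) (Net.cons (nat_lit 4) (nat_lit 0x5020a0c0d020f0508070c06050306) (Net.cons (nat_lit 2) (nat_lit 0x10033211322030303200031100020) (Net.cons (nat_lit 1) (nat_lit 0x1514414144150454000011014140) Net.nil)))))))))))))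
noncomputable def Nx2_5 : Net := (Net.cons (nat_lit 1) (nat_lit 0x140151111500154000505114051450) (Net.cons (nat_lit 2) (nat_lit 0x31001021001020010002120130022) (Net.cons (nat_lit 4) (nat_lit 0x1090909090a010000010801020300) (Net.cons (nat_lit 8) (nat_lit 0x9d001800ba00e7000300040031) (Net.cons (nat_lit 16) (nat_lit 0x2d000055800000ed8500002080) (Net.cons (nat_lit 32) (nat_lit 0x1511e500000000e4000000) (Net.cons (nat_lit 64) (nat_lit 0x11156f51608b1) (Net.cons (nat_lit 32) (nat_lit 0x4ffa400000000054afde6b) (Net.cons (nat_lit 16) (nat_lit 0x3b0000ddab0000f41a0000304f) (Net.cons (nat_lit 8) (nat_lit 0x400a000b2006700a200d00091) (Net.cons (nat_lit 4) (nat_lit 0x2020c080b0c0e08030e0d07060b04) (Net.cons (nat_lit 2) (nat_lit 0x21001021001120010002121130022) (Net.cons (nat_lit 1) (nat_lit 0x140151151500154000505114051450) Net.nil)))))))))))))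
noncomputable def Nx2_6 : Net := (Net.cons (nat_lit 1) (nat_lit 0x101155055455100005441055010411) (Net.cons (nat_lit 2) (nat_lit 0x102333212021311122012110000230) (Net.cons (nat_lit 4) (nat_lit 0x70b060a040c0d08050e04080c0100) (Net.cons (nat_lit 8) (nat_lit 0x3900b2002a0000003200050011) (Net.cons (nat_lit 16) (nat_lit 0x33000005200000adca00002100) (Net.cons (nat_lit 32) (nat_lit 0x2064cc00000000b8000000) (Net.cons (nat_lit 64) (nat_lit 0x5645c9feb52325) (Net.cons (nat_lit 32) (nat_lit 0x3fced20000000088cff304) (Net.cons (nat_lit 16) (nat_lit 0x2600002da10000bd0a00003921) (Net.cons (nat_lit 8) (nat_lit 0x10009600ee0077007000240064) (Net.cons (nat_lit 4) (nat_lit 0x304010b0500060b060902080b060d) (Net.cons (nat_lit 2) (nat_lit 0x12320012011231120210011120230) (Net.cons (nat_lit 1) (nat_lit 0x101155055405111001051055050411) Net.nil)))))))))))))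
noncomputable def Nx2_7 : Net := (Net.cons (nat_lit 1) (nat_lit 0x15410104054404410541040040000) (Net.cons (nat_lit 2) (nat_lit 0x130111322201310200310032222000) (Net.cons (nat_lit 4) (nat_lit 0xc040502020d090f0d0008080200) (Net.cons (nat_lit 8) (nat_lit 0x6c0061000300e2005000180040) (Net.cons (nat_lit 16) (nat_lit 0x60000b85a0000400000000000) (Net.cons (nat_lit 32) (nat_lit 0x1881880000000062000000) (Net.cons (nat_lit 64) (nat_lit 0x3c1e8e2b94262) (Net.cons (nat_lit 32) (nat_lit 0x5c9d9800000000f3008010) (Net.cons (nat_lit 16) (nat_lit 0x600003c5e0000c4000000a804) (Net.cons (nat_lit 8) (nat_lit 0xf800f5009f00ea00d000d80040) (Net.cons (nat_lit 4) (nat_lit 0xc040502020d090f0f0008080200) (Net.cons (nat_lit 2) (nat_lit 0x130111322201310200310032222000) (Net.cons (nat_lit 1) (nat_lit 0x15410104054404410541040040000) Net.nil)))))))))))))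
noncomputable def Nx2_8 : Net := (Net.cons (nat_lit 1) (nat_lit 0x1111144114501404041451545004) (Net.cons (nat_lit 2) (nat_lit 0x112202131132202103011013010100) (Net.cons (nat_lit 4) (nat_lit 0x302020c0c0f070d0c080500090200) (Net.cons (nat_lit 8) (nat_lit 0x400000004e00000045002a0056) (Net.cons (nat_lit 16) (nat_lit 0x45000092a0000089ae00004280) (Net.cons (nat_lit 32) (nat_lit 0x188d20000000019800000) (Net.cons (nat_lit 64) (nat_lit 0x51e20b3b9468f0) (Net.cons (nat_lit 32) (nat_lit 0x1b10fe000000005790adae) (Net.cons (nat_lit 16) (nat_lit 0x4d00003ca8000081ae00007a02) (Net.cons (nat_lit 8) (nat_lit 0xc5004000cd008200f500a800d4) (Net.cons (nat_lit 4) (nat_lit 0x308020c0c0d0f0d0c06050a0b020a) (Net.cons (nat_lit 2) (nat_lit 0x112101113130202123033231130122) (Net.cons (nat_lit 1) (nat_lit 0x1111144114511404041451545004) Net.nil)))))))))))))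
noncomputable def Nx2_9 : Net := (Net.cons (nat_lit 1) (nat_lit 0x40540105541115150540144540400) (Net.cons (nat_lit 2) (nat_lit 0x130102002001202231000220200120) (Net.cons (nat_lit 4) (nat_lit 0x40200000b030d070d0602000c0800) (Net.cons (nat_lit 8) (nat_lit 0x3009d000900a5004400c10002) (Net.cons (nat_lit 16) (nat_lit 0x35000064e0000050c000000000) (Net.cons (nat_lit 32) (nat_lit 0x31000000000c5000000) (Net.cons (nat_lit 64) (nat_lit 0x23e0c4f50d2bd4) (Net.cons (nat_lit 32) (nat_lit 0x233100000000e7701028) (Net.cons (nat_lit 16) (nat_lit 0x35000044f4000070e00000e426) (Net.cons (nat_lit 8) (nat_lit 0x6f009f000900cd004600c10022) (Net.cons (nat_lit 4) (nat_lit 0x40200000b030f070d0702000c0800) (Net.cons (nat_lit 2) (nat_lit 0x130102002001202231000320200120) (Net.cons (nat_lit 1) (nat_lit 0x40540105541115150540144540400) Net.nil)))))))))))))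
noncomputable def Nx2_10 : Net := (Net.cons (nat_lit 1) (nat_lit 0x100511144145510054104500041100) (Net.cons (nat_lit 2) (nat_lit 0x10000332101001112311131021200) (Net.cons (nat_lit 4) (nat_lit 0x70d0905020808030b050001000c00) (Net.cons (nat_lit 8) (nat_lit 0x6000e6004f00400050000a0002) (Net.cons (nat_lit 16) (nat_lit 0x290000dd2200001b0700000200) (Net.cons (nat_lit 32) (nat_lit 0x5444000000000011000000) (Net.cons (nat_lit 64) (nat_lit 0x54145adf805022) (Net.cons (nat_lit 32) (nat_lit 0x274fd20000000055694e46) (Net.cons (nat_lit 16) (nat_lit 0x79000091f600005fd700004700) (Net.cons (nat_lit 8) (nat_lit 0xbc00e2001f00140014004a00c6) (Net.cons (nat_lit 4) (nat_lit 0x7070109060c03030b0305050d0c00) (Net.cons (nat_lit 2) (nat_lit 0x2000332131131112210031131200) (Net.cons (nat_lit 1) (nat_lit 0x100511144145510054104500041100) Net.nil)))))))))))))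
noncomputable def Nx2_11 : Net := (Net.cons (nat_lit 1) (nat_lit 0x104154414104500050050550400044) (Net.cons (nat_lit 2) (nat_lit 0x103230310013231013330132001100) (Net.cons (nat_lit 4) (nat_lit 0x701040e0204010302030508080000) (Net.cons (nat_lit 8) (nat_lit 0xc1004000990001005200130050) (Net.cons (nat_lit 16) (nat_lit 0x66000031a20000583800004000) (Net.cons (nat_lit 32) (nat_lit 0x1135480000000060000000) (Net.cons (nat_lit 64) (nat_lit 0x483d8fe191c0e2) (Net.cons (nat_lit 32) (nat_lit 0x7474480000000060d2706c) (Net.cons (nat_lit 16) (nat_lit 0x6700005b320000293800005812) (Net.cons (nat_lit 8) (nat_lit 0x8000a100990070000700c30024) (Net.cons (nat_lit 4) (nat_lit 0x201040f020805020b0f020908040c) (Net.cons (nat_lit 2) (nat_lit 0x103230312013231033330130201102) (Net.cons (nat_lit 1) (nat_lit 0x104154414104540050050550400044) Net.nil)))))))))))))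
noncomputable def Nx2_12 : Net := (Net.cons (nat_lit 1) (nat_lit 0x141044115511151515014050011400) (Net.cons (nat_lit 2) (nat_lit 0x12123123232011023013023022200) (Net.cons (nat_lit 4) (nat_lit 0x109090c000c0f0100030506000000) (Net.cons (nat_lit 8) (nat_lit 0x9002e00d100ac00bb00800030) (Net.cons (nat_lit 16) (nat_lit 0x29000013450000780400004200) (Net.cons (nat_lit 32) (nat_lit 0x3059740000000088000000) (Net.cons (nat_lit 64) (nat_lit 0x109f4798274232) (Net.cons (nat_lit 32) (nat_lit 0x199776000000000012ea22) (Net.cons (nat_lit 16) (nat_lit 0x39000093c10000e90500004002) (Net.cons (nat_lit 8) (nat_lit 0x100f60045008f00aa00c00078) (Net.cons (nat_lit 4) (nat_lit 0x1050b050a080b0102030c06050806) (Net.cons (nat_lit 2) (nat_lit 0x13103332233011003213123032202) (Net.cons (nat_lit 1) (nat_lit 0x141044055510151505014050051400) Net.nil)))))))))))))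
noncomputable def Nx2_13 : Net := (Net.cons (nat_lit 1) (nat_lit 0x45450155041100544554454504104) (Net.cons (nat_lit 2) (nat_lit 0x13212031030003123122120320102) (Net.cons (nat_lit 4) (nat_lit 0x103080b06050a0b03090900090108) (Net.cons (nat_lit 8) (nat_lit 0x85005f0026001400ce0088002b) (Net.cons (nat_lit 16) (nat_lit 0xf0000681b000035310000e500) (Net.cons (nat_lit 32) (nat_lit 0x12000200000000a0800000) (Net.cons (nat_lit 64) (nat_lit 0x59ee2af18a0a25) (Net.cons (nat_lit 32) (nat_lit 0x3a4d27000000003f44287c) (Net.cons (nat_lit 16) (nat_lit 0x1000000c4900009e1400001e65) (Net.cons (nat_lit 8) (nat_lit 0xd000cf00720023006700a4009e) (Net.cons (nat_lit 4) (nat_lit 0x6040b060e070f0f0a030802090d08) (Net.cons (nat_lit 2) (nat_lit 0x23000301310300333120112001321) (Net.cons (nat_lit 1) (nat_lit 0x141054005540110014144054101451) Net.nil)))))))))))))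
noncomputable def Nx2_14 : Net := (Net.cons (nat_lit 1) (nat_lit 0x144550110555541441550545050050) (Net.cons (nat_lit 2) (nat_lit 0x2332032210111110022203103322) (Net.cons (nat_lit 4) (nat_lit 0x40f06000c0600040d0d0c0c0b0108) (Net.cons (nat_lit 8) (nat_lit 0xb5000400b600e6008000140064) (Net.cons (nat_lit 16) (nat_lit 0x2300000f0100002a5100008080) (Net.cons (nat_lit 32) (nat_lit 0x3b940500000000b6000000) (Net.cons (nat_lit 64) (nat_lit 0x653234be9ea579) (Net.cons (nat_lit 32) (nat_lit 0x7391a700000000de4b511e) (Net.cons (nat_lit 16) (nat_lit 0x34000051e00000fe2b000086a1) (Net.cons (nat_lit 8) (nat_lit 0x1c0052002f00c200fa006100d3) (Net.cons (nat_lit 4) (nat_lit 0x4000d0f0e0003040400030a0f0500) (Net.cons (nat_lit 2) (nat_lit 0x12020322233110030320211010321) (Net.cons (nat_lit 1) (nat_lit 0x50401155540551511540404545005) Net.nil)))))))))))))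
noncomputable def Nx2_15 : Net := (Net.cons (nat_lit 1) (nat_lit 0x41015541401410551050014051145) (Net.cons (nat_lit 2) (nat_lit 0x110132211120110122110331220000) (Net.cons (nat_lit 4) (nat_lit 0x1000a0f02020f0d02050402020b00) (Net.cons (nat_lit 8) (nat_lit 0x95006c00640032008100780049) (Net.cons (nat_lit 16) (nat_lit 0x68000006040000df4900004800) (Net.cons (nat_lit 32) (nat_lit 0x32799a0000000042000000) (Net.cons (nat_lit 64) (nat_lit 0x43a416c2b05f8c) (Net.cons (nat_lit 32) (nat_lit 0x1e7dd60000000006651d98) (Net.cons (nat_lit 16) (nat_lit 0x1c000006000000895800004b35) (Net.cons (nat_lit 8) (nat_lit 0x55005e002700730054004900cb) (Net.cons (nat_lit 4) (nat_lit 0x40d040f0804030c0402020e070406) (Net.cons (nat_lit 2) (nat_lit 0x3313323320301332013303221021) (Net.cons (nat_lit 1) (nat_lit 0x40044154440010154141445500405) Net.nil)))))))))))))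
noncomputable def Nx2 : List Net := [Nx2_0, Nx2_1, Nx2_2, Nx2_3, Nx2_4, Nx2_5, Nx2_6, Nx2_7, Nx2_8, Nx2_9, Nx2_10, Nx2_11, Nx2_12, Nx2_13, Nx2_14, Nx2_15]


end CF.BN.O82m
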