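import Cfsg.Agent.BN.RcC
import Cfsg.Agent.BN.TwG2

/-!
# The trace of the seven-dimensional representation of `²G₂(q)`
-/

set_option autoImplicit false

namespace CF.BN

open CF.Chev Cfsg.Lie Matrix

variable {K : Type*} [Field K]

/-- the nonzero coefficients of the root elements -/
def e7 (k : ℕ) (r : Fin 12) (a b : Fin 7) : ℤ :=
  ((([[], [(0, 5, 0, -1), (0, 6, 1, 1), (1, 4, 0, -1), (1, 6, 2, 1), (2, 3, 0, -2), (2, 4, 1, 2), (2, 5, 2, -2), (2, 6, 3, 1), (3, 2, 0, 2), (3, 3, 1, -1), (3, 5, 3, -1), (3, 6, 4, -2), (4, 1, 0, -2), (4, 3, 2, -1), (4, 4, 3, 2), (4, 6, 5, 2), (5, 2, 1, 1), (5, 5, 4, -1), (6, 1, 2, 1), (6, 4, 5, -1), (7, 0, 1, -2), (7, 2, 3, -2), (7, 3, 4, 1), (7, 5, 6, 2), (8, 0, 2, 2), (8, 1, 3, 1), (8, 3, 5, 1), (8, 4, 6, -2), (9, 0, 3, -1), (9, 1, 4, 2), (9, 2, 5, -2), (9, 3, 6, 2),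 (10, 0, 4, -1), (10, 2, 6, 1), (11, 0, 5, -1), (11, 1, 6, 1)],
    [(2, 6, 0, -1), (3, 5, 1, -1), (4, 4, 2, -1), (7, 2, 4, -1), (8, 1, 5, -1), (9, 0, 6, -1)]] : List (List (Fin 12 × Fin 7 × Fin 7 × ℤ))).getD k []).map
      fun p => if p.1 = r ∧ p.2.1 = a ∧ p.2.2.1 = b then p.2.2.2 else 0).sum

theorem e7_eq : ∀ k ∈ [1, 2, 3], ∀ r a b, cG2.EZ cG2.M k r (i7 a) (i7 b) = e7 k r a b := by decide +kernel

variable [CharP K 3]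

theorem ρ7_x (r : Fin 12) (t : K) : ρ7 K ((repG2 K).x r t) =
    Matrix.of fun a b => (if a = b then 1 else 0) + t * e7 1 r a b + t ^ 2 * e7 2 r a b := by
  ext a b
  show cG2.X r t (i7 a) (i7 b) = _
  have h : ∀ k ∈ [1, 2, 3], cG2.E K k r (i7 a) (i7 b) = e7 k r a b := fun k hk => congrArg _ (e7_eq k hk r a b)
  simp [LieBasis.X, h, Matrix.one_apply, i7_injective.eq_iff, show e7 3 r a b = 0 from rfl]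

theorem ρ7_x1 (t : K) : ρ7 K ((repG2 K).x 1 t) =
    !![1, 0, 0, 0, 0, 0, 0;
      0, 1, 0, 0, 0, 0, 0;
      0, 0, 1, 0, 0, 0, 0;
      0, 0, 0, 1, 0, 0, 0;
      -t, 0, 0, 0, 1, 0, 0;
      0, 0, 0, 0, 0, 1, 0;
      0, 0, t, 0, 0, 0, 1] := by
  rw [ρ7_x]
  ext a b
  fin_cases a <;> fin_cases b <;> simp [e7, mul_comm]

theorem ρ7_x3 (t : K) : ρ7 K ((repG2 K).x 3 t) =
    !![1, 0, 0, 0, 0, 0, 0;
      0, 1, 0, 0, 0, 0, 0;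
      2 * t, 0, 1, 0, 0, 0, 0;
      0, -t, 0, 1, 0, 0, 0;
      0, 0, 0, 0, 1, 0, 0;
      0, -t ^ 2, 0, -t, 0, 1, 0;
      0, 0, 0, 0, -2 * t, 0, 1] := by
  rw [ρ7_x]
  ext a b
  fin_cases a <;> fin_cases b <;> simp [e7, mul_comm]

theorem ρ7_x4 (t : K) : ρ7 K ((repG2 K).x 4 t) =
    !![1, 0, 0, 0, 0, 0, 0;
      -2 * t, 1, 0, 0, 0, 0, 0;
      0, 0, 1, 0, 0, 0, 0;
      0, 0, -t, 1, 0, 0, 0;
      0, 0, -t ^ 2, 2 * t, 1, 0, 0;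
      0, 0, 0, 0, 0, 1, 0;
      0, 0, 0, 0, 0, 2 * t, 1] := by
  rw [ρ7_x]
  ext a b
  fin_cases a <;> fin_cases b <;> simp [e7, mul_comm]

theorem ρ7_x5 (t : K) : ρ7 K ((repG2 K).x 5 t) =
    !![1, 0, 0, 0, 0, 0, 0;
      0, 1, 0, 0, 0, 0, 0;
      0, t, 1, 0, 0, 0, 0;
      0, 0, 0, 1, 0, 0, 0;
      0, 0, 0, 0, 1, 0, 0;
      0, 0, 0, 0, -t, 1, 0;
      0, 0, 0, 0, 0, 0, 1] := by
  rw [ρ7_x]
  ext a b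
  fin_cases a <;> fin_cases b <;> simp [e7, mul_comm]

theorem ρ7_x6 (t : K) : ρ7 K ((repG2 K).x 6 t) =
    !![1, 0, 0, 0, 0, 0, 0;
      0, 1, t, 0, 0, 0, 0;
      0, 0, 1, 0, 0, 0, 0;
      0, 0, 0, 1, 0, 0, 0;
      0, 0, 0, 0, 1, -t, 0;
      0, 0, 0, 0, 0, 1, 0;
      0, 0, 0, 0, 0, 0, 1] := by
  rw [ρ7_x]
  ext a b
  fin_cases a <;> fin_cases b <;> simp [e7, mul_comm]

theorem ρ7_x7 (t : K) : ρ7 K ((repG2 K).x 7 t) =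
    !![1, -2 * t, 0, 0, 0, 0, 0;
      0, 1, 0, 0, 0, 0, 0;
      0, 0, 1, -2 * t, -t ^ 2, 0, 0;
      0, 0, 0, 1, t, 0, 0;
      0, 0, 0, 0, 1, 0, 0;
      0, 0, 0, 0, 0, 1, 2 * t;
      0, 0, 0, 0, 0, 0, 1] := by
  rw [ρ7_x]
  ext a b
  fin_cases a <;> fin_cases b <;> simp [e7, mul_comm]

theorem ρ7_x8 (t : K) : ρ7 K ((repG2 K).x 8 t) =
    !![1, 0, 2 * t, 0, 0, 0, 0;
      0, 1, 0, t, 0, -t ^ 2, 0;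
      0, 0, 1, 0, 0, 0, 0;
      0, 0, 0, 1, 0, t, 0;
      0, 0, 0, 0, 1, 0, -2 * t;
      0, 0, 0, 0, 0, 1, 0;
      0, 0, 0, 0, 0, 0, 1] := by
  rw [ρ7_x]
  ext a b
  fin_cases a <;> fin_cases b <;> simp [e7, mul_comm]

theorem ρ7_x9 (t : K) : ρ7 K ((repG2 K).x 9 t) =
    !![1, 0, 0, -t, 0, 0, -t ^ 2;
      0, 1, 0, 0, 2 * t, 0, 0;
      0, 0, 1, 0, 0, -2 * t, 0;
      0, 0, 0, 1, 0, 0, 2 * t;
      0, 0, 0, 0, 1, 0, 0;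
      0, 0, 0, 0, 0, 1, 0;
      0, 0, 0, 0, 0, 0, 1] := by
  rw [ρ7_x]
  ext a b
  fin_cases a <;> fin_cases b <;> simp [e7, mul_comm]

theorem ρ7_x10 (t : K) : ρ7 K ((repG2 K).x 10 t) =
    !![1, 0, 0, 0, -t, 0, 0;
      0, 1, 0, 0, 0, 0, 0;
      0, 0, 1, 0, 0, 0, t;
      0, 0, 0, 1, 0, 0, 0;
      0, 0, 0, 0, 1, 0, 0;
      0, 0, 0, 0, 0, 1, 0;
      0, 0, 0, 0, 0, 0, 1] := by
  rw [ρ7_x]
  ext a b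
  fin_cases a <;> fin_cases b <;> simp [e7, mul_comm]

theorem ρ7_x11 (t : K) : ρ7 K ((repG2 K).x 11 t) =
    !![1, 0, 0, 0, 0, -t, 0;
      0, 1, 0, 0, 0, 0, t;
      0, 0, 1, 0, 0, 0, 0;
      0, 0, 0, 1, 0, 0, 0;
      0, 0, 0, 0, 1, 0, 0;
      0, 0, 0, 0, 0, 1, 0;
      0, 0, 0, 0, 0, 0, 1] := by
  rw [ρ7_x]
  ext a b
  fin_cases a <;> fin_cases b <;> simp [e7, mul_comm]

end CF.BN
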