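import Cfsg.Agent.BN.RcD

/-!
# Squares of regular semisimple classes in `²G₂(q)`
-/

set_option autoImplicit false

namespace CF.BN

open CF.Chev Cfsg.Lie Matrix

variable {K : Type*} [Field K] [CharP K 3]

theorem two_eq3 : (2 : K) = -1 := by linear_combination three_eq (K := K)

theorem ρ7_n6 (t : Kˣ) : ρ7 K ((repG2 K).n 6 t) =
    !![1, 0, 0, 0, 0, 0, 0; 0, 0, (t : K), 0, 0, 0, 0; 0, -(t : K)⁻¹, 0, 0, 0, 0, 0; 0, 0, 0, 1, 0, 0, 0;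
      0, 0, 0, 0, 0, -(t : K), 0; 0, 0, 0, 0, (t : K)⁻¹, 0, 0; 0, 0, 0, 0, 0, 0, 1] := by
  rw [PreSt.n, show cG2.neg 6 = 5 by decide +kernel, map_mul, map_mul, ρ7_x6, ρ7_x5]
  simp

theorem ρ7_n10 : ρ7 K ((repG2 K).n 10 1) =
    !![0, 0, 0, 0, -1, 0, 0; 0, 1, 0, 0, 0, 0, 0; 0, 0, 0, 0, 0, 0, 1; 0, 0, 0, 1, 0, 0, 0;
      1, 0, 0, 0, 0, 0, 0; 0, 0, 0, 0, 0, 1, 0; 0, 0, -1, 0, 0, 0, 0] := by
  rw [PreSt.n, show cG2.neg 10 = 1 by decide +kernel, map_mul, map_mul, ρ7_x10, ρ7_x1]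
  simp

theorem ρ7_n8 : ρ7 K ((repG2 K).n 8 1) =
    !![0, 0, -1, 0, 0, 0, 0; 0, 0, 0, 0, 0, -1, 0; 1, 0, 0, 0, 0, 0, 0; 0, 0, 0, -1, 0, 0, 0;
      0, 0, 0, 0, 0, 0, 1; 0, -1, 0, 0, 0, 0, 0; 0, 0, 0, 0, -1, 0, 0] := by
  rw [PreSt.n, show cG2.neg 8 = 3 by decide +kernel, map_mul, map_mul, ρ7_x8, ρ7_x3]
  have h : (1 : K) + 1 = -1 := one_add_one_eq_two.trans two_eq3
  simp [two_eq3, h]

theorem ρ7_n7 (t : Kˣ) : ρ7 K ((repG2 K).n 7 t) =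
    !![0, (t : K), 0, 0, 0, 0, 0; -(t : K)⁻¹, 0, 0, 0, 0, 0, 0; 0, 0, 0, 0, -(t : K) ^ 2, 0, 0; 0, 0, 0, -1, 0, 0, 0;
      0, 0, -((t : K)⁻¹) ^ 2, 0, 0, 0, 0; 0, 0, 0, 0, 0, 0, -(t : K); 0, 0, 0, 0, 0, (t : K)⁻¹, 0] := by
  rw [PreSt.n, show cG2.neg 7 = 4 by decide +kernel, map_mul, map_mul, ρ7_x7, ρ7_x4]
  have h : (1 : K) + 1 = -1 := one_add_one_eq_two.trans two_eq3
  simp [two_eq3, h, sq, mul_mul_mul_comm (t : K) t, mul_mul_mul_comm (t : K)⁻¹ (t : K)⁻¹]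

theorem ρ7_h6 (t : Kˣ) : ρ7 K ((repG2 K).h 6 t) =
    !![1, 0, 0, 0, 0, 0, 0; 0, (t : K), 0, 0, 0, 0, 0; 0, 0, (t : K)⁻¹, 0, 0, 0, 0; 0, 0, 0, 1, 0, 0, 0;
      0, 0, 0, 0, (t : K), 0, 0; 0, 0, 0, 0, 0, (t : K)⁻¹, 0; 0, 0, 0, 0, 0, 0, 1] := by
  rw [PreSt.h, map_mul, ρ7_n6, ρ7_n6]
  simp

theorem ρ7_h7 (t : Kˣ) : ρ7 K ((repG2 K).h 7 t) =
    !![(t : K), 0, 0, 0, 0, 0, 0; 0, (t : K)⁻¹, 0, 0, 0, 0, 0; 0, 0, (t : K) ^ 2, 0, 0, 0, 0; 0, 0, 0, 1, 0, 0, 0;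
      0, 0, 0, 0, ((t : K)⁻¹) ^ 2, 0, 0; 0, 0, 0, 0, 0, (t : K), 0; 0, 0, 0, 0, 0, 0, (t : K)⁻¹] := by
  rw [PreSt.h, map_mul, ρ7_n7, ρ7_n7]
  simp

theorem trace_G2 (B C b c : K) (s t : Kˣ) : (ρ7 K (g6 (repG2 K).toPreSt 0 0 B C b c *
    (r3_repG2.tor ![s, t] * ((repG2 K).n 8 1 * (repG2 K).n 10 1)))).trace =
      -1 + (s * (t : K)⁻¹ * B ^ 2 + (s : K)⁻¹ * (C ^ 2 + B * b)) := by
  simp only [g6, tor_two, PreSt.x_zero, one_mul, map_mul, ρ7_x8, ρ7_x9, ρ7_x10, ρ7_x11, ρ7_h6, ρ7_h7, ρ7_n8, ρ7_n10]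
  simp [two_eq3, Matrix.trace, Fin.sum_univ_seven]
  ring

theorem class_G2 [Fintype K] {θ : K →+* K} {e : ℕ} (hθ : ∀ t, θ t = t ^ e) (h3 : ∀ t, θ (θ t) ^ 3 = t)
    (hq : 3 < Nat.card K) {r : ℕ} (hr : r ^ 2 = 3 * Nat.card K) {x g : gG2 (repG2 K) e} (h2 : 2 < orderOf x)
    (h3' : ¬ 3 ∣ orderOf x) (hg : g ≠ 1) : Ree.Sq x g := by
  classical
  obtain ⟨D, hu, hh⟩ := exists_reeData_gG2 hθ h3
  let w : gG2 (repG2 K) e := ⟨_, wG2_mem r3_repG2 hθ⟩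
  have hw : ∀ t, w * D.h t * w⁻¹ = (D.h t)⁻¹ := fun t => Subtype.ext (by
    rw [Subgroup.coe_mul, Subgroup.coe_mul, Subgroup.coe_inv, Subgroup.coe_inv, hh]
    exact R3_conj_of_neg r3_repG2 (lgG2 ▸ (nW_wG2 (ρ := repG2 K)).acts)
      (r3_repG2.range_tor.le ⟨tG2 θ t, rfl⟩))
  obtain ⟨s, hs⟩ : ∃ s, w = D.h s * D.w := by
    obtain ⟨t, a, b⟩ := Ree.exists_unit_ne hq
    rcases D.mem_H_or_of_conj a b (g := w) (by rw [hw]; exact inv_mem (D.h_mem_H t)) with h | h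
    · have := hw t
      rw [(D.commute_H h (D.h_mem_H t)).eq, mul_inv_cancel_right, ← map_inv, D.h_injective.eq_iff,
        eq_inv_iff_mul_eq_one, Units.ext_iff, Units.val_mul, Units.val_one, mul_self_eq_one_iff] at this
      exact absurd (this.imp Units.ext Units.ext) (not_or.2 ⟨a, b⟩)
    · obtain ⟨s, h⟩ := D.mem_H.1 h
      exact ⟨s⁻¹, by rw [← D.w_mul_h, h, ← mul_assoc, D.w_mul_w, one_mul]⟩
  have hl : ∀ y, θ ((rtG2 θ h3).l y) = y := fun y => by simp [rtG2, frobenius_def, h3]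
  refine Ree.ReeData.TrD.sq hq hr (D := D) (τ := fun y => (ρ7 K y).trace) (s := s) ⟨fun g y => ?_, fun y => ?_,
    fun B C t => ?_⟩ h2 h3' hg
  · rw [Subgroup.coe_mul, Subgroup.coe_mul, map_mul, map_mul, Matrix.trace_mul_cycle, ← map_mul,
      ← Subgroup.coe_mul, inv_mul_cancel, Subgroup.coe_one, map_one, one_mul]
  · rw [Subgroup.coe_pow, map_pow, Nat.card_eq_fintype_card, FiniteField.trace_pow_card, FiniteField.pow_card]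
  · rw [map_mul, mul_assoc, ← hs, Subgroup.coe_mul, Subgroup.coe_mul, hu, hh]
    have := trace_G2 B C ((rtG2 θ h3).l B) ((rtG2 θ h3).l C) t ((rtG2 θ h3).lu t)
    rw [show tG2 θ ((rtG2 θ h3).lu t) = ![t, (rtG2 θ h3).lu t] from
      congrArg (![·, _]) (Units.ext (hl t))]
    simpa [uG2, hl, w] using this

end CF.BN
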