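import Cfsg.Agent.BN.Ss5

/-! The normalizer of a subgroup of order `7` of the first kind in `²E₆(2)`. -/

set_option autoImplicit false
set_option synthInstance.maxSize 1024

namespace CF.BN

open CF.Chev CF.Chev.StRep CF.ExA Cfsg.Lie Subgroup
open scoped Matrix

namespace EF

variable {X : Type*} [Group X] (E : EF cE6 (cE6.wp l7) X) {ψ : AddChar (ZMod 7) E.Kˣ}
  [IsSimpleGroup X] (hψ : Function.Injective ψ)
include hψ

theorem nomax_A : ¬ IsCoatom (normalizer (zpowers (E.θ (E.el ψ _ (fix7 1 0))) : Set X)) := by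
  refine E.nomax_cyc (us := ![0, 0, 0, 1, 0, 0]) (ε := -1) (Ψ := [56, 42, 37, 36]) (by decide) hψ
    (by unfold Chk3; decide +kernel) (by decide +kernel) fun ζ _ h1 => ?_
  set a := E.el ψ _ (fix7 1 0)
  set b := E.el ψ _ (fix7 0 1)
  obtain ⟨y, h2, h3⟩ := E.exists_lang (fin_ψ ψ fun i => x7 0 1 i)
    (fun g hg => (show E.F b = b from b.2).subst (hg.map E.F))
    (l := [3, 2, 0, 4, 3, 1, 2, 3, 4, 5, 4, 3, 1, 2, 0, 3, 2, 4, 3, 1])
    (by rw [Mw_wp]; exact mp_ψ_eq ψ (by decide +kernel))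
  have h0 : cE6.wp l7 (cE6.neg 46) =
      cE6.wp [3, 2, 0, 4, 3, 1, 2, 3, 4, 5, 4, 3, 1, 2, 0, 3, 2, 4, 3, 1] 46 := by
    rw [Fin.ext_iff, tabE6'.wp, tabE6'.wp]
    decide +kernel
  obtain ⟨u, hu⟩ : ∃ u : Fx E.F, u = y * E.ρ.x 46 1 * y⁻¹ :=
    ⟨⟨_, (h3 _).2 (by rw [E.F_x, nw_conj, one_pow, h0])⟩, rfl⟩
  have h4 : Commute u.1 b := hu.symm.subst (motive := (Commute · _)) <| (h2.mul_left (commute_tor_U E.h.r3 (E.ρ.x_mem_U
    ((rv_prE hψ _ _).2 (by decide +kernel)) 1))).mul_left h2.inv_left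
  have h5 : u * u = 1 := Subtype.ext (by
    rw [coe_mul, hu, conj_mul, ← E.ρ.x_add, CharTwo.add_self_eq_zero]; simp)
  refine ⟨u, cent_le E.h (fin_ψ ψ _) (fun r e => h1 r ?_) h4, fun he => ?_⟩
  · replace e := (rv_prE hψ _ r).1 e
    revert r
    decide +kernel
  have h6 := (he a).1 (mem_zpowers a)
  by_cases h7 : a * (u * a * u⁻¹) = 1
  · obtain ⟨w, hw, h8⟩ := E.h.exists_W_of_conj (g := u) (c := fun i => ψ (x7 1 1 i))
      (c' := fun i => ψ (x7 6 1 i)) (by
        have e1 : (fun i => ψ (x7 1 1 i)) = (fun i => ψ (x7 1 0 i)) * fun i => ψ (x7 0 1 i) := by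
          funext i; rw [Pi.mul_apply, ← AddChar.map_add_eq_mul]; congr 1; revert i; decide
        have e2 : (fun i => ψ (x7 6 1 i)) = (fun i => ψ (x7 1 0 i))⁻¹ * fun i => ψ (x7 0 1 i) := by
          funext i
          rw [Pi.mul_apply, Pi.inv_apply, ← AddChar.map_neg_eq_inv, ← AddChar.map_add_eq_mul]
          congr 1; revert i; decide
        rw [e1, e2, map_mul, map_mul, map_inv]
        change u.1 * (a * b) * u.1⁻¹ = a.1⁻¹ * b
        rw [inv_eq_of_mul_eq_one_right (congrArg Subtype.val h7), ← mul_assoc, mul_assoc _ b.1,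
          ← h4.inv_left.eq]
        simp [mul_assoc])
    rw [mp_ψ'] at h8
    have h9 := winv_w27.hs hw (fun j => 32 ^ j.val) fun i => (x7 1 1 i : ZMod 7)
    rw [show Mz cE6 7 w *ᵥ _ = _ from funext fun i => hψ (congrFun h8 i), hs_wts, hs_wts] at h9
    exact absurd h9 (by decide +kernel)
  have h8 : Nat.card (zpowers a) = 7 := by
    rw [Nat.card_zpowers]
    exact Nat.dvd_antisymm (orderOf_dvd_of_pow_eq_one E.el_pow) ((E.orderOf_el (h := fix7 1 0)
      (by decide) hψ 46 (by decide +kernel)).symm.dvd.trans (orderOf_map_dvd _ _))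
  obtain ⟨k, hk⟩ := mem_zpowers_of_prime_card (G := zpowers a) (g := ⟨_, mul_mem (mem_zpowers a) h6⟩)
    (g' := ⟨_, mem_zpowers _⟩) h8 (by simpa)
  have h9 : Commute u a := by
    rw [← show (a * (u * a * u⁻¹)) ^ k = a from congrArg Subtype.val hk]
    refine Commute.zpow_right ?_ k
    obtain ⟨j, hj⟩ := h6
    have h9 : Commute a (u * a * u⁻¹) := hj.subst ((Commute.refl a).zpow_right j)
    rw [Commute, SemiconjBy]
    conv_lhs => rw [h9.eq]
    simp [← mul_assoc, h5, inv_eq_of_mul_eq_one_left h5, mul_assoc _ u u]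
  obtain ⟨χ, hχ, -⟩ := exists_ψ (B := Fin 6) (K := E.K) (p := 2) (m := 13) (by decide)
  have h10 : ∀ x z : Fin 6 → ℤ, (∀ r, ((7 : ℕ) : ℤ) ∣ prE x r →
      ((13 : ℕ) : ℤ) ∣ prE z r) → Commute u.1 (E.tor fun i => ψ (x i)) →
      Commute u.1 (E.tor fun i => χ (z i)) := fun _ z e =>
    cent_le E.h (fin_ψ ψ _) fun r h => (rv_prE hχ _ r).2 (e r ((rv_prE hψ _ r).1 h))
  have h11 := (h10 (x7 1 0) (adM *ᵥ ![0, 1, 0, 0, 0, 0]) (by decide +kernel) (h9.map (Fx E.F).subtype)).mul_right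
    (h10 (x7 0 1) (adM *ᵥ ![-3, 0, 1, -3, -2, 14]) (by decide +kernel) h4)
  rw [← map_mul, show (_ * _ : Fin 6 → E.Kˣ) = fun i => χ ((adM *ᵥ ![-3, 1, 1, -3, -2, 14]) i) by
    funext i; rw [Pi.mul_apply, ← AddChar.map_add_eq_mul]; congr 1; revert i; decide +kernel] at h11
  obtain ⟨c, hc⟩ := E.h.r3.range_tor.ge (mem_H_of_reg E.h (fin_ψ χ _)
    (fun r => mt (rv_prE hχ _ r).1 (by revert r; decide +kernel)) h11)
  obtain rfl : c = 1 := funext fun i => by
    have := congrFun (E.h.inj (a₁ := c * c) (a₂ := 1) (by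
      rw [map_mul, hc, map_one]; exact congrArg Subtype.val h5)) i
    exact Units.ext (CharTwo.sq_injective (by simpa [sq] using congrArg Units.val this))
  exact one_ne_zero (E.h.faith.x_injective 46 (by simpa [hu] using hc.symm))

end EF

end CF.BN
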