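import Cfsg.Agent.BN.Singer
import Cfsg.Agent.Char.PermLemma

/-!
# Characters induced from an abelian trivial intersection subgroup
-/

set_option autoImplicit false

namespace CF.BN

open Subgroup Cfsg CF.Char ComplexConjugate

variable {G : Type*} [Group G]

/-- An abelian TI subgroup whose normaliser is a Frobenius group over it, of relative index `k`. -/
structure Tor (A : Subgroup G) (k : ℕ) : Prop where
  comm : ∀ a ∈ A, ∀ b ∈ A, a * b = b * a
  ti : ∀ g x, x ∈ A → x ≠ 1 → g * x * g⁻¹ ∈ A → g ∈ normalizer (A : Set G)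
  fpf : ∀ g ∈ normalizer (A : Set G), g ∉ A → ∀ c ∈ A, ∃ a ∈ A, a * g * a⁻¹ = c * g
  card : Nat.card (normalizer (A : Set G)) = k * Nat.card A

theorem mem_conjSet_conj {A : Subgroup G} {x : G} (g : G) :
    g * x * g⁻¹ ∈ conjSet A ↔ x ∈ conjSet A := by
  refine and_congr (by simp [mul_inv_eq_one]) ⟨fun ⟨k, hk⟩ => ⟨g⁻¹ * k, ?_⟩,
    fun ⟨k, hk⟩ => ⟨g * k, ?_⟩⟩ <;> simpa [mul_assoc] using hk

theorem mem_conjSet_of_mem {A : Subgroup G} {x : G} (hx : x ∈ A) (h1 : x ≠ 1) : x ∈ conjSet A :=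
  ⟨h1, 1, by simpa⟩

theorem exists_isConj_of_mem_conjSet {A : Subgroup G} {x : G} (h : x ∈ conjSet A) :
    ∃ y ∈ A, y ≠ 1 ∧ IsConj y x := by
  obtain ⟨h1, g, hg⟩ := h
  exact ⟨_, hg, fun h => h1 (by rw [mul_assoc, inv_mul_eq_one] at h; simpa using h.symm),
    isConj_iff.2 ⟨g, by simp [mul_assoc]⟩⟩

variable [Fintype G]

theorem indFun_eq_zero_of_not_mem_conjSet (A : Subgroup G) (θ : A → ℂ) {x : G} (h1 : x ≠ 1)
    (h : x ∉ conjSet A) : indFun A θ x = 0 :=
  indFun_eq_zero_of_not_conj A θ fun g hg => h ⟨h1, g⁻¹, by rwa [inv_inv]⟩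

theorem indFun_one_eq (K : Subgroup G) (x : G) : (Nat.card K : ℂ) * indFun K (fun _ => 1) x =
    Nat.card (centralizer ({x} : Set G)) * Nat.card {y // IsConj x y ∧ y ∈ K} := by
  classical
  rw [card_mul_indFun, sum_conj_eq, nsmul_eq_mul, Nat.card_eq_fintype_card (α := {y // _ ∧ _}),
    Fintype.card_subtype, Finset.card_filter, Finset.sum_filter]
  push_cast
  congr 2
  ext y
  by_cases h : y ∈ K <;> by_cases h' : IsConj x y <;> simp [extendByZero_apply, h, h']

open Classical in
/-- The indicator function of the non-identity elements of `A`. -/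
noncomputable def sharp (A : Subgroup G) : A → ℂ := fun x => if x = 1 then 0 else 1

theorem indFun_sharp_mul (A : Subgroup G) (θ : A → ℂ) {x : G} (h1 : x ≠ 1) :
    indFun A (fun y => sharp A y * θ y) x = indFun A θ x := by
  rw [← sub_eq_zero, ← Pi.sub_apply, ← indFun_sub]
  refine indFun_eq_zero A fun g hg => ?_
  have : (⟨_, hg⟩ : A) ≠ 1 := fun h => h1 (by simpa [mul_inv_eq_one] using congrArg Subtype.val h)
  simp [sharp, this]

theorem indFun_sharp_mul_one (A : Subgroup G) (θ : A → ℂ) :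
    indFun A (fun y => sharp A y * θ y) 1 = 0 := by
  rw [indFun_one]; simp [sharp]

namespace Tor

variable {A : Subgroup G} {k : ℕ} (hA : Tor A k)
include hA

open Classical in
theorem card_mul_indFun (θ : A → ℂ) {x : G} (hx : x ∈ A) (h1 : x ≠ 1) :
    (Nat.card A : ℂ) * indFun A θ x = ∑ g : normalizer (A : Set G),
      θ ⟨g * x * (g : G)⁻¹, (mem_normalizer_iff.1 g.2 x).1 hx⟩ := by
  rw [CF.Char.card_mul_indFun, ← Finset.sum_filter_add_sum_filter_not _
    (· ∈ normalizer (A : Set G)), Finset.sum_eq_zero (s := Finset.filter (¬ · ∈ _) _), add_zero,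
    Finset.sum_subtype (p := (· ∈ normalizer (A : Set G))) _ (by simp)]
  · exact Finset.sum_congr rfl fun g _ => extendByZero_of_mem _ _ _
  · intro g hg
    exact extendByZero_of_not_mem _ _ fun h => (Finset.mem_filter.1 hg).2 (hA.ti g x hx h1 h)

theorem indFun_one {x : G} (hx : x ∈ conjSet A) : indFun A (fun _ => 1) x = k := by
  classical
  obtain ⟨y, hy, h1, h⟩ := exists_isConj_of_mem_conjSet hx
  rw [← classFun_of_isConj (indFun_isClassFunction A _) h]
  apply mul_left_cancel₀ (card_ne_zero_complex (G := A))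
  rw [hA.card_mul_indFun _ hy h1, Finset.sum_const, Finset.card_univ, ← Nat.card_eq_fintype_card,
    hA.card]
  simp [mul_comm]

theorem norm_indFun_le (lam : A →* ℂˣ) {x : G} (h1 : x ≠ 1) :
    ‖indFun A (fun y => (lam y : ℂ)) x‖ ≤ k := by
  classical
  by_cases hx : x ∈ conjSet A
  · obtain ⟨y, hy, h1, h⟩ := exists_isConj_of_mem_conjSet hx
    rw [← classFun_of_isConj (indFun_isClassFunction A _) h]
    apply le_of_mul_le_mul_left (a := (Nat.card A : ℝ)) _ (by exact_mod_cast Nat.card_pos)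
    rw [← Complex.norm_natCast, ← norm_mul, hA.card_mul_indFun _ hy h1, Complex.norm_natCast]
    refine (norm_sum_le _ _).trans (le_of_eq ?_)
    simp only [linear_norm]
    rw [Finset.sum_const, Finset.card_univ, ← Nat.card_eq_fintype_card, hA.card]
    simp [mul_comm]
  · rw [indFun_eq_zero_of_not_mem_conjSet A _ h1 hx]; simp

open Classical in
theorem indFun_sharp (x : G) : indFun A (sharp A) x = if x ∈ conjSet A then (k : ℂ) else 0 := by
  have e : sharp A = fun y => sharp A y * 1 := by simp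
  by_cases h1 : x = 1
  · rw [h1, e, indFun_sharp_mul_one, if_neg fun h => h.1 rfl]
  · rw [e, indFun_sharp_mul A _ h1]
    split_ifs with h
    · exact hA.indFun_one h
    · exact indFun_eq_zero_of_not_mem_conjSet A _ h1 h

open Classical in
theorem sum_conjSet {f : G → ℂ} (hf : IsClassFunction G f) :
    k * ∑ x, (if x ∈ conjSet A then f x else 0) = A.index * ∑ x : A, sharp A x * f x := by
  rw [← sum_indFun_mul A _ hf, Finset.mul_sum]
  refine Finset.sum_congr rfl fun x _ => ?_
  rw [hA.indFun_sharp]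
  split_ifs <;> simp

open Classical in
theorem sum_linear_mul_conj {lam : A →* ℂˣ} (h : lam ≠ 1) (g : normalizer (A : Set G)) :
    ∑ x : A, (lam x : ℂ) * conj (lam ⟨g * x * (g : G)⁻¹, (mem_normalizer_iff.1 g.2 x).1 x.2⟩ : ℂ) =
      if (g : G) ∈ A then (Nat.card A : ℂ) else 0 := by
  let mu : A →* ℂˣ := lam.comp (A.normalizerMonoidHom g).toMonoidHom
  have e : ∀ x : A, lam ⟨g * x * (g : G)⁻¹, (mem_normalizer_iff.1 g.2 x).1 x.2⟩ = mu x :=
    fun x => rfl
  simp only [e]
  rw [← card_mul_inner, inner_irr (irr_linear lam) (irr_linear mu)]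
  by_cases hg : (g : G) ∈ A
  · rw [if_pos hg, if_pos, mul_one]
    ext x
    rw [← e]; congr 2
    exact Subtype.ext (by simp [hA.comm _ hg _ x.2])
  · rw [if_neg hg, if_neg, mul_zero]
    intro h'
    apply h
    ext c
    obtain ⟨a, ha, hc⟩ := hA.fpf g g.2 hg c c.2
    have h2 := Units.ext (congrFun h' ⟨a⁻¹, inv_mem ha⟩)
    rw [← e] at h2
    have : c = ⟨a, ha⟩ * ⟨g * a⁻¹ * (g : G)⁻¹, (mem_normalizer_iff.1 g.2 _).1 (inv_mem ha)⟩ :=
      Subtype.ext (by simp [← mul_assoc, hc])
    rw [this, map_mul, ← h2, ← map_mul]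
    simp [show (⟨a, ha⟩ : A) * ⟨a⁻¹, inv_mem ha⟩ = 1 from Subtype.ext (by simp)]

open Classical in
theorem sum_linear_mul_conj_indFun {lam : A →* ℂˣ} (h : lam ≠ 1) :
    ∑ x : A, sharp A x * lam x * conj (indFun A (fun y => (lam y : ℂ)) x) = Nat.card A - k := by
  apply mul_left_cancel₀ (card_ne_zero_complex (G := A))
  have e : ∀ x : A, (Nat.card A : ℂ) * (sharp A x * lam x *
      conj (indFun A (fun y => (lam y : ℂ)) x)) = ∑ g : normalizer (A : Set G), ((lam x : ℂ) *
        conj (lam ⟨g * x * (g : G)⁻¹, (mem_normalizer_iff.1 g.2 x).1 x.2⟩ : ℂ) -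
          if x = 1 then 1 else 0) := by
    intro x
    by_cases h1 : x = 1
    · subst h1
      simp [sharp, show ∀ h, (⟨1, h⟩ : A) = 1 from fun _ => rfl]
    · have := congrArg conj (hA.card_mul_indFun (fun y => (lam y : ℂ)) x.2
        fun h => h1 (Subtype.ext h))
      rw [map_mul, map_natCast, map_sum] at this
      rw [mul_left_comm, this, Finset.mul_sum]
      simp [sharp, h1]
  rw [Finset.mul_sum, Finset.sum_congr rfl fun x _ => e x, Finset.sum_comm]
  simp only [Finset.sum_sub_distrib, hA.sum_linear_mul_conj h]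
  rw [← Finset.sum_filter, Finset.sum_const, Finset.sum_comm, Finset.sum_eq_single (1 : A)]
  · have : (Finset.univ.filter fun g : normalizer (A : Set G) => (g : G) ∈ A).card =
        Nat.card A := by
      rw [← Fintype.card_subtype, ← Nat.card_eq_fintype_card]
      exact Nat.card_congr (subgroupOfEquivOfLe le_normalizer).toEquiv
    rw [this, Finset.sum_const, Finset.card_univ, ← Nat.card_eq_fintype_card, hA.card]
    simp; ring
  · intro b _ hb; simp [hb]
  · simp

open Classical in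
theorem sum_norm_indFun {lam : A →* ℂˣ} (h : lam ≠ 1) :
    ∑ x : A, sharp A x * (indFun A (fun y => (lam y : ℂ)) x *
      conj (indFun A (fun y => (lam y : ℂ)) x)) = k * (Nat.card A - k) := by
  have hf := indFun_isClassFunction A (fun y => (lam y : ℂ))
  apply mul_left_cancel₀ (show (A.index : ℂ) ≠ 0 by exact_mod_cast index_ne_zero_of_finite)
  have := hA.sum_conjSet (classFun_mul hf (classFun_star hf))
  simp only [Pi.mul_apply] at this
  rw [← this, ← hA.sum_linear_mul_conj_indFun h, mul_left_comm,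
    ← sum_indFun_mul A (fun x => sharp A x * lam x) (classFun_star hf)]
  congr 1
  refine Finset.sum_congr rfl fun x _ => ?_
  by_cases h1 : x = 1
  · rw [h1, indFun_sharp_mul_one, if_neg fun h => h.1 rfl, zero_mul]
  · rw [indFun_sharp_mul A _ h1]
    split_ifs with hx
    · rfl
    · rw [indFun_eq_zero_of_not_mem_conjSet A _ h1 hx, zero_mul]

theorem eq_zero_of_inner {χ : G → ℂ} (hχ : IsClassFunction G χ)
    (h : ∀ lam : A →* ℂˣ, lam ≠ 1 → classInner χ (indFun A fun y => (lam y : ℂ)) =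
      classInner χ (indFun A fun _ => 1)) {x : G} (hx : x ∈ conjSet A) : χ x = 0 := by
  classical
  obtain ⟨y, hy, h1, h2⟩ := exists_isConj_of_mem_conjSet hx
  rw [← classFun_of_isConj hχ h2]
  have hc : ∀ a b : A, a * b = b * a := fun a b => Subtype.ext (hA.comm _ a.2 _ b.2)
  have := classFun_apply_eq_sum (classFun_restrict hχ A) ⟨y, hy⟩
  rw [this, Finset.sum_congr rfl (g := fun ψ : IrrCharacter A => classInner χ (indFun A fun _ => 1) *
    ((ψ : A → ℂ) 1 * (ψ : A → ℂ) ⟨y, hy⟩)), ← Finset.mul_sum,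
    sum_irr_one_mul_of_ne fun h => h1 (congrArg Subtype.val h), mul_zero]
  intro ψ _
  have h3 := irr_one_eq_one_of_comm hc ψ.2
  obtain ⟨lam, e⟩ := exists_linear_of_one (irr_isCharacter ψ.2) h3
  rw [h3, one_mul, ← inner_indFun_right A _ hχ, e]
  by_cases h4 : lam = 1
  · simp [h4]
  · rw [h lam h4]

omit hA in
theorem exists_linear_ne_one (hA : Tor A k) (h : A ≠ ⊥) : ∃ lam : A →* ℂˣ, lam ≠ 1 := by
  obtain ⟨x, hx⟩ := ne_bot_iff_exists_ne_one.1 h
  obtain ⟨mu, -, h⟩ := exists_linear_of_not_mem_of_comm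
    (fun a b : A => Subtype.ext (hA.comm _ a.2 _ b.2)) ⊥ (mt mem_bot.1 hx)
  exact ⟨mu, by rintro rfl; exact h rfl⟩

end Tor

open Classical in
theorem sum_sharp_const (A : Subgroup G) {f : G → ℂ} {c : ℂ} (h : ∀ x ∈ conjSet A, f x = c) :
    ∑ x : A, sharp A x * f x = (Nat.card A - 1) * c := by
  rw [Finset.sum_congr rfl (g := fun x => c - if x = 1 then c else 0), Finset.sum_sub_distrib,
    Finset.sum_const, Finset.card_univ, ← Nat.card_eq_fintype_card]
  · simp; ring
  · intro x _
    by_cases h1 : x = 1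
    · simp [sharp, h1]
    · simp [sharp, h1, h x (mem_conjSet_of_mem x.2 fun h => h1 (Subtype.ext h))]

open Classical in
theorem sum_sharp_congr (A : Subgroup G) {f g : G → ℂ} (h : ∀ x ∈ conjSet A, f x = g x) :
    ∑ x : A, sharp A x * f x = ∑ x : A, sharp A x * g x := by
  refine Finset.sum_congr rfl fun x _ => ?_
  by_cases h1 : x = 1
  · simp [sharp, h1]
  · rw [h x (mem_conjSet_of_mem x.2 fun h => h1 (Subtype.ext h))]

end CF.BN
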