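import Cfsg.Agent.BN.SzSol
import Cfsg.Agent.BN.TIChar
import Cfsg.Agent.Char.More

/-!
# The irreducible characters of the Suzuki groups, I: classes, the Steinberg character and `W`
-/

set_option autoImplicit false
set_option linter.unusedSectionVars false

namespace CF.BN.Suz

open MulAction Subgroup Cfsg CF.Char ComplexConjugate

variable {F : Type*} [Field F]

namespace SzData

variable {T : Tits F} {G : Type*} [Group G] (D : SzData T G) [Finite F]

theorem tor_H (h8 : 8 ≤ Nat.card F) : Tor D.H 2 where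
  comm _ ha _ hb := D.commute_of_mem_H ha hb
  ti _ _ hx h1 h := D.mem_normalizer_H_of_conj hx h1 h
  fpf g hg hg' c hc := by
    have := T.charP
    obtain ⟨t, ht⟩ := ((D.mem_normalizer_H_iff (exists_unit_ne_one (by omega))).1 hg).resolve_left
      hg'
    obtain rfl : g = D.w * D.h t := by rw [ht, ← mul_assoc, w_mul_w, one_mul]
    obtain ⟨s, rfl⟩ := hc
    obtain ⟨a, rfl⟩ : ∃ a : Fˣ, a * a = s := by
      obtain ⟨a, ha⟩ := (T.θ_surjective.comp T.θ_surjective) s
      have h0 : a ≠ 0 := by rintro rfl; exact s.ne_zero (by simpa using ha.symm)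
      exact ⟨Units.mk0 a h0, Units.ext (by rw [← ha]; simp [T.θθ, sq])⟩
    refine ⟨_, D.h_mem_H a, ?_⟩
    rw [mul_assoc, mul_assoc, ← map_inv, ← map_mul, mul_comm t, map_mul, ← mul_assoc D.w, w_mul_h,
      inv_inv, map_mul]
    simp only [mul_assoc]
  card := by rw [D.card_normalizer_H (exists_unit_ne_one (by omega)), card_H]

theorem Reg.tor {D : SzData T G} {r : ℕ} (hr : r ^ 2 = 2 * Nat.card F) (h8 : 8 ≤ Nat.card F) {z : G}
    (hz : D.Reg z) : Tor (centralizer ({z} : Set G)) 4 where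
  comm _ ha _ hb := hz.commute ha hb
  ti g x hx h1 h := hz.mem_normalizer_of_conj g x hx h1 h
  fpf _ hg hg' _ hc := hz.exists_conj_eq_mul hg hg' hc
  card := hz.card_normalizer hr h8

omit [Finite F] in
theorem mem_conjSet_H {x : G} : x ∈ conjSet D.H ↔ x ≠ 1 ∧ ∃ g, x ∈ (D.conj g).H := by
  simp only [mem_conjSet, mem_conj_H]

include D in
theorem card_centralizer_of_mem_conjSet {x z : G} (h1 : z ≠ 1) (h : Odd (orderOf z))
    (hx : x ∈ conjSet (centralizer ({z} : Set G))) :
    Nat.card (centralizer ({x} : Set G)) = Nat.card (centralizer ({z} : Set G)) := by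
  obtain ⟨y, hy, hy1, h2⟩ := exists_isConj_of_mem_conjSet hx
  rw [← card_centralizer_of_isConj h2, D.centralizer_eq_of_odd h1 h hy hy1]

omit [Finite F] in
theorem card_centralizer_of_mem_conjSet_H {x : G} (hx : x ∈ conjSet D.H) :
    Nat.card (centralizer ({x} : Set G)) = Nat.card F - 1 := by
  obtain ⟨h1, g, hg⟩ := D.mem_conjSet_H.1 hx
  rw [(D.conj g).centralizer_of_mem_H hg h1, card_H]

theorem odd_of_mem_conjSet_H {x : G} (hx : x ∈ conjSet D.H) : Odd (orderOf x) := by
  obtain ⟨-, g, hg⟩ := D.mem_conjSet_H.1 hx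
  exact (D.conj g).odd_of_mem_H hg

theorem not_mem_conjSet_of_pow_four {A : Subgroup G} (hA : Odd (Nat.card A)) {x : G}
    (hx : x ^ 4 = 1) : x ∉ conjSet A := by
  intro h
  obtain ⟨y, hy, hy1, h2⟩ := exists_isConj_of_mem_conjSet h
  obtain ⟨c, rfl⟩ := isConj_iff.1 h2
  rw [conj_pow, mul_inv_eq_one, mul_eq_left] at hx
  exact hy1 (orderOf_eq_one_iff.1 ((Nat.Coprime.pow_right 2 (Nat.coprime_two_right.2
    (hA.of_dvd_nat (Subgroup.orderOf_dvd_natCard _ hy)))).eq_one_of_dvd
    (orderOf_dvd_of_pow_eq_one hx)))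

/-- The Steinberg character. -/
noncomputable def St : G → ℂ := fun g => (Nat.card (fixedBy (G ⧸ D.B) g) : ℂ) - 1

theorem irr_St : IsIrrCharacter G D.St := by
  have := D.finite
  have : Nontrivial (G ⧸ D.B) := ⟨⟨_, _, D.pt_ne_inf 0 0⟩⟩
  exact (irr_fixedBy_sub_one_iff _).2 D.two_transitive

theorem St_one : D.St 1 = Nat.card F ^ 2 := by
  rw [St, fixedBy_one_eq_univ, Nat.card_univ, card_pts]; simp

theorem St_two {x : G} (hx : x ^ 4 = 1) (h1 : x ≠ 1) : D.St x = 0 := by
  obtain ⟨g, hg⟩ := D.exists_conj_mem_U (x := x) (k := 2) hx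
  rw [← classFun_conj' (irr_isClassFunction D.irr_St) x g, St]
  have : fixedBy (G ⧸ D.B) (g⁻¹ * x * g) = {D.inf} := by
    ext p
    refine ⟨fun h => ?_, ?_⟩
    · by_contra h'
      exact conj_ne_one h1 (D.eq_one_of_mem_U_of_smul_eq (D.mem_conj_U.1 hg) h' h)
    · rintro rfl
      exact D.smul_inf_eq_iff.2 (D.U_le_B (D.mem_conj_U.1 hg))
  rw [this]; simp

theorem St_H {x : G} (hx : x ∈ conjSet D.H) : D.St x = 1 := by
  obtain ⟨_, ⟨t, rfl⟩, h1, h⟩ := exists_isConj_of_mem_conjSet hx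
  rw [← classFun_of_isConj (irr_isClassFunction D.irr_St) h, St]
  have : fixedBy (G ⧸ D.B) (D.h t) = {D.inf, D.pt 0 0} :=
    Set.ext fun p => D.h_smul_eq_iff (by rintro rfl; exact h1 (map_one _))
  rw [this, Nat.card_coe_set_eq, Set.ncard_pair (D.pt_ne_inf 0 0).symm]; norm_num

omit [Finite F] in
theorem St_reg {x : G} (hx : D.Reg x) : D.St x = -1 := by
  have : fixedBy (G ⧸ D.B) x = ∅ := Set.eq_empty_of_forall_notMem hx
  rw [St, this]; simp

variable [Fintype G]

/-- A choice of the two non-split tori. -/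
structure Tori (r : ℕ) where
  /-- generator of the first torus -/
  a : G
  /-- generator of the second torus -/
  b : G
  hr : r ^ 2 = 2 * Nat.card F
  h8 : 8 ≤ Nat.card F
  ha : D.Reg a
  hb : D.Reg b
  ca : Nat.card (centralizer ({a} : Set G)) = Nat.card F + r + 1
  cb : Nat.card (centralizer ({b} : Set G)) = Nat.card F - r + 1
  cover : ∀ z, D.Reg z → z ∈ conjSet (centralizer ({a} : Set G)) ∨
    z ∈ conjSet (centralizer ({b} : Set G))

omit [Fintype G] in
theorem nonempty_tori {r : ℕ} (hr : r ^ 2 = 2 * Nat.card F) (h8 : 8 ≤ Nat.card F) :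
    Nonempty (D.Tori r) := by
  obtain ⟨a, b, ha, hb, ca, cb, -, -, h⟩ := D.exists_tori hr h8
  exact ⟨⟨a, b, hr, h8, ha, hb, ca, cb, h⟩⟩

theorem Reg.indN_two {D : SzData T G} {r : ℕ} (hr : r ^ 2 = 2 * Nat.card F) (h8 : 8 ≤ Nat.card F)
    {z : G} (hz : D.Reg z) {x : G} (hx : x ^ 4 = 1) (h1 : x ≠ 1) :
    4 * indFun (normalizer (centralizer ({z} : Set G) : Set G)) (fun _ => 1) x =
      Nat.card (centralizer ({x} : Set G)) := by
  have := indFun_one_eq (normalizer (centralizer ({z} : Set G) : Set G)) x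
  rw [hz.card_normalizer hr h8, hz.card_isConj hr h8 hx h1] at this
  apply mul_right_cancel₀ (card_ne_zero_complex (G := centralizer ({z} : Set G)))
  rw [← this]; push_cast; ring

theorem Reg.indN_odd {D : SzData T G} {r : ℕ} (hr : r ^ 2 = 2 * Nat.card F) (h8 : 8 ≤ Nat.card F)
    {z : G} (hz : D.Reg z) {x : G} (hx : Odd (orderOf x)) :
    4 * indFun (normalizer (centralizer ({z} : Set G) : Set G)) (fun _ => 1) x =
      indFun (centralizer ({z} : Set G)) (fun _ => 1) x := by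
  apply mul_left_cancel₀ (card_ne_zero_complex (G := centralizer ({z} : Set G)))
  rw [card_mul_indFun_one, ← mul_assoc, mul_comm _ (4 : ℂ), ← Nat.cast_ofNat (R := ℂ),
    ← Nat.cast_mul, ← hz.card_normalizer hr h8, card_mul_indFun_one]
  congr 1
  refine Nat.card_congr (Equiv.subtypeEquivRight fun g => ⟨fun h => hz.mem_of_odd hr h8 h ?_,
    fun h => le_normalizer h⟩)
  rwa [← MulAut.conj_apply, MulEquiv.orderOf_eq]

open Classical in
theorem indU_eq (ν : D.U → ℂ) (x : G) : (Nat.card F : ℂ) ^ 2 * indFun D.U ν x =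
    Nat.card (centralizer ({x} : Set G)) *
      ∑ᶠ p : F × F, if IsConj x (D.u p.1 p.2) then ν ⟨D.u p.1 p.2, D.u_mem_U _ _⟩ else 0 := by
  have := Fintype.ofFinite F
  rw [← Nat.cast_pow, ← D.card_U, card_mul_indFun, sum_conj_eq, nsmul_eq_mul, Finset.sum_filter,
    finsum_eq_sum_of_fintype]
  congr 1
  have := sum_extendByZero_mul D.U ν fun y => if IsConj x y then 1 else 0
  simp only [mul_ite, mul_one, mul_zero] at this
  rw [this]
  refine (Fintype.sum_bijective (fun p : F × F => (⟨D.u p.1 p.2, D.u_mem_U _ _⟩ : D.U))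
    ⟨fun p p' h => ?_, ?_⟩ _ _ fun _ => rfl).symm
  · exact Prod.ext (D.u_inj.1 (Subtype.ext_iff.1 h)).1 (D.u_inj.1 (Subtype.ext_iff.1 h)).2
  · rintro ⟨_, a, b, rfl⟩; exact ⟨(a, b), rfl⟩

omit [Fintype G] in
open Classical in
theorem exists_nu : ∃ (ν : D.U → ℂ) (n : F → F → ℂ), IsIrrCharacter D.U ν ∧
    (∀ a b, ν ⟨D.u a b, D.u_mem_U _ _⟩ = n a b) ∧
    (∀ a b c, n a (b + c) = (if c ∈ T.hyp then 1 else -1) * n a b) ∧
    (∀ a b, a ≠ 0 → a ≠ 1 → n a b = 0) ∧ n 1 0 ^ 2 = -n 0 0 ^ 2 ∧ conj (n 1 0) = -n 1 0 ∧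
    2 * n 0 0 ^ 2 = Nat.card F := by
  have := D.finite
  have := T.charP
  have key : ∀ c, (∃ b ∈ T.hyp, D.u 0 c = D.u 0 b) ↔ c ∈ T.hyp := fun c =>
    ⟨fun ⟨b, hb, e⟩ => (D.u_inj.1 e).2 ▸ hb, fun h => ⟨c, h, rfl⟩⟩
  let lam : D.Z.subgroupOf D.U →* ℂˣ := MonoidHom.mk'
    (fun z => if ∃ b ∈ T.hyp, ((z : D.U) : G) = D.u 0 b then 1 else -1) (by
      rintro ⟨⟨x, _⟩, b, (hb : x = _)⟩ ⟨⟨y, _⟩, c, (hc : y = _)⟩
      subst hb hc
      simp only [coe_mul, u_zero_mul, key, T.add_mem_hyp_iff]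
      by_cases hb : b ∈ T.hyp <;> by_cases hc : c ∈ T.hyp <;> simp [hb, hc])
  obtain ⟨ν, hν, h⟩ := exists_irr_over_central (D.Z.subgroupOf D.U) (fun z hz =>
    mem_center_iff.2 fun y => Subtype.ext (D.commute_of_mem_Z hz y.2).symm) lam
  have h' : ∀ c (y : D.U), ν (⟨D.u 0 c, D.u_mem_U _ _⟩ * y) =
      (if c ∈ T.hyp then 1 else -1) * ν y := fun c y => by
    have := h ⟨⟨D.u 0 c, D.u_mem_U _ _⟩, c, rfl⟩ y
    simp only [lam, MonoidHom.mk'_apply, key] at this
    rw [this]; split_ifs <;> simp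
  set n : F → F → ℂ := fun a b => ν ⟨D.u a b, D.u_mem_U _ _⟩ with hn
  have h1 : ∀ a b c, n a (b + c) = (if c ∈ T.hyp then 1 else -1) * n a b := fun a b c => by
    simp only [hn]
    rw [← h']; congr 1
    exact Subtype.ext (D.u_zero_mul_u a b c).symm
  have h0 : n 0 0 = ν 1 := congrArg ν (Subtype.ext D.u_zero)
  have h2 : ∀ a b, a ≠ 0 → a ≠ 1 → n a b = 0 := by
    intro a b ha ha'
    obtain ⟨c, hc⟩ : ∃ c, T.θ c * a + T.θ a * c ∉ T.hyp := by
      by_contra! hc
      apply ha'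
      apply T.mul_θ_injective
      rw [map_one, mul_one]
      refine T.eq_one_of_mul_mem_hyp (mul_ne_zero ha (mt T.θ_eq_zero.1 ha)) ?_
      rintro _ ⟨c, rfl⟩
      convert hc (c * a) using 1
      change _ * (T.θ c + c) = _
      rw [map_mul]; ring
    have e := classFun_conj (irr_isClassFunction hν) ⟨D.u a b, D.u_mem_U _ _⟩
      ⟨D.u c 0, D.u_mem_U _ _⟩
    have e' : n a (b + (T.θ c * a + T.θ a * c)) = n a b :=
      Eq.trans (congrArg ν (Subtype.ext (D.u_conj_u a b c 0).symm)) e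
    rw [h1, if_neg hc] at e'
    linear_combination (-1 / 2 : ℂ) * e'
  have h3 : n 0 1 = -n 0 0 := by
    have := h1 0 0 1
    rwa [zero_add, if_neg T.one_not_mem_hyp, neg_one_mul] at this
  have h4 : n 1 0 ^ 2 = -n 0 0 ^ 2 := by
    have hc : (⟨D.u 1 0, D.u_mem_U _ _⟩ : D.U) ∈ charCenter ν := by
      rw [mem_charCenter_iff_commutator hν]
      rintro ⟨_, c, d, rfl⟩ y
      have := h' (T.θ c + c) y
      rw [if_pos ⟨c, rfl⟩, one_mul] at this
      rw [← this]; congr 2
      have := D.commutator_u 1 0 c d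
      rw [map_one, one_mul, mul_one, add_comm] at this
      exact Subtype.ext this
    have := char_mul_of_mem_charCenter (irr_one_ne_zero hν) hc ⟨D.u 1 0, D.u_mem_U _ _⟩
    have e : n 0 1 = n 1 0 / n 0 0 * n 1 0 := by
      rw [h0]
      refine Eq.trans (congrArg ν (Subtype.ext ?_)) this
      simp [u_sq]
    have h5 : n 0 0 ≠ 0 := h0 ▸ irr_one_ne_zero hν
    rw [h3] at e
    field_simp at e
    linear_combination -e
  have h5 : conj (n 1 0) = -n 1 0 := by
    have := h1 1 0 1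
    rw [zero_add, if_neg T.one_not_mem_hyp, neg_one_mul] at this
    rw [← this, ← irr_inv hν]
    exact congrArg ν (Subtype.ext (by simp [u_inv]))
  refine ⟨ν, n, hν, fun _ _ => rfl, h1, h2, h4, h5, ?_⟩
  have := Fintype.ofFinite F
  have := Fintype.ofFinite D.U
  have h6 := card_mul_inner ν ν
  rw [inner_irr_self hν, mul_one, card_U, ← Fintype.sum_bijective
    (fun p : F × F => (⟨D.u p.1 p.2, D.u_mem_U _ _⟩ : D.U)) ⟨fun p p' h => Prod.ext
      (D.u_inj.1 (Subtype.ext_iff.1 h)).1 (D.u_inj.1 (Subtype.ext_iff.1 h)).2, by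
      rintro ⟨_, a, b, rfl⟩; exact ⟨(a, b), rfl⟩⟩ (fun p => n p.1 p.2 * conj (n p.1 p.2)) _
      fun _ => rfl, Fintype.sum_prod_type, Finset.sum_comm,
    Finset.sum_congr rfl (g := fun _ => 2 * n 0 0 ^ 2), Finset.sum_const, Finset.card_univ,
    ← Nat.card_eq_fintype_card] at h6
  · apply mul_left_cancel₀ (show (Nat.card F : ℂ) ≠ 0 by exact_mod_cast Nat.card_pos.ne')
    rw [← nsmul_eq_mul, ← h6]; simp [sq]
  · intro b _
    rw [Finset.sum_eq_add (0 : F) 1 zero_ne_one (fun a _ h => by simp [h2 a b h.1 h.2]) (by simp)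
      (by simp)]
    have a0 := h1 0 0 b
    have a1 := h1 1 0 b
    rw [zero_add] at a0 a1
    have h7 : conj (n 0 0) = n 0 0 := h0 ▸ irr_conj_one hν
    simp only [a0, a1]
    split_ifs <;> simp [h5, h7] <;> linear_combination -h4

namespace Tori

variable {D} {r : ℕ} (P : D.Tori r)

/-- the first torus -/
abbrev A : Subgroup G := centralizer ({P.a} : Set G)
/-- the second torus -/
abbrev B : Subgroup G := centralizer ({P.b} : Set G)

include P

theorem r_le : r + 4 ≤ Nat.card F := (tori_arith T.even_card P.hr P.h8).2.2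

theorem four_le : 4 ≤ r := by have := P.hr; have := P.h8; nlinarith

theorem cases (x : G) : x = 1 ∨ (x * x = 1 ∧ x ≠ 1) ∨ orderOf x = 4 ∨ x ∈ conjSet D.H ∨
    x ∈ conjSet P.A ∨ x ∈ conjSet P.B := by
  by_cases h1 : x = 1
  · exact Or.inl h1
  right
  rcases D.trichotomy x with ⟨g, hg⟩ | h | h
  · rcases orderOf_cases ((D.conj g).pow_four_of_mem_U hg) with h | h
    · exact Or.inl ⟨h, h1⟩
    · exact Or.inr (Or.inl h)
  · exact Or.inr (Or.inr (Or.inl (D.mem_conjSet_H.2 ⟨h1, h⟩)))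
  · exact Or.inr (Or.inr (Or.inr (P.cover x h)))

theorem card_A {x : G} (h : x ∈ conjSet P.A) :
    Nat.card (centralizer ({x} : Set G)) = Nat.card F + r + 1 :=
  (D.card_centralizer_of_mem_conjSet P.ha.ne_one P.ha.odd h).trans P.ca

theorem card_B {x : G} (h : x ∈ conjSet P.B) :
    Nat.card (centralizer ({x} : Set G)) = Nat.card F - r + 1 :=
  (D.card_centralizer_of_mem_conjSet P.hb.ne_one P.hb.odd h).trans P.cb

theorem not_A_of_H {x : G} (h : x ∈ conjSet D.H) : x ∉ conjSet P.A := fun h' => by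
  have := D.card_centralizer_of_mem_conjSet_H h; have := P.card_A h'; omega

theorem not_B_of_H {x : G} (h : x ∈ conjSet D.H) : x ∉ conjSet P.B := fun h' => by
  have := D.card_centralizer_of_mem_conjSet_H h; have := P.card_B h'
  have := P.four_le; have := P.r_le; omega

theorem not_B_of_A {x : G} (h : x ∈ conjSet P.A) : x ∉ conjSet P.B := fun h' => by
  have := P.card_A h; have := P.card_B h'; have := P.four_le; omega

theorem cast_ca : (Nat.card P.A : ℂ) = Nat.card F + r + 1 := by rw [P.ca]; simp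

theorem cast_cb : (Nat.card P.B : ℂ) = Nat.card F - r + 1 := by
  rw [P.cb, Nat.cast_add, Nat.cast_sub (by have := P.r_le; omega)]; simp

theorem cast_hr : (r : ℂ) ^ 2 = 2 * Nat.card F := by exact_mod_cast P.hr

theorem cast_card : (Nat.card G : ℂ) =
    Nat.card F ^ 2 * (Nat.card F - 1) * (Nat.card F ^ 2 + 1) := by
  rw [D.card_G, Nat.cast_mul, Nat.cast_mul, Nat.cast_pred Nat.card_pos]; simp

theorem index_eq (K : Subgroup G) {c e : ℂ} (h : (Nat.card K : ℂ) = c)
    (h' : c * e = Nat.card F ^ 2 * (Nat.card F - 1) * (Nat.card F ^ 2 + 1)) : (K.index : ℂ) = e := by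
  have := D.finite
  apply mul_left_cancel₀ (card_ne_zero_complex (G := K))
  rw [← Nat.cast_mul, K.card_mul_index, P.cast_card, h, h']

theorem exists_W : ∃ (W : G → ℂ) (d : ℕ), r = 2 * d ∧ IsGeneralizedCharacter G W ∧
    W 1 = (Nat.card F - 1) * d ∧ (∀ x, x * x = 1 → x ≠ 1 → W x = -d) ∧
    (∀ x, orderOf x = 4 → W x ^ 2 = -d ^ 2 ∧ conj (W x) = -W x) ∧ (∀ x ∈ conjSet D.H, W x = 0) ∧
    (∀ x ∈ conjSet P.A, W x = 1) ∧ ∀ x ∈ conjSet P.B, W x = -1 := by
  classical
  have := T.charP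
  have := Fintype.ofFinite F
  obtain ⟨ν, n, hν, hn, h1, h2, h3, h4, h5⟩ := D.exists_nu
  obtain ⟨d, -, hd⟩ := irr_one_eq_nat hν
  have h0 : n 0 0 = d := by rw [← hd, ← hn]; exact congrArg ν (Subtype.ext D.u_zero)
  rw [h0] at h3 h5
  have hrd : r = 2 * d := by
    have : 2 * d ^ 2 = Nat.card F := by exact_mod_cast h5
    have := P.hr
    exact (Nat.pow_left_injective two_ne_zero) (show r ^ 2 = (2 * d) ^ 2 by nlinarith)
  have hq : (Nat.card F : ℂ) ≠ 0 := by exact_mod_cast Nat.card_pos.ne'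
  have hW : IsGeneralizedCharacter G (indFun D.U ν + indFun (normalizer (P.A : Set G)) (fun _ => 1)
      - indFun (normalizer (P.B : Set G)) (fun _ => 1)) := gen_sub (gen_add (gen_indFun _
      (gen_of_irr hν)) (gen_indFun _ gen_const_one)) (gen_indFun _ gen_const_one)
  set W := (indFun D.U ν + indFun (normalizer (P.A : Set G)) (fun _ => 1)
      - indFun (normalizer (P.B : Set G)) (fun _ => 1)) with hWd
  have e2 : ∀ x, x ^ 4 = 1 → x ≠ 1 → W x = indFun D.U ν x := fun x hx hx1 => by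
    have a := P.ha.indN_two P.hr P.h8 hx hx1
    have b := P.hb.indN_two P.hr P.h8 hx hx1
    simp only [hWd, Pi.sub_apply, Pi.add_apply]
    linear_combination (a - b) / 4
  have e3 : ∀ x, x ≠ 1 → Odd (orderOf x) → 4 * W x = indFun P.A (fun _ => 1) x -
      indFun P.B (fun _ => 1) x := fun x hx1 hx => by
    have a := P.ha.indN_odd P.hr P.h8 hx
    have b := P.hb.indN_odd P.hr P.h8 hx
    have c := indFun_eq_zero_of_not_conj D.U ν (g := x) fun g hg =>
      (D.conj g⁻¹).not_mem_U_of_odd hx1 hx (D.mem_conj_U.2 (by rwa [inv_inv]))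
    simp only [hWd, Pi.sub_apply, Pi.add_apply]
    linear_combination 4 * c + a - b
  have s1 : ∑ b : F, (if b ∈ T.hyp then (1 : ℂ) else 0) = Nat.card F / 2 := by
    rw [← Finset.sum_filter, Finset.sum_const, ← Fintype.card_subtype, ← Nat.card_eq_fintype_card,
      ← T.hyp.card_mul_index, T.index_hyp]
    simp
  refine ⟨W, d, hrd, hW, ?_, fun x hx hx1 => ?_, fun x hx => ?_, fun x hx => ?_, fun x hx => ?_,
    fun x hx => ?_⟩
  · have a := P.index_eq (normalizer (P.A : Set G)) (c := 4 * (Nat.card F + r + 1))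
      (e := Nat.card F ^ 2 * (Nat.card F - 1) * (Nat.card F - r + 1) / 4)
      (by rw [P.ha.card_normalizer P.hr P.h8, Nat.cast_mul, P.cast_ca]; simp)
      (by linear_combination (-(Nat.card F : ℂ) ^ 2 * (Nat.card F - 1)) * P.cast_hr)
    have b := P.index_eq (normalizer (P.B : Set G)) (c := 4 * (Nat.card F - r + 1))
      (e := Nat.card F ^ 2 * (Nat.card F - 1) * (Nat.card F + r + 1) / 4)
      (by rw [P.hb.card_normalizer P.hr P.h8, Nat.cast_mul, P.cast_cb]; simp)
      (by linear_combination (-(Nat.card F : ℂ) ^ 2 * (Nat.card F - 1)) * P.cast_hr)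
    have c := P.index_eq D.U (c := Nat.card F ^ 2) (e := (Nat.card F - 1) * (Nat.card F ^ 2 + 1))
      (by rw [card_U]; simp) (by ring)
    simp only [hWd, Pi.sub_apply, Pi.add_apply, indFun_one, a, b, c, hd, hrd]
    push_cast; ring
  · rw [e2 x (by rw [show 4 = 2 * 2 from rfl, pow_mul, sq x, hx, one_pow]) hx1]
    have := D.indU_eq ν x
    rw [D.card_centralizer_of_involution hx hx1, finsum_eq_sum_of_fintype, Fintype.sum_prod_type,
      Finset.sum_eq_single (0 : F), Finset.sum_congr rfl (g := fun b =>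
        2 * d * (if b ∈ T.hyp then (1 : ℂ) else 0) - d - if b = 0 then (d : ℂ) else 0),
      Finset.sum_sub_distrib, Finset.sum_sub_distrib, ← Finset.mul_sum, s1, Finset.sum_const,
      Finset.card_univ, ← Nat.card_eq_fintype_card, Nat.cast_pow] at this
    · rw [mul_left_cancel₀ (pow_ne_zero 2 hq) this]
      simp; ring
    · intro b _
      by_cases hb : b = 0
      · rw [hb, if_neg (by simpa [u_zero] using hx1)]; simp; ring
      · have := h1 0 0 b
        rw [zero_add, h0] at this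
        rw [if_pos (D.isConj_of_involution hx (D.u_zero_sq b) hx1 (by simp [u_eq_one, hb])), hn,
          this, if_neg hb]
        split_ifs <;> ring
    · intro a _ ha
      refine Finset.sum_eq_zero fun b _ => if_neg fun h => ?_
      have := card_centralizer_of_isConj h
      rw [D.card_centralizer_of_involution hx hx1, D.card_centralizer_u ha] at this
      have := P.h8
      nlinarith
    · simp
  · have key : W (D.u 1 0) = n 1 0 := by
      have h4 := D.orderOf_u one_ne_zero (0 : F)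
      rw [e2 _ (D.u_pow_four _ _) (by simp [u_eq_one])]
      have := D.indU_eq ν (D.u 1 0)
      rw [D.card_centralizer_u one_ne_zero, finsum_eq_sum_of_fintype, Fintype.sum_prod_type,
        Finset.sum_eq_single (1 : F), Finset.sum_congr rfl (g := fun b =>
          n 1 0 * (if b ∈ T.hyp then (1 : ℂ) else 0)), ← Finset.mul_sum, s1] at this
      · apply mul_left_cancel₀ (pow_ne_zero 2 hq)
        rw [this]; push_cast; ring
      · intro b _
        have := h1 1 0 b
        rw [zero_add] at this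
        by_cases hb : b ∈ T.hyp
        · rw [hn, this, if_pos hb, if_pos hb, if_pos, mul_comm]
          obtain ⟨c, rfl⟩ := hb
          exact isConj_iff.2 ⟨D.u c 0, by rw [u_conj_u]; simp⟩
        · rw [if_neg hb, if_neg, mul_zero]
          intro h
          obtain ⟨c, hc⟩ := T.add_mem_hyp_iff.2 (iff_of_false hb T.one_not_mem_hyp)
          refine D.not_isConj_inv h4 (h.trans (isConj_iff.2 ⟨D.u c 0, ?_⟩))
          rw [u_conj_u, u_inv, map_one]; congr 1
          change T.θ c + c = _ at hc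
          grind
      · intro a _ ha
        refine Finset.sum_eq_zero fun b _ => ?_
        by_cases ha0 : a = 0
        · refine if_neg fun h => ?_
          obtain ⟨c, hc⟩ := isConj_iff.1 h
          have := orderOf_dvd_of_pow_eq_one ((sq _).trans (D.u_zero_sq b))
          rw [← ha0, ← hc, ← MulAut.conj_apply, MulEquiv.orderOf_eq, h4] at this
          omega
        · rw [hn, h2 a b ha0 ha, ite_self]
      · simp
    rcases D.isConj_of_orderOf_four hx with h | h <;>
      rw [classFun_of_isConj (gen_isClassFunction hW) h]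
    · rw [key]; exact ⟨h3, h4⟩
    · rw [gen_inv hW, key, h4, map_neg, h4]; exact ⟨by rw [neg_sq, h3], rfl⟩
  · have := e3 x hx.1 (D.odd_of_mem_conjSet_H hx)
    rw [indFun_eq_zero_of_not_mem_conjSet _ _ hx.1 (P.not_A_of_H hx),
      indFun_eq_zero_of_not_mem_conjSet _ _ hx.1 (P.not_B_of_H hx)] at this
    linear_combination this / 4
  · have := e3 x hx.1 (Reg.odd (P.ha.conjSet_subset hx))
    rw [(P.ha.tor P.hr P.h8).indFun_one hx,
      indFun_eq_zero_of_not_mem_conjSet _ _ hx.1 (P.not_B_of_A hx)] at this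
    push_cast at this
    linear_combination this / 4
  · have := e3 x hx.1 (Reg.odd (P.hb.conjSet_subset hx))
    rw [(P.hb.tor P.hr P.h8).indFun_one hx,
      indFun_eq_zero_of_not_mem_conjSet _ _ hx.1 fun h => P.not_B_of_A h hx] at this
    push_cast at this
    linear_combination this / 4

open Classical in
theorem sum_class {f : G → ℂ} (hf : IsClassFunction G f) {c2 c4 : ℂ}
    (h2 : ∀ x, x * x = 1 → x ≠ 1 → f x = c2) (h4 : ∀ x, orderOf x = 4 → f x = c4) :
    4 * ∑ x, f x = 4 * f 1 + 4 * (Nat.card F - 1) * (Nat.card F ^ 2 + 1) * (c2 + Nat.card F * c4) +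
      2 * Nat.card F ^ 2 * (Nat.card F ^ 2 + 1) * ∑ x : D.H, sharp D.H x * f x +
      Nat.card F ^ 2 * (Nat.card F - 1) * (Nat.card F - r + 1) * ∑ x : P.A, sharp P.A x * f x +
      Nat.card F ^ 2 * (Nat.card F - 1) * (Nat.card F + r + 1) * ∑ x : P.B, sharp P.B x * f x := by
  have a0 := (D.tor_H P.h8).sum_conjSet hf
  have a1 := (P.ha.tor P.hr P.h8).sum_conjSet hf
  have a2 := (P.hb.tor P.hr P.h8).sum_conjSet hf
  rw [P.index_eq D.H (c := Nat.card F - 1) (e := Nat.card F ^ 2 * (Nat.card F ^ 2 + 1))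
    (by rw [card_H, Nat.cast_pred Nat.card_pos]) (by ring)] at a0
  rw [P.index_eq P.A (e := Nat.card F ^ 2 * (Nat.card F - 1) * (Nat.card F - r + 1)) P.cast_ca
    (by linear_combination (-(Nat.card F : ℂ) ^ 2 * (Nat.card F - 1)) * P.cast_hr)] at a1
  rw [P.index_eq P.B (e := Nat.card F ^ 2 * (Nat.card F - 1) * (Nat.card F + r + 1)) P.cast_cb
    (by linear_combination (-(Nat.card F : ℂ) ^ 2 * (Nat.card F - 1)) * P.cast_hr)] at a2
  have o2 : D.u 0 1 ≠ 1 := by simp [u_eq_one]
  have o4 := D.orderOf_u one_ne_zero (0 : F)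
  have b1 := sum_indicator_mul hf (D.u 0 1)
  have b2 := sum_indicator_mul hf (D.u 1 0)
  have b3 := sum_indicator_mul hf (D.u 1 0)⁻¹
  rw [h2 _ (D.u_zero_sq 1) o2, P.index_eq _ (c := Nat.card F ^ 2)
    (e := (Nat.card F - 1) * (Nat.card F ^ 2 + 1))
    (by rw [D.card_centralizer_of_involution (D.u_zero_sq 1) o2]; simp) (by ring)] at b1
  rw [h4 _ o4, P.index_eq _ (c := 2 * Nat.card F)
    (e := Nat.card F * (Nat.card F - 1) * (Nat.card F ^ 2 + 1) / 2)
    (by rw [D.card_centralizer_of_orderOf_four o4]; simp) (by ring)] at b2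
  rw [h4 _ ((orderOf_inv _).trans o4), P.index_eq _ (c := 2 * Nat.card F)
    (e := Nat.card F * (Nat.card F - 1) * (Nat.card F ^ 2 + 1) / 2)
    (by rw [D.card_centralizer_of_orderOf_four ((orderOf_inv _).trans o4)]; simp) (by ring)] at b3
  have ord : ∀ {a b : G}, IsConj a b → orderOf a = orderOf b := fun h => by
    obtain ⟨c, rfl⟩ := isConj_iff.1 h
    rw [← MulAut.conj_apply, MulEquiv.orderOf_eq]
  have key : ∀ x, f x = (if x = 1 then f 1 else 0) + (if IsConj (D.u 0 1) x then 1 else 0) * f x +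
      (if IsConj (D.u 1 0) x then 1 else 0) * f x + (if IsConj (D.u 1 0)⁻¹ x then 1 else 0) * f x +
      (if x ∈ conjSet D.H then f x else 0) + (if x ∈ conjSet P.A then f x else 0) +
      (if x ∈ conjSet P.B then f x else 0) := by
    intro x
    have o2' := D.orderOf_u_zero (one_ne_zero (α := F))
    have n2 : orderOf x ≠ 2 → ¬ IsConj (D.u 0 1) x := fun h h' => h (o2' ▸ ord h').symm
    have n4 : orderOf x ≠ 4 → ¬ IsConj (D.u 1 0) x := fun h h' => h (o4 ▸ ord h').symm
    have n4' : orderOf x ≠ 4 → ¬ IsConj (D.u 1 0)⁻¹ x := fun h h' =>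
      h ((ord h').symm.trans ((orderOf_inv _).trans o4))
    have nH : x ^ 4 = 1 → x ∉ conjSet D.H :=
      not_mem_conjSet_of_pow_four (D.card_H ▸ T.odd_card_sub_one)
    have nA : x ^ 4 = 1 → x ∉ conjSet P.A := not_mem_conjSet_of_pow_four P.ha.odd_card_centralizer
    have nB : x ^ 4 = 1 → x ∉ conjSet P.B := not_mem_conjSet_of_pow_four P.hb.odd_card_centralizer
    have od : Odd (orderOf x) → orderOf x ≠ 2 ∧ orderOf x ≠ 4 := fun ⟨k, hk⟩ => by omega
    rcases P.cases x with rfl | ⟨h, h1⟩ | h | h | h | h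
    · rw [if_pos rfl, if_neg (n2 (by simp)), if_neg (n4 (by simp)), if_neg (n4' (by simp)),
        if_neg (nH (one_pow _)), if_neg (nA (one_pow _)), if_neg (nB (one_pow _))]
      ring
    · have h' : orderOf x = 2 := orderOf_eq_prime (by rwa [sq]) h1
      have h4 : x ^ 4 = 1 := by rw [show 4 = 2 * 2 from rfl, pow_mul, sq x, h, one_pow]
      rw [if_neg h1, if_pos (D.isConj_of_involution (D.u_zero_sq 1) h o2 h1), if_neg (n4 (by omega)),
        if_neg (n4' (by omega)), if_neg (nH h4), if_neg (nA h4), if_neg (nB h4)]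
      ring
    · have h4 := pow_four_of_orderOf h
      rw [if_neg (by rintro rfl; simp at h), if_neg (n2 (by omega)), if_neg (nH h4), if_neg (nA h4),
        if_neg (nB h4)]
      have e : IsConj (D.u 1 0)⁻¹ x ↔ IsConj x (D.u 1 0)⁻¹ := ⟨IsConj.symm, IsConj.symm⟩
      have e' : IsConj (D.u 1 0) x ↔ IsConj x (D.u 1 0) := ⟨IsConj.symm, IsConj.symm⟩
      rcases D.isConj_xor_of_orderOf_four h o4 with ⟨a, b⟩ | ⟨a, b⟩
      · rw [if_pos (e'.2 a), if_neg (mt e.1 b)]; ring
      · rw [if_pos (e.2 a), if_neg (mt e'.1 b)]; ring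
    · obtain ⟨a, b⟩ := od (D.odd_of_mem_conjSet_H h)
      rw [if_neg h.1, if_neg (n2 a), if_neg (n4 b), if_neg (n4' b), if_pos h,
        if_neg (P.not_A_of_H h), if_neg (P.not_B_of_H h)]
      ring
    · obtain ⟨a, b⟩ := od (Reg.odd (P.ha.conjSet_subset h))
      rw [if_neg h.1, if_neg (n2 a), if_neg (n4 b), if_neg (n4' b), if_pos h,
        if_neg fun h' => P.not_A_of_H h' h, if_neg (P.not_B_of_A h)]
      ring
    · obtain ⟨a, b⟩ := od (Reg.odd (P.hb.conjSet_subset h))
      rw [if_neg h.1, if_neg (n2 a), if_neg (n4 b), if_neg (n4' b), if_pos h,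
        if_neg fun h' => P.not_B_of_H h' h, if_neg fun h' => P.not_B_of_A h' h]
      ring
  rw [Finset.sum_congr rfl fun x _ => key x]
  simp only [Finset.sum_add_distrib]
  rw [b1, b2, b3, Finset.sum_ite_eq', if_pos (Finset.mem_univ _)]
  push_cast at a0 a1 a2
  linear_combination 2 * a0 + a1 + a2

end Tori

end SzData

end CF.BN.Suz
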