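import Cfsg.Agent.BN.SzChar

/-!
# The irreducible characters of the Suzuki groups, II: the character table
-/

set_option autoImplicit false
set_option linter.unusedSectionVars false

namespace CF.BN.Suz

open MulAction Subgroup Cfsg CF.Char ComplexConjugate

variable {F : Type*} [Field F]

namespace SzData

variable {T : Tits F} {G : Type*} [Group G] (D : SzData T G) [Finite F] [Fintype G]

/-- The tori together with a character of degree `(q - 1) r / 2`. -/
structure Table (r : ℕ) extends D.Tori r where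
  /-- the character -/
  W : G → ℂ
  /-- half of `r` -/
  d : ℕ
  hrd : r = 2 * d
  gen : IsGeneralizedCharacter G W
  W_one : W 1 = (Nat.card F - 1) * d
  W_two : ∀ x, x * x = 1 → x ≠ 1 → W x = -d
  W_four : ∀ x, orderOf x = 4 → W x ^ 2 = -d ^ 2 ∧ conj (W x) = -W x
  W_H : ∀ x ∈ conjSet D.H, W x = 0
  W_A : ∀ x ∈ conjSet toTori.A, W x = 1
  W_B : ∀ x ∈ conjSet toTori.B, W x = -1

theorem nonempty_table {r : ℕ} (hr : r ^ 2 = 2 * Nat.card F) (h8 : 8 ≤ Nat.card F) :
    Nonempty (D.Table r) := by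
  obtain ⟨P⟩ := D.nonempty_tori hr h8
  obtain ⟨W, d, h⟩ := P.exists_W
  exact ⟨⟨P, W, d, h.1, h.2.1, h.2.2.1, h.2.2.2.1, h.2.2.2.2.1, h.2.2.2.2.2.1, h.2.2.2.2.2.2.1,
    h.2.2.2.2.2.2.2⟩⟩

theorem pow_four_of_sq {x : G} (hx : x * x = 1) : x ^ 4 = 1 := by
  rw [show 4 = 2 * 2 from rfl, pow_mul, sq x, hx, one_pow]

theorem ne_one_of_four {x : G} (hx : orderOf x = 4) : x ≠ 1 := by rintro rfl; simp at hx

namespace Tori

variable {D} {r : ℕ} (P : D.Tori r)
include P

theorem not_H {x : G} (hx : x ^ 4 = 1) : x ∉ conjSet D.H :=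
  not_mem_conjSet_of_pow_four (D.card_H ▸ T.odd_card_sub_one) hx

theorem not_A {x : G} (hx : x ^ 4 = 1) : x ∉ conjSet P.A :=
  not_mem_conjSet_of_pow_four P.ha.odd_card_centralizer hx

theorem not_B {x : G} (hx : x ^ 4 = 1) : x ∉ conjSet P.B :=
  not_mem_conjSet_of_pow_four P.hb.odd_card_centralizer hx

theorem St_A {x : G} (hx : x ∈ conjSet P.A) : D.St x = -1 := D.St_reg (P.ha.conjSet_subset hx)

theorem St_B {x : G} (hx : x ∈ conjSet P.B) : D.St x = -1 := D.St_reg (P.hb.conjSet_subset hx)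

open Classical in
theorem irr_of_sum {f : G → ℂ} (hf : IsGeneralizedCharacter G f) {n : ℕ} (h1 : f 1 = n) (hn : 0 < n)
    {c2 c4 s0 s1 s2 : ℂ} (h2 : ∀ x, x * x = 1 → x ≠ 1 → f x * conj (f x) = c2)
    (h4 : ∀ x, orderOf x = 4 → f x * conj (f x) = c4)
    (e0 : ∑ x : D.H, sharp D.H x * (f x * conj (f x)) = s0)
    (e1 : ∑ x : P.A, sharp P.A x * (f x * conj (f x)) = s1)
    (e2 : ∑ x : P.B, sharp P.B x * (f x * conj (f x)) = s2)
    (h : 4 * (n : ℂ) ^ 2 + 4 * (Nat.card F - 1) * (Nat.card F ^ 2 + 1) * (c2 + Nat.card F * c4) +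
      2 * Nat.card F ^ 2 * (Nat.card F ^ 2 + 1) * s0 +
      Nat.card F ^ 2 * (Nat.card F - 1) * (Nat.card F - r + 1) * s1 +
      Nat.card F ^ 2 * (Nat.card F - 1) * (Nat.card F + r + 1) * s2 =
      4 * (Nat.card F ^ 2 * (Nat.card F - 1) * (Nat.card F ^ 2 + 1))) : IsIrrCharacter G f := by
  refine irr_of_gen_of_inner_self hf ?_ (by rw [h1]; simpa)
  have := P.sum_class (f := fun x => f x * conj (f x))
    (classFun_mul (gen_isClassFunction hf) (classFun_star (gen_isClassFunction hf))) h2 h4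
  rw [e0, e1, e2, h1, map_natCast, ← sq, h, ← card_mul_inner, ← P.cast_card] at this
  exact mul_left_cancel₀ (card_ne_zero_complex (G := G))
    ((mul_left_cancel₀ (by norm_num) this).trans (mul_one _).symm)

end Tori

namespace Table

variable {D} {r : ℕ} (P : D.Table r)

theorem cast_q : (Nat.card F : ℂ) = 2 * P.d ^ 2 := by
  have := P.cast_hr
  rw [P.hrd] at this
  push_cast at this
  linear_combination -this / 2

theorem cast_r : (r : ℂ) = 2 * P.d := by exact_mod_cast P.hrd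

theorem two_le : 2 ≤ P.d := by have := P.four_le; have := P.hrd; omega

theorem q_eq : Nat.card F = 2 * P.d ^ 2 := by exact_mod_cast P.cast_q

theorem cast_pred : ((Nat.card F - 1 : ℕ) : ℂ) = Nat.card F - 1 := Nat.cast_pred Nat.card_pos

theorem irr_W : IsIrrCharacter G P.W := by
  have := P.h8
  have := P.two_le
  refine P.irr_of_sum P.gen (n := (Nat.card F - 1) * P.d) (by rw [P.W_one, Nat.cast_mul, cast_pred])
    (Nat.mul_pos (by omega) (by omega)) (c2 := P.d ^ 2) (c4 := P.d ^ 2)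
    (fun x a b => by rw [P.W_two x a b]; simp [sq])
    (fun x a => by rw [(P.W_four x a).2]; linear_combination -(P.W_four x a).1)
    (sum_sharp_const D.H (f := fun x => P.W x * conj (P.W x)) (c := 0) fun x h => by
      rw [P.W_H x h, zero_mul])
    (sum_sharp_const P.A (f := fun x => P.W x * conj (P.W x)) (c := 1) fun x h => by
      rw [P.W_A x h]; simp)
    (sum_sharp_const P.B (f := fun x => P.W x * conj (P.W x)) (c := 1) fun x h => by
      rw [P.W_B x h]; simp) ?_
  rw [P.cast_ca, P.cast_cb, Nat.cast_mul, cast_pred, P.cast_q, P.cast_r]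
  ring

/-- The complex conjugate of `W`. -/
noncomputable def W' : G → ℂ := fun x => conj (P.W x)

theorem irr_W' : IsIrrCharacter G P.W' := irr_conj P.irr_W

theorem W'_one : P.W' 1 = (Nat.card F - 1) * P.d := by rw [W', P.W_one]; simp

/-- The principal series. -/
noncomputable def X (lam : D.H →* ℂˣ) : G → ℂ :=
  D.St + (fun _ => 1) + (indFun D.H (fun y => (lam y : ℂ)) - indFun D.H fun _ => 1)

/-- The first discrete series. -/
noncomputable def Y (lam : P.A →* ℂˣ) : G → ℂ :=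
  D.St - (fun _ => 1) - P.W - P.W' - (indFun P.A (fun y => (lam y : ℂ)) - indFun P.A fun _ => 1)

/-- The second discrete series. -/
noncomputable def Z (lam : P.B →* ℂˣ) : G → ℂ :=
  D.St - (fun _ => 1) + P.W + P.W' - (indFun P.B (fun y => (lam y : ℂ)) - indFun P.B fun _ => 1)

omit [Finite F] in
theorem E_eq_zero {A : Subgroup G} (lam : A →* ℂˣ) {x : G} (h : x ∉ conjSet A) :
    indFun A (fun y => (lam y : ℂ)) x - indFun A (fun _ => 1) x = 0 := by
  by_cases h1 : x = 1
  · simp [h1, indFun_one]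
  · rw [indFun_eq_zero_of_not_mem_conjSet _ _ h1 h, indFun_eq_zero_of_not_mem_conjSet _ _ h1 h,
      sub_zero]

section
variable (lam : D.H →* ℂˣ)

theorem X_one : X lam 1 = Nat.card F ^ 2 + 1 := by
  simp only [X, Pi.add_apply, Pi.sub_apply, St_one, E_eq_zero lam fun h => h.1 rfl, add_zero]

include P

theorem X_two {x : G} (hx : x ^ 4 = 1) (h1 : x ≠ 1) : X lam x = 1 := by
  simp only [X, Pi.add_apply, Pi.sub_apply, D.St_two hx h1, E_eq_zero lam (P.not_H hx)]; ring

theorem X_H {x : G} (hx : x ∈ conjSet D.H) : X lam x = indFun D.H (fun y => (lam y : ℂ)) x := by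
  simp only [X, Pi.add_apply, Pi.sub_apply, D.St_H hx, (D.tor_H P.h8).indFun_one hx]
  push_cast; ring

theorem X_A {x : G} (hx : x ∈ conjSet P.A) : X lam x = 0 := by
  simp only [X, Pi.add_apply, Pi.sub_apply, P.St_A hx, E_eq_zero lam fun h => P.not_A_of_H h hx]
  ring

theorem X_B {x : G} (hx : x ∈ conjSet P.B) : X lam x = 0 := by
  simp only [X, Pi.add_apply, Pi.sub_apply, P.St_B hx, E_eq_zero lam fun h => P.not_B_of_H h hx]
  ring

theorem irr_X (h : lam ≠ 1) : IsIrrCharacter G (X lam) := by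
  refine P.irr_of_sum (gen_add (gen_add (gen_of_irr D.irr_St) gen_const_one) (gen_sub
    (gen_indFun _ (gen_of_irr (irr_linear lam))) (gen_indFun _ gen_const_one)))
    (n := Nat.card F ^ 2 + 1) (by exact_mod_cast X_one lam) (by positivity) (c2 := 1) (c4 := 1)
    (fun x a b => by erw [P.X_two lam (pow_four_of_sq a) b]; simp)
    (fun x a => by erw [P.X_two lam (pow_four_of_orderOf a) (ne_one_of_four a)]; simp)
    ((sum_sharp_congr D.H (f := fun x => X lam x * conj (X lam x)) fun x h => by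
      rw [P.X_H lam h]).trans ((D.tor_H P.h8).sum_norm_indFun h))
    (sum_sharp_const P.A (f := fun x => X lam x * conj (X lam x)) (c := 0) fun x h => by
      rw [P.X_A lam h, zero_mul])
    (sum_sharp_const P.B (f := fun x => X lam x * conj (X lam x)) (c := 0) fun x h => by
      rw [P.X_B lam h, zero_mul]) ?_
  rw [card_H, cast_pred]
  push_cast
  ring

end

section
variable (lam : P.A →* ℂˣ)

theorem Y_one : P.Y lam 1 = (Nat.card F - 1) * (Nat.card F - r + 1) := by
  simp only [Y, Pi.sub_apply, St_one, E_eq_zero lam fun h => h.1 rfl, P.W_one, P.W'_one, P.cast_r]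
  ring

theorem Y_two {x : G} (hx : x * x = 1) (h1 : x ≠ 1) : P.Y lam x = r - 1 := by
  simp only [Y, W', Pi.sub_apply, D.St_two (pow_four_of_sq hx) h1,
    E_eq_zero lam (P.not_A (pow_four_of_sq hx)), P.W_two x hx h1, P.cast_r]
  simp; ring

theorem Y_four {x : G} (hx : orderOf x = 4) : P.Y lam x = -1 := by
  simp only [Y, W', Pi.sub_apply, D.St_two (pow_four_of_orderOf hx) (ne_one_of_four hx),
    E_eq_zero lam (P.not_A (pow_four_of_orderOf hx)), (P.W_four x hx).2]
  ring

theorem Y_H {x : G} (hx : x ∈ conjSet D.H) : P.Y lam x = 0 := by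
  simp only [Y, W', Pi.sub_apply, D.St_H hx, E_eq_zero lam (P.not_A_of_H hx), P.W_H x hx]
  simp

theorem Y_A {x : G} (hx : x ∈ conjSet P.A) :
    P.Y lam x = -indFun P.A (fun y => (lam y : ℂ)) x := by
  simp only [Y, W', Pi.sub_apply, P.St_A hx, (P.ha.tor P.hr P.h8).indFun_one hx, P.W_A x hx]
  simp; ring

theorem Y_B {x : G} (hx : x ∈ conjSet P.B) : P.Y lam x = 0 := by
  simp only [Y, W', Pi.sub_apply, P.St_B hx, E_eq_zero lam fun h => P.not_B_of_A h hx, P.W_B x hx]
  simp

theorem irr_Y (h : lam ≠ 1) : IsIrrCharacter G (P.Y lam) := by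
  have := P.h8
  refine P.irr_of_sum (gen_sub (gen_sub (gen_sub (gen_sub (gen_of_irr D.irr_St) gen_const_one) P.gen)
    (gen_of_irr P.irr_W')) (gen_sub (gen_indFun _ (gen_of_irr (irr_linear lam)))
    (gen_indFun _ gen_const_one))) (n := (Nat.card F - 1) * Nat.card P.B)
    (by rw [Nat.cast_mul, cast_pred, P.cast_cb]; exact P.Y_one lam)
    (Nat.mul_pos (by omega) Nat.card_pos) (c2 := (r - 1) ^ 2) (c4 := 1)
    (fun x a b => by erw [P.Y_two lam a b]; simp [sq])
    (fun x a => by erw [P.Y_four lam a]; simp)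
    (sum_sharp_const D.H (f := fun x => P.Y lam x * conj (P.Y lam x)) (c := 0) fun x h => by
      rw [P.Y_H lam h, zero_mul])
    ((sum_sharp_congr P.A (f := fun x => P.Y lam x * conj (P.Y lam x)) fun x h => by
      rw [P.Y_A lam h, map_neg, neg_mul_neg]).trans ((P.ha.tor P.hr P.h8).sum_norm_indFun h))
    (sum_sharp_const P.B (f := fun x => P.Y lam x * conj (P.Y lam x)) (c := 0) fun x h => by
      rw [P.Y_B lam h, zero_mul]) ?_
  rw [Nat.cast_mul, P.cast_ca, P.cast_cb, cast_pred, P.cast_q, P.cast_r]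
  push_cast
  ring

end

section
variable (lam : P.B →* ℂˣ)

theorem Z_one : P.Z lam 1 = (Nat.card F - 1) * (Nat.card F + r + 1) := by
  simp only [Z, Pi.add_apply, Pi.sub_apply, St_one, E_eq_zero lam fun h => h.1 rfl, P.W_one,
    P.W'_one, P.cast_r]
  ring

theorem Z_two {x : G} (hx : x * x = 1) (h1 : x ≠ 1) : P.Z lam x = -r - 1 := by
  simp only [Z, W', Pi.add_apply, Pi.sub_apply, D.St_two (pow_four_of_sq hx) h1,
    E_eq_zero lam (P.not_B (pow_four_of_sq hx)), P.W_two x hx h1, P.cast_r]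
  simp; ring

theorem Z_four {x : G} (hx : orderOf x = 4) : P.Z lam x = -1 := by
  simp only [Z, W', Pi.add_apply, Pi.sub_apply,
    D.St_two (pow_four_of_orderOf hx) (ne_one_of_four hx),
    E_eq_zero lam (P.not_B (pow_four_of_orderOf hx)), (P.W_four x hx).2]
  ring

theorem Z_H {x : G} (hx : x ∈ conjSet D.H) : P.Z lam x = 0 := by
  simp only [Z, W', Pi.add_apply, Pi.sub_apply, D.St_H hx, E_eq_zero lam (P.not_B_of_H hx),
    P.W_H x hx]
  simp

theorem Z_A {x : G} (hx : x ∈ conjSet P.A) : P.Z lam x = 0 := by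
  simp only [Z, W', Pi.add_apply, Pi.sub_apply, P.St_A hx, E_eq_zero lam (P.not_B_of_A hx),
    P.W_A x hx]
  simp

theorem Z_B {x : G} (hx : x ∈ conjSet P.B) :
    P.Z lam x = -indFun P.B (fun y => (lam y : ℂ)) x := by
  simp only [Z, W', Pi.add_apply, Pi.sub_apply, P.St_B hx, (P.hb.tor P.hr P.h8).indFun_one hx,
    P.W_B x hx]
  simp; ring

theorem irr_Z (h : lam ≠ 1) : IsIrrCharacter G (P.Z lam) := by
  have := P.h8
  refine P.irr_of_sum (gen_sub (gen_add (gen_add (gen_sub (gen_of_irr D.irr_St) gen_const_one) P.gen)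
    (gen_of_irr P.irr_W')) (gen_sub (gen_indFun _ (gen_of_irr (irr_linear lam)))
    (gen_indFun _ gen_const_one))) (n := (Nat.card F - 1) * Nat.card P.A)
    (by rw [Nat.cast_mul, cast_pred, P.cast_ca]; exact P.Z_one lam)
    (Nat.mul_pos (by omega) Nat.card_pos) (c2 := (-r - 1) ^ 2) (c4 := 1)
    (fun x a b => by erw [P.Z_two lam a b]; simp [sq])
    (fun x a => by erw [P.Z_four lam a]; simp)
    (sum_sharp_const D.H (f := fun x => P.Z lam x * conj (P.Z lam x)) (c := 0) fun x h => by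
      rw [P.Z_H lam h, zero_mul])
    (sum_sharp_const P.A (f := fun x => P.Z lam x * conj (P.Z lam x)) (c := 0) fun x h => by
      rw [P.Z_A lam h, zero_mul])
    ((sum_sharp_congr P.B (f := fun x => P.Z lam x * conj (P.Z lam x)) fun x h => by
      rw [P.Z_B lam h, map_neg, neg_mul_neg]).trans ((P.hb.tor P.hr P.h8).sum_norm_indFun h)) ?_
  rw [Nat.cast_mul, P.cast_ca, P.cast_cb, cast_pred, P.cast_q, P.cast_r]
  push_cast
  ring

end

theorem irr_cases {χ : G → ℂ} (hχ : IsIrrCharacter G χ) : χ = (fun _ => 1) ∨ χ = D.St ∨ χ = P.W ∨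
    χ = P.W' ∨ (∃ lam, lam ≠ 1 ∧ χ = X (D := D) lam) ∨ (∃ lam, lam ≠ 1 ∧ χ = P.Y lam) ∨
    ∃ lam, lam ≠ 1 ∧ χ = P.Z lam := by
  by_contra! h
  obtain ⟨h1, h2, h3, h4, h5, h6, h7⟩ := h
  have a1 := inner_irr_ne hχ irr_one h1
  have a2 := inner_irr_ne hχ D.irr_St h2
  have a3 := inner_irr_ne hχ P.irr_W h3
  have a4 := inner_irr_ne hχ P.irr_W' h4
  have hc := irr_isClassFunction hχ
  have b1 : ∀ x ∈ conjSet D.H, χ x = 0 := fun x => (D.tor_H P.h8).eq_zero_of_inner hc fun lam h => by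
    have := inner_irr_ne hχ (P.irr_X lam h) (h5 lam h)
    simp only [X, Char.inner_add_right, Char.inner_sub_right, a1, a2] at this
    linear_combination this
  have b2 : ∀ x ∈ conjSet P.A, χ x = 0 := fun x =>
    (P.ha.tor P.hr P.h8).eq_zero_of_inner hc fun lam h => by
      have := inner_irr_ne hχ (P.irr_Y lam h) (h6 lam h)
      simp only [Y, Char.inner_sub_right, a1, a2, a3, a4] at this
      linear_combination -this
  have b3 : ∀ x ∈ conjSet P.B, χ x = 0 := fun x =>
    (P.hb.tor P.hr P.h8).eq_zero_of_inner hc fun lam h => by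
      have := inner_irr_ne hχ (P.irr_Z lam h) (h7 lam h)
      simp only [Z, Char.inner_add_right, Char.inner_sub_right, a1, a2, a3, a4] at this
      linear_combination -this
  have := card_mul_inner χ D.St
  rw [a2, mul_zero, Finset.sum_eq_single 1, St_one] at this
  · exact mul_ne_zero (irr_one_ne_zero hχ) (by simp [Nat.card_pos.ne']) this.symm
  · intro x _ hx
    rcases P.cases x with h | h | h | h | h | h
    · exact absurd h hx
    · simp [D.St_two (pow_four_of_sq h.1) hx]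
    · simp [D.St_two (pow_four_of_orderOf h) hx]
    · simp [b1 x h]
    · simp [b2 x h]
    · simp [b3 x h]
  · simp

/-- The set of degrees. -/
theorem degree_iff (n : ℕ) : (∃ χ, IsIrrCharacter G χ ∧ χ 1 = n) ↔ n = 1 ∨ n = Nat.card F ^ 2 ∨
    n = (Nat.card F - 1) * P.d ∨ n = Nat.card F ^ 2 + 1 ∨
    n = (Nat.card F - 1) * (Nat.card F - r + 1) ∨ n = (Nat.card F - 1) * (Nat.card F + r + 1) := by
  have e1 : P.W 1 = ((Nat.card F - 1) * P.d : ℕ) := by rw [P.W_one, Nat.cast_mul, cast_pred]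
  have e2 : P.W' 1 = ((Nat.card F - 1) * P.d : ℕ) := by rw [P.W'_one, Nat.cast_mul, cast_pred]
  have e3 : ∀ lam, P.Y lam 1 = ((Nat.card F - 1) * (Nat.card F - r + 1) : ℕ) := fun lam => by
    rw [P.Y_one, Nat.cast_mul, cast_pred, ← P.cb, P.cast_cb]
  have e4 : ∀ lam, P.Z lam 1 = ((Nat.card F - 1) * (Nat.card F + r + 1) : ℕ) := fun lam => by
    rw [P.Z_one, Nat.cast_mul, cast_pred, ← P.ca, P.cast_ca]
  constructor
  · rintro ⟨χ, hχ, h⟩
    rcases P.irr_cases hχ with rfl | rfl | rfl | rfl | ⟨_, -, rfl⟩ | ⟨_, -, rfl⟩ | ⟨_, -, rfl⟩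
    · exact Or.inl (Nat.cast_eq_one.1 h.symm)
    · rw [St_one] at h; exact Or.inr (Or.inl (by exact_mod_cast h.symm))
    · rw [e1] at h; exact Or.inr (Or.inr (Or.inl (by exact_mod_cast h.symm)))
    · rw [e2] at h; exact Or.inr (Or.inr (Or.inl (by exact_mod_cast h.symm)))
    · rw [X_one] at h; exact Or.inr (Or.inr (Or.inr (Or.inl (by exact_mod_cast h.symm))))
    · rw [e3] at h; exact Or.inr (Or.inr (Or.inr (Or.inr (Or.inl (by exact_mod_cast h.symm)))))
    · rw [e4] at h; exact Or.inr (Or.inr (Or.inr (Or.inr (Or.inr (by exact_mod_cast h.symm)))))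
  · rintro (rfl | rfl | rfl | rfl | rfl | rfl)
    · exact ⟨_, irr_one, by simp⟩
    · exact ⟨_, D.irr_St, by rw [St_one]; simp⟩
    · exact ⟨_, P.irr_W, e1⟩
    · obtain ⟨lam, h⟩ := (D.tor_H P.h8).exists_linear_ne_one (by
        rw [← one_lt_card_iff_ne_bot, card_H]; have := P.h8; omega)
      exact ⟨_, P.irr_X lam h, by rw [X_one]; simp⟩
    · obtain ⟨lam, h⟩ := (P.ha.tor P.hr P.h8).exists_linear_ne_one
        ((one_lt_card_iff_ne_bot _).1 P.ha.one_lt_card_centralizer)
      exact ⟨_, P.irr_Y lam h, e3 lam⟩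
    · obtain ⟨lam, h⟩ := (P.hb.tor P.hr P.h8).exists_linear_ne_one
        ((one_lt_card_iff_ne_bot _).1 P.hb.one_lt_card_centralizer)
      exact ⟨_, P.irr_Z lam h, e4 lam⟩

end Table

end SzData

end CF.BN.Suz
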