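import Cfsg.Agent.BN.TitsK
import Cfsg.Agent.Tits.Main

/-! The square of a class of elements of order 13 covers the non-identity elements of the Tits group. -/

set_option autoImplicit false
set_option maxRecDepth 1000000

namespace CF.BN.TitsC

open CF.Comp CF.Bt Subgroup

theorem h1 : evsOK Tits.N 1755 11 X ws = true := by decide +kernel

theorem cl_split {nets : List Net} {n k p : ℕ} {c' : List Lvl} {reps : List (List ℕ)} {F : FD}
    (h : clOK nets n k p c' reps F = true) : LabOK n k (repl n k) (full (Nat.pred n)) ∧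
      enumOK nets n k (fusAt nets n k (repl n k) (full (Nat.pred n)) F.M (p ^ 1) reps F.tbl) c' F.Ts = true := by
  simp only [clOK, force_eq] at h
  exact ⟨labOK_spec (and_of_rec h).1, (and_of_rec h).2⟩

section
variable {G Ω : Type*} [Group G] [MulAction G Ω] {D : Dom Ω 1755} {f : ℕ → G}

theorem of_rep {g y : G} {w : List ℕ} (hw : w ∈ lmap sq ts) (e : y * g * y⁻¹ = ev f w) :
    ∃ u v : G, g = u * ev f [1] * u⁻¹ * (v * ev f [1] * v⁻¹) := by
  rw [lmap_eq, List.mem_map] at hw
  obtain ⟨t, -, rfl⟩ := hw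
  rw [sq, ev_lapp, ev_lapp, ev_lapp, ev_winv] at e
  refine ⟨y⁻¹, y⁻¹ * ev f t, ?_⟩
  have : g = y⁻¹ * (y * g * y⁻¹) * y := by group
  rw [this, e]; group

theorem cover (hE : Exact D (lapp X X1) f c ⊤) {c' : List Lvl} {P : Subgroup G}
    (hP : Exact D (lapp X X1) f c' P) {F : FD} (h : clOK (lapp X X1) 1755 11 0 c' (lmap sq ts) F = true)
    {g y : G} (hg : y * g * y⁻¹ ∈ P) (h1 : g ≠ 1) :
    ∃ u v : G, g = u * ev f [1] * u⁻¹ * (v * ev f [1] * v⁻¹) := by
  obtain ⟨w, hw, x, -, e⟩ := fusion hP (cl_split h).1 hE.faithful (fun _ => trivial)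
    (cl_split h).2 hg (by simp) (by simpa using h1)
  exact of_rep (y := x * y) hw (by rw [← e]; group)

theorem odd_case (hE : Exact D (lapp X X1) f c ⊤) (hc : Nat.card G = 17971200) {p m s : ℕ} (hp : p.Prime)
    {a : List ℕ} {C : CD} {c' : List Lvl} (hk : ceqOK (lapp X X1) 1755 11 17971200 a C c' s = true)
    (hs : 17971200 = s * m) (hm : ¬ p ∣ m) {reps : List (List ℕ)} {F : FD}
    (hF : clOK (lapp X X1) 1755 11 p c' reps F = true)
    (hr : ∀ w ∈ reps, centralizer {ev f w} ≤ centralizer {ev f a}) {F' : FD}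
    (h : clOK (lapp X X1) 1755 11 0 c' (lmap sq ts) F' = true) {g : G} (hg : p ∣ orderOf g) :
    ∃ u v : G, g = u * ev f [1] * u⁻¹ * (v * ev f [1] * v⁻¹) := by
  have := Exact.finite_top hE
  obtain ⟨hC, hs'⟩ := ceqOK_spec hE (by decide) (by decide) hc hk
  have ho : orderOf (g ^ (orderOf g / p)) = p := orderOf_pow_orderOf_div (orderOf_pos g).ne' hg
  obtain ⟨w, hw, x, -, e⟩ := classes hC (cl_split hF).1 hE.faithful (fun _ => trivial) hp
    (m := m) (by rw [card_top, hc, ← hC.card, hs', hs]) hm (cl_split hF).2 (g := g ^ (orderOf g / p)) trivial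
    (by rw [pow_one]; exact orderOf_dvd_iff_pow_eq_one.1 ho.dvd) fun e => hp.ne_one (by rw [← ho, e, orderOf_one])
  refine cover hE hC h (y := x) (hr w hw ?_) ?_
  · rw [mem_centralizer_singleton_iff, ← e]
    have : g * g ^ (orderOf g / p) = g ^ (orderOf g / p) * g := (Commute.self_pow g _).eq
    calc x * g * x⁻¹ * (x * g ^ (orderOf g / p) * x⁻¹) = x * (g * g ^ (orderOf g / p)) * x⁻¹ := by group
      _ = _ := by rw [this]; group
  · rintro rfl
    exact hp.ne_one (by simpa using hg)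

theorem two_case (hE : Exact D (lapp X X1) f c ⊤) (hc : Nat.card G = 17971200) {g : G} {a : ℕ}
    (hg : g ^ 2 ^ a = 1) (h1 : g ≠ 1) : ∃ u v : G, g = u * ev f [1] * u⁻¹ * (v * ev f [1] * v⁻¹) := by
  have := Exact.finite_top hE
  obtain ⟨-, a2, a3⟩ := pOK_spec hE (by decide) (by decide) pS
  obtain ⟨x, -, h2⟩ := exists_conj_mem (P := clo f S.qs) (H := ⊤) le_top Nat.prime_two (m := 8775)
    (by rw [card_top, hc, a2]; norm_num) (by decide) (g := g) trivial hg
  obtain ⟨v, h3, h4⟩ := enum_sound' (M := S.c.head (by simp [S])) (t := S.c.tail) a3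
    (T := T0) (Ts := [T1]) tr (l := 1024) (by decide +kernel)
    (forall_lt_add (forall_lt_add (forall_lt_add (allFrom_zero.1 en0) (allFrom_iff.1 en1)) (allFrom_iff.1 en2))
      (allFrom_iff.1 en3)) _ h2
  obtain ⟨y, -, r, e⟩ := h3.fusAt hE.reps (labOK_spec (by decide +kernel)) hE.faithful (fun _ => trivial) trivial h4
    (pow_zero _)
  rcases nth_ev_cases f (lmap sq ts) r with h5 | ⟨w, hw, h5⟩
  · exact absurd (by simpa using e.trans h5) h1
  · exact of_rep (y := y * x) hw (by rw [← h5, ← e]; group)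

theorem main0 (hE : Exact D (lapp X X1) f c ⊤) (hc : Nat.card G = 17971200) :
    ∃ x : G, Odd (orderOf x) ∧ ∀ g : G, g ≠ 1 → ∃ u v : G, g = u * x * u⁻¹ * (v * x * v⁻¹) := by
  have := Exact.finite_top hE
  have o := ordOK_spec hE (by decide) (by decide) (by norm_num) o13
  refine ⟨ev f [1], by rw [o]; decide, fun g h1 => ?_⟩
  by_cases d3 : 3 ∣ orderOf g
  · exact odd_case hE hc (by norm_num) k3 (m := 166400) (by norm_num) (by norm_num) f3 (by simp) g3 d3
  by_cases d5 : 5 ∣ orderOf g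
  · exact odd_case hE hc (by norm_num) k5 (m := 359424) (by norm_num) (by norm_num) f5 (by simp) g5 d5
  by_cases d13 : 13 ∣ orderOf g
  · refine odd_case hE hc (by norm_num) k13 (m := 1382400) (by norm_num) (by norm_num) f13 ?_ g13 d13
    simp only [List.forall_mem_cons, le_refl, true_and, List.not_mem_nil, false_imp_iff, implies_true, and_true]
    intro y hy
    rw [mem_centralizer_singleton_iff] at hy ⊢
    have e : ev f [1] = ev f [1, 1] ^ 7 := by
      have e1 : ev f [1, 1] = ev f [1] ^ 2 := by rw [pow_two, ← ev_append]; rfl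
      rw [e1, ← pow_mul, show 2 * 7 = 13 + 1 from rfl, pow_succ, ← o, pow_orderOf_eq_one, one_mul]
    rw [e]
    exact (Commute.pow_right hy 7).eq
  have hd : orderOf g ∣ 2 ^ 11 * (3 ^ 3 * (5 ^ 2 * 13)) := by
    have := orderOf_dvd_natCard g
    rwa [hc] at this
  have c3 : (orderOf g).Coprime (3 ^ 3 * (5 ^ 2 * 13)) := by
    refine Nat.Coprime.mul_right (Nat.Coprime.pow_right _ ?_) (Nat.Coprime.mul_right (Nat.Coprime.pow_right _ ?_) ?_)
    · exact ((Nat.Prime.coprime_iff_not_dvd (by norm_num)).2 d3).symm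
    · exact ((Nat.Prime.coprime_iff_not_dvd (by norm_num)).2 d5).symm
    · exact ((Nat.Prime.coprime_iff_not_dvd (by norm_num)).2 d13).symm
  exact two_case hE hc (a := 11) (orderOf_dvd_iff_pow_eq_one.1 (c3.dvd_of_dvd_mul_right hd)) h1

end

/-- the square of a class of elements of odd order covers the non-identity elements -/
def OSq (G : Type*) [Group G] : Prop :=
  ∃ x : G, Odd (orderOf x) ∧ ∀ g : G, g ≠ 1 → ∃ u v : G, g = u * x * u⁻¹ * (v * x * v⁻¹)

theorem main1 {G Ω : Type*} [Group G] [MulAction G Ω] {D : Dom Ω 1755} {f : ℕ → G} {H : Subgroup G}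
    (h : Exact D Tits.N f Tits.C H) (mem : ∀ i, f i ∈ H) (card : Nat.card H = 17971200) : OSq H := by
  obtain ⟨hE, -⟩ := Exact.fresh h (by decide) (fun w _ => ev_mem mem w) h1 (m := 2) rfl h2 card h3
  have hf := slp_mem (evs_mem (ws := ws) (fun w _ => ev_mem mem w)) W 2
  exact main0 (exact_sub_top hE hf) card

theorem OSq.of_equiv {G M : Type*} [Group G] [Group M] (h : OSq G) (e : M ≃* G) : OSq M := by
  obtain ⟨x, h1, h2⟩ := h
  refine ⟨e.symm x, by rwa [MulEquiv.orderOf_eq], fun g hg => ?_⟩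
  obtain ⟨u, v, h3⟩ := h2 (e g) (by simpa using hg)
  exact ⟨e.symm u, e.symm v, e.injective (by simpa using h3)⟩

theorem mainT : OSq Tits.T := main1 Tits.exact Tits.mem Tits.card

theorem main : OSq Cfsg.Lie.TitsGroup := mainT.of_equiv Tits.eT.symm

end CF.BN.TitsC
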