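import Cfsg.Agent.BN.TitsD

/-! Kernel checks for the class square in the Tits group. -/

set_option autoImplicit false
set_option maxRecDepth 1000000
set_option Elab.async false

namespace CF.BN.TitsC

open CF.Comp CF.Bt

/-- the word `x t x t⁻¹` -/
noncomputable def sq (t : List ℕ) : List ℕ := lapp [1] (lapp t (lapp [1] (winv t)))

theorem h2 : slpOK (lapp X X1) 1755 11 W 2 = true := by decide +kernel
theorem h3 : geOK (lapp X X1) 1755 c 17971200 = true := by decide +kernel
theorem o13 : ordOK (lapp X X1) 1755 11 [1] 13 = true := by decide +kernel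
theorem k3 : ceqOK (lapp X X1) 1755 11 17971200 y3 C3 c3 108 = true := by decide +kernel
theorem f3 : clOK (lapp X X1) 1755 11 3 c3 [y3] F3 = true := by decide +kernel
theorem g3 : clOK (lapp X X1) 1755 11 0 c3 (lmap sq ts) G3 = true := by decide +kernel
theorem k5 : ceqOK (lapp X X1) 1755 11 17971200 y5 C5 c5 50 = true := by decide +kernel
theorem f5 : clOK (lapp X X1) 1755 11 5 c5 [y5] F5 = true := by decide +kernel
theorem g5 : clOK (lapp X X1) 1755 11 0 c5 (lmap sq ts) G5 = true := by decide +kernel
theorem k13 : ceqOK (lapp X X1) 1755 11 17971200 [1] C13 c13 13 = true := by decide +kernel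
theorem f13 : clOK (lapp X X1) 1755 11 13 c13 [[1], [1, 1]] F13 = true := by decide +kernel
theorem g13 : clOK (lapp X X1) 1755 11 0 c13 (lmap sq ts) G13 = true := by decide +kernel
theorem pS : pOK (lapp X X1) 1755 11 2 S 11 = true := by decide +kernel

/-- the check of the table for the Sylow 2-subgroup -/
noncomputable def en : ℕ → Bool :=
  enumAt (lapp X X1) 1755 11 (fusAt (lapp X X1) 1755 11 (repl 1755 11) (full 1754) 3000338 0 (lmap sq ts) GS)
    (S.c.head (by simp [S])) S.c.tail T0 [T1]

theorem tr : transOK (lapp X X1) S.c [T0, T1] = true := by decide +kernel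
theorem en0 : allFrom en 0 256 = true := by decide +kernel
theorem en1 : allFrom en 256 256 = true := by decide +kernel
theorem en2 : allFrom en 512 256 = true := by decide +kernel
theorem en3 : allFrom en 768 256 = true := by decide +kernel

end CF.BN.TitsC
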