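import Cfsg.Agent.Schur.Cl
import Cfsg.Agent.BN.U52D

/-! The Schur multiplier of U52. -/

set_option autoImplicit false
set_option maxRecDepth 1000000
set_option maxHeartbeats 0
set_option Elab.async false

namespace CF.BN.U52

open CF.Comp CF.Schur CF.Schur.Pc Cfsg

theorem linU_a : linAll (tabQ 2 1 1) 165 5 UV UA U0 UCs 2 = true := by decide +kernel
theorem linU : LinOK (tabQ 2 1 1) 165 5 2 UV UA U0 :=
  ⟨⟨Uσ, by decide +kernel⟩, by decide +kernel, by decide +kernel, rfl,
    UCs, by decide +kernel, rfl, linAll_iff.1 linU_a⟩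
theorem chU : ChainGe U0 U1 165 8 2 UW UC 13685760 :=
  ⟨rfl, by decide, by decide, slp_of_slpOK (by decide +kernel), by decide +kernel, by decide +kernel,
    by decide +kernel⟩
theorem memU : allFrom (suAt (tabQ 2 1 1) 5 2 UA UD) 0 2 = true := by decide +kernel

variable {G Ω : Type*} [Group G] [MulAction G Ω] {D : CF.Comp.Dom Ω 165} {f : ℕ → G} {H : Subgroup G} {bs : List ℕ}
  [Finite H]

noncomputable def Wx2 : List (List Nat) := [[(nat_lit 6), (nat_lit 4), (nat_lit 4), (nat_lit 1), (nat_lit 10), (nat_lit 14), (nat_lit 14), (nat_lit 17)],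
  [(nat_lit 4), (nat_lit 4), (nat_lit 4), (nat_lit 10), (nat_lit 8), (nat_lit 10), (nat_lit 10), (nat_lit 17), (nat_lit 13)],
  [(nat_lit 13), (nat_lit 2), (nat_lit 17), (nat_lit 12), (nat_lit 5), (nat_lit 11), (nat_lit 10), (nat_lit 13), (nat_lit 9), (nat_lit 13), (nat_lit 17)],
  [(nat_lit 14), (nat_lit 1), (nat_lit 1), (nat_lit 6), (nat_lit 9), (nat_lit 7), (nat_lit 5), (nat_lit 9), (nat_lit 17), (nat_lit 14)],
  [(nat_lit 12), (nat_lit 6), (nat_lit 2), (nat_lit 8), (nat_lit 5), (nat_lit 9), (nat_lit 13)],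
  [(nat_lit 1), (nat_lit 3), (nat_lit 2), (nat_lit 6), (nat_lit 14), (nat_lit 8), (nat_lit 13), (nat_lit 9), (nat_lit 17), (nat_lit 13)],
  [(nat_lit 7), (nat_lit 3), (nat_lit 8), (nat_lit 17), (nat_lit 9)],
  [(nat_lit 2), (nat_lit 13), (nat_lit 2), (nat_lit 12), (nat_lit 12), (nat_lit 5), (nat_lit 12), (nat_lit 12), (nat_lit 13), (nat_lit 17)],
  [(nat_lit 1), (nat_lit 4), (nat_lit 2), (nat_lit 14), (nat_lit 8), (nat_lit 6), (nat_lit 17), (nat_lit 12), (nat_lit 10), (nat_lit 17), (nat_lit 14)],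
  [(nat_lit 9), (nat_lit 5), (nat_lit 2), (nat_lit 8), (nat_lit 6), (nat_lit 10)],
  [(nat_lit 14), (nat_lit 4), (nat_lit 1), (nat_lit 13), (nat_lit 6), (nat_lit 13), (nat_lit 11), (nat_lit 10), (nat_lit 14)],
  [(nat_lit 2), (nat_lit 7), (nat_lit 2), (nat_lit 10), (nat_lit 6), (nat_lit 9), (nat_lit 9), (nat_lit 9), (nat_lit 13), (nat_lit 13)],
  [(nat_lit 13), (nat_lit 2), (nat_lit 9), (nat_lit 5), (nat_lit 5), (nat_lit 10), (nat_lit 12), (nat_lit 12), (nat_lit 14), (nat_lit 14), (nat_lit 17)]]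

theorem qx2_0 : allFrom (preRow (lapp U0 U1) Nx2 Wx2 165 8) 0 13 = true := by decide +kernel

theorem qx2 : ∀ j < 13, preRow (lapp U0 U1) Nx2 Wx2 165 8 j = true := by
  have h : ∀ j < 0, preRow (lapp U0 U1) Nx2 Wx2 165 8 j = true := by simp
  have h := forall_lt_add h (allFrom_iff.1 qx2_0)
  exact h

theorem wx2 : wfAll Nx2 165 = true := by decide +kernel

noncomputable def Px2 : Dat := ⟨(nat_lit 2), (nat_lit 10), (nat_lit 8), (nat_lit 12), (nat_lit 67),
  (BT.node (nat_lit 27) (BT.node (nat_lit 13) (BT.node (nat_lit 6) (BT.node (nat_lit 3) (BT.node (nat_lit 1) (BT.leaf []) (BT.node (nat_lit 2) (BT.leaf [(nat_lit 1)]) (BT.leaf []))) (BT.node (nat_lit 4) (BT.leaf [(nat_lit 2), (nat_lit 5)]) (BT.node (nat_lit 5) (BT.leaf [(nat_lit 2), (nat_lit 6)]) (BT.leaf [(nat_lit 4)])))) (BT.node (nat_lit 9) (BT.node (nat_lit 7) (BT.leaf [(nat_lit 3), (nat_lit 5), (nat_lit 6)]) (BT.node (nat_lit 8) (BT.leaf [(nat_lit 3), (nat_lit 5)]) (BT.leaf [(nat_lit 3), (nat_lit 4)]))) (BT.node (nat_lit 11) (BT.node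 (nat_lit 10) (BT.leaf [(nat_lit 4)]) (BT.leaf [(nat_lit 4), (nat_lit 7), (nat_lit 9)])) (BT.node (nat_lit 12) (BT.leaf [(nat_lit 4), (nat_lit 8), (nat_lit 9)]) (BT.leaf [(nat_lit 4)]))))) (BT.node (nat_lit 20) (BT.node (nat_lit 16) (BT.node (nat_lit 14) (BT.leaf [(nat_lit 4)]) (BT.node (nat_lit 15) (BT.leaf []) (BT.leaf [(nat_lit 5), (nat_lit 9)]))) (BT.node (nat_lit 18) (BT.node (nat_lit 17) (BT.leaf [(nat_lit 5), (nat_lit 9)]) (BT.leaf [(nat_lit 5), (nat_lit 7)])) (BT.node (nat_lit 19) (BT.leaf [(nat_lit 5), (nat_lit 8)]) (BT.leaf [(nat_lit 5)])))) (BT.node (nat_lit 23) (BT.node (nat_lit 21) (BT.leaf [(nat_lit 9)]) (BT.node (nat_lit 22) (BT.leaf [(nat_lit 6)]) (BT.leaf [(nat_lit 6), (nat_lit 9)]))) (BT.node (nat_lit 25) (BT.node (nat_lit 24) (BT.leaf [(nat_lit 6), (nat_lit 8)]) (BT.leaf [(nat_lit 6), (nat_lit 7), (nat_lit 8)])) (BT.node (nat_lit 26) (BT.leaf [(nat_lit 6)]) (BT.leaf [(nat_lit 6), (nat_lit 9)])))))) (BT.node (nat_lit 41) (BT.node (nat_lit 34) (BT.node (nat_lit 30) (BT.node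 (nat_lit 28) (BT.leaf [(nat_lit 9)]) (BT.node (nat_lit 29) (BT.leaf [(nat_lit 7)]) (BT.leaf [(nat_lit 7), (nat_lit 9)]))) (BT.node (nat_lit 32) (BT.node (nat_lit 31) (BT.leaf [(nat_lit 7)]) (BT.leaf [(nat_lit 7)])) (BT.node (nat_lit 33) (BT.leaf [(nat_lit 7)]) (BT.leaf [(nat_lit 7)])))) (BT.node (nat_lit 37) (BT.node (nat_lit 35) (BT.leaf [(nat_lit 7)]) (BT.node (nat_lit 36) (BT.leaf []) (BT.leaf [(nat_lit 8), (nat_lit 9)]))) (BT.node (nat_lit 39) (BT.node (nat_lit 38) (BT.leaf [(nat_lit 8)]) (BT.leaf [(nat_lit 8)])) (BT.node (nat_lit 40) (BT.leaf [(nat_lit 8)]) (BT.leaf [(nat_lit 8)]))))) (BT.node (nat_lit 48) (BT.node (nat_lit 44) (BT.node (nat_lit 42) (BT.leaf [(nat_lit 8)]) (BT.node (nat_lit 43) (BT.leaf [(nat_lit 8)]) (BT.leaf [(nat_lit 8)]))) (BT.node (nat_lit 46) (BT.node (nat_lit 45) (BT.leaf []) (BT.leaf [(nat_lit 9)])) (BT.node (nat_lit 47) (BT.leaf [(nat_lit 9)]) (BT.leaf [(nat_lit 9)])))) (BT.node (nat_lit 51) (BT.node (nat_lit 49) (BT.leaf [(nat_lit 9)]) (BT.node (nat_lit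 50) (BT.leaf [(nat_lit 9)]) (BT.leaf [(nat_lit 9)]))) (BT.node (nat_lit 53) (BT.node (nat_lit 52) (BT.leaf [(nat_lit 9)]) (BT.leaf [(nat_lit 9)])) (BT.node (nat_lit 54) (BT.leaf [(nat_lit 9)]) (BT.leaf []))))))),
  [⟨(nat_lit 0), [(nat_lit 8)], [(nat_lit 1), (nat_lit 6), (nat_lit 9)]⟩,
  ⟨(nat_lit 1), [(nat_lit 0)], [(nat_lit 0), (nat_lit 1), (nat_lit 6)]⟩,
  ⟨(nat_lit 1), [(nat_lit 1)], [(nat_lit 0), (nat_lit 5), (nat_lit 6), (nat_lit 9)]⟩,
  ⟨(nat_lit 1), [(nat_lit 3)], [(nat_lit 2), (nat_lit 3), (nat_lit 6), (nat_lit 8), (nat_lit 9)]⟩,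
  ⟨(nat_lit 1), [(nat_lit 4)], [(nat_lit 4), (nat_lit 7), (nat_lit 9)]⟩,
  ⟨(nat_lit 1), [(nat_lit 2)], [(nat_lit 3), (nat_lit 4), (nat_lit 5), (nat_lit 6), (nat_lit 7), (nat_lit 9)]⟩,
  ⟨(nat_lit 2), [(nat_lit 2)], [(nat_lit 3), (nat_lit 4), (nat_lit 7)]⟩,
  ⟨(nat_lit 2), [(nat_lit 0)], [(nat_lit 0), (nat_lit 5), (nat_lit 9)]⟩,
  ⟨(nat_lit 2), [(nat_lit 5)], [(nat_lit 5), (nat_lit 6), (nat_lit 7), (nat_lit 8)]⟩,
  ⟨(nat_lit 2), [(nat_lit 1)], [(nat_lit 1), (nat_lit 5), (nat_lit 6), (nat_lit 7), (nat_lit 8), (nat_lit 9)]⟩,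
  ⟨(nat_lit 2), [(nat_lit 6)], [(nat_lit 5), (nat_lit 7), (nat_lit 8), (nat_lit 9)]⟩,
  ⟨(nat_lit 2), [(nat_lit 3)], [(nat_lit 2), (nat_lit 3), (nat_lit 4)]⟩]⟩

noncomputable def Xx2_0 : List Test := [⟨(nat_lit 0), [(nat_lit 2)], [(nat_lit 2), (nat_lit 2)], (nat_lit 0x100000000000000000000000000000000000000000000000000000000000000000000000000000000000001000000000000000000000000000000000000000000000000)⟩,
  ⟨(nat_lit 0), [(nat_lit 3)], [(nat_lit 3), (nat_lit 3)], (nat_lit 0x100000000000000000000000000000000000000000000000000000000000000000000000000000000000100000000000000000000000000000000000000000000000000)⟩,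
  ⟨(nat_lit 0), [(nat_lit 5)], [(nat_lit 5), (nat_lit 5)], (nat_lit 0x100000000010000000000000000000000000000000000000000000000000000000000000000000000000000000000000000000000000000000000000000000000000000)⟩,
  ⟨(nat_lit 0), [(nat_lit 6)], [(nat_lit 6), (nat_lit 6)], (nat_lit 0x100000001000000000000000000000000000000000000000000000000000000000000000000000000000000000000000000000000000000000000000000000000000000)⟩,
  ⟨(nat_lit 0), [(nat_lit 5)], [(nat_lit 0), (nat_lit 0)], (nat_lit 0x101000000000000000001000000000000000000000000000000000000000000000000000000000000000000000000000000000000000000000000000000000000000000)⟩,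
  ⟨(nat_lit 0), [(nat_lit 5)], [(nat_lit 1), (nat_lit 1)], (nat_lit 0x101000000000000000100000000000000000000000000000000000000000000000000000000000000000000000000000000000000000000000000000000000000000000)⟩,
  ⟨(nat_lit 1), [(nat_lit 0), (nat_lit 0)], [], (nat_lit 0x100000000000000000100010000000000000000000000000000000001000000000100000000000000000000000000000000000000010000000000000000000000000000)⟩,
  ⟨(nat_lit 0), [(nat_lit 7)], [(nat_lit 2), (nat_lit 2)], (nat_lit 0x100000000000000000000000000000000000000000000010000000000000000000000000000000000000000000000000000000000000000000000000000000000000000)⟩,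
  ⟨(nat_lit 0), [(nat_lit 7)], [(nat_lit 5), (nat_lit 5)], (nat_lit 0x100000100000000000000000000000000000000000000000000000000000000000000000000000000000000000000000000000000000000000000000000000000000000)⟩,
  ⟨(nat_lit 0), [(nat_lit 8)], [(nat_lit 2), (nat_lit 2)], (nat_lit 0x100000000000000000000000000000100000000000000000000000000000000000000000000000000000000000000000000000000000000000000000000000000000000)⟩,
  ⟨(nat_lit 0), [(nat_lit 8)], [(nat_lit 5), (nat_lit 5)], (nat_lit 0x100010000000000000000000000000000000000000000000000000000000000000000000000000000000000000000000000000000000000000000000000000000000000)⟩,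
  ⟨(nat_lit 0), [(nat_lit 9)], [(nat_lit 2), (nat_lit 2)], (nat_lit 0x100000000000100000000000000000000000000000000000000000000000000000000000000000000000000000000000000000000000000000000000000000000000000)⟩,
  ⟨(nat_lit 0), [(nat_lit 2)], [(nat_lit 0), (nat_lit 0)], (nat_lit 0x101000000000000000000000000000000000000000000000000000000000000000000010000000001000000000000000000000000000000000000000000000000000000)⟩,
  ⟨(nat_lit 0), [(nat_lit 2)], [(nat_lit 1), (nat_lit 1)], (nat_lit 0x101000000000000000000000000000000000000000000000000000001000000000100000000000000000000000000000000000000000000000000000000000000000000)⟩,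
  ⟨(nat_lit 0), [(nat_lit 3)], [(nat_lit 1), (nat_lit 1)], (nat_lit 0x101000000000000000000000000000000000000000000000000000000000000000000010000000100000000000000000000000000000000000000000000000000000000)⟩,
  ⟨(nat_lit 0), [(nat_lit 6)], [(nat_lit 6), (nat_lit 0)], (nat_lit 0x100000000000000000001000000000000000000000000000000000000000000000000000000000000000000000000000000000000000000000000000000000000000000)⟩,
  ⟨(nat_lit 2), [(nat_lit 1), (nat_lit 1)], [], (nat_lit 0x101000001000000000000000000000000000000000000000000000001000000000101000000000000000000000000000000000000010100000000000000000000000000)⟩,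
  ⟨(nat_lit 0), [(nat_lit 3)], [(nat_lit 2), (nat_lit 2)], (nat_lit 0x100000000000000000000000000000000000000000000000000000000000000000000000000000000010101000000000000000000000000000000000000000000000000)⟩,
  ⟨(nat_lit 0), [(nat_lit 5)], [(nat_lit 2), (nat_lit 2)], (nat_lit 0x100000000000000000000000000000000000000010000000001000000000000000000000100000000000000000000000000000000000000000000000000000000000000)⟩,
  ⟨(nat_lit 0), [(nat_lit 5)], [(nat_lit 3), (nat_lit 3)], (nat_lit 0x100000000000000000000010000000001000000000000000000000000000000000000000100000000000000000000000000000000000000000000000000000000000000)⟩,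
  ⟨(nat_lit 0), [(nat_lit 6)], [(nat_lit 2), (nat_lit 2)], (nat_lit 0x100000000000000000000010000000000010000000000000000000000000100000000000000000000000000000000000000000000000000000000000000000000000000)⟩,
  ⟨(nat_lit 0), [(nat_lit 4)], [(nat_lit 0), (nat_lit 0)], (nat_lit 0x101000100000000000001000000000000000000010000000000000100000000000000000000000000000000000000000000000000000000000000000000000000000000)⟩,
  ⟨(nat_lit 0), [(nat_lit 4)], [(nat_lit 1), (nat_lit 1)], (nat_lit 0x101010000000000000100010000000000000100000000000000000000000000000000000000000000000000000000000000000000000000000000000000000000000000)⟩,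
  ⟨(nat_lit 0), [(nat_lit 4)], [(nat_lit 4), (nat_lit 0)], (nat_lit 0x101000100000100000000000000000000000000010000010000000000000000000000000000000000000000000000000000000000000000000000000000000000000000)⟩,
  ⟨(nat_lit 0), [(nat_lit 4)], [(nat_lit 4), (nat_lit 1)], (nat_lit 0x101010000000100000000010000000100000000000000000000000000000000000000000000000000000000000000000000000000000000000000000000000000000000)⟩,
  ⟨(nat_lit 0), [(nat_lit 7)], [(nat_lit 2), (nat_lit 0)], (nat_lit 0x100000000000000000000000000000000000000000001000000000000000000000000000000000000000000000000000000000000000000000000000000000000000000)⟩,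
  ⟨(nat_lit 0), [(nat_lit 7)], [(nat_lit 5), (nat_lit 3)], (nat_lit 0x100000000000000000000000100000000000000000000000000000000000000000000000000000000000000000000000000000000000000000000000000000000000000)⟩,
  ⟨(nat_lit 0), [(nat_lit 8)], [(nat_lit 2), (nat_lit 1)], (nat_lit 0x100000000000000000000000001000000000000000000000000000000000000000000000000000000000000000000000000000000000000000000000000000000000000)⟩,
  ⟨(nat_lit 0), [(nat_lit 8)], [(nat_lit 3), (nat_lit 1)], (nat_lit 0x100000000000000000000000000010000000000000000000000000000000000000000000000000000000000000000000000000000000000000000000000000000000000)⟩,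
  ⟨(nat_lit 0), [(nat_lit 5)], [(nat_lit 5), (nat_lit 2)], (nat_lit 0x100000000000000010000000000000000000000010001000000000000000000000000000000000000000000000000000000000000000000000000000000000000000000)⟩,
  ⟨(nat_lit 0), [(nat_lit 5)], [(nat_lit 5), (nat_lit 3)], (nat_lit 0x100000000000001000000010000010000000000000000000000000000000000000000000000000000000000000000000000000000000000000000000000000000000000)⟩,
  ⟨(nat_lit 0), [(nat_lit 6)], [(nat_lit 3), (nat_lit 3)], (nat_lit 0x100000000000000000000010100000001000000010000000100000000000100000000000000000000000000000000000000000000000000000000000000000000000000)⟩,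
  ⟨(nat_lit 2), [(nat_lit 2), (nat_lit 2)], [], (nat_lit 0x101000000000000000001000000000000000000000000000000000001010000000001010000000001000000000000000000000000010001000000000000000000000000)⟩,
  ⟨(nat_lit 0), [(nat_lit 3)], [(nat_lit 0), (nat_lit 0)], (nat_lit 0x100000000000000000000000000000000000000000000000000000001010000000001010000000001000000000000000000000000000000000000000000000000000000)⟩,
  ⟨(nat_lit 0), [(nat_lit 2)], [(nat_lit 2), (nat_lit 0)], (nat_lit 0x100000100000000000000000000000000000000000001000000000000000000000000010000010000000000000100000000000000000000000000000000000000000000)⟩,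
  ⟨(nat_lit 0), [(nat_lit 2)], [(nat_lit 2), (nat_lit 1)], (nat_lit 0x100010000000000000000000001000000000000000000000000000001000000010000000000000000000000010000000000000000000000000000000000000000000000)⟩,
  ⟨(nat_lit 0), [(nat_lit 3)], [(nat_lit 3), (nat_lit 1)], (nat_lit 0x100010000000000000000000000010000000000000000000000000000000000000000010001000000000000010000000000000000000000000000000000000000000000)⟩,
  ⟨(nat_lit 0), [(nat_lit 6)], [(nat_lit 4), (nat_lit 0)], (nat_lit 0x100000001000000000000000000000000000000000100000000000000000000000000000000000000000000000000000000000000000000000000000000000000000000)⟩,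
  ⟨(nat_lit 0), [(nat_lit 2)], [(nat_lit 1), (nat_lit 0)], (nat_lit 0x101000000000000000000000000000000000000000000000000000000010000000001000000000100000000000000000000000000000000000000000000000000000000)⟩,
  ⟨(nat_lit 0), [(nat_lit 6)], [(nat_lit 2), (nat_lit 0)], (nat_lit 0x100010000000000000000000000010000000001000000000000000000010000000000000000000000000000000000000000000000000000000000000000000000000000)⟩,
  ⟨(nat_lit 0), [(nat_lit 5)], [(nat_lit 2), (nat_lit 1)], (nat_lit 0x101000001000000010000000000000000000000000100000000010000010000000000000000000000000000000000000000000000000000000000000000000000000000)⟩,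
  ⟨(nat_lit 0), [(nat_lit 3)], [(nat_lit 1), (nat_lit 0)], (nat_lit 0x100000001000000000000000000000000000000000000000000000000010000000100000000000101000000000000000000000000000000000000000000000000000000)⟩,
  ⟨(nat_lit 0), [(nat_lit 3)], [(nat_lit 3), (nat_lit 0)], (nat_lit 0x101000101000000000000010101000000000000000101000000000001010001000000010001000000000000000100000000000000000000000000000000000000000000)⟩,
  ⟨(nat_lit 2), [(nat_lit 3), (nat_lit 3)], [(nat_lit 4)], (nat_lit 0x101010101000001010000000001000000010000000100000000000001000001010000000000000000010100000000010000010000000000000000000000000100000000)⟩,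
  ⟨(nat_lit 2), [(nat_lit 5), (nat_lit 5)], [(nat_lit 4)], (nat_lit 0x100000000010101000000010101000000000000010000000100000001010101000000010101000000010100000001000000010000000000000000000000000100000000)⟩,
  ⟨(nat_lit 0), [(nat_lit 3)], [(nat_lit 2), (nat_lit 1)], (nat_lit 0x101000100000100000000010000010100000000000101010000000000010101000000000100010000000000010000000000000000000000000000000000000000000000)⟩,
  ⟨(nat_lit 0), [(nat_lit 3)], [(nat_lit 2), (nat_lit 0)], (nat_lit 0x100010100000100000000000101000100000000000101000000000000010100010000000001010000000000000100000000000000000000000000000000000000000000)⟩,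
  ⟨(nat_lit 3), [(nat_lit 6), (nat_lit 7)], [(nat_lit 7), (nat_lit 6), (nat_lit 8)], (nat_lit 0x101010101000101000000010001010100000000000101000000000100010100000000000001000000000000000100000001000001000000000000010000000000000000)⟩,
  ⟨(nat_lit 3), [(nat_lit 6), (nat_lit 9)], [(nat_lit 9), (nat_lit 6), (nat_lit 10)], (nat_lit 0x100010100010101000000010100000101000000010100000100010000010101000000000001000000000000010000000100000100000000000100000000000000000000)⟩,
  ⟨(nat_lit 2), [(nat_lit 3), (nat_lit 5)], [(nat_lit 5), (nat_lit 3), (nat_lit 4)], (nat_lit 0x100010101010000010000010000000000000000010101000001000000010100010000000101010000010001000000000000000000000000000000000000000100000000)⟩,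
  ⟨(nat_lit 3), [(nat_lit 11), (nat_lit 7)], [(nat_lit 7), (nat_lit 11), (nat_lit 8), (nat_lit 10)], (nat_lit 0x100000001010001010000010100010000000000010100010100000000000100000000000100010000000000000100000000000001000000000100010000000000000000)⟩,
  ⟨(nat_lit 3), [(nat_lit 11), (nat_lit 9)], [(nat_lit 9), (nat_lit 11), (nat_lit 8)], (nat_lit 0x101010001010001010000010001010100010000010101000001000000010000010000000001010000000000010000000000000100000000000000010000000000000000)⟩]

noncomputable def cx2 : Cert := ⟨Px2, (nat_lit 0), Xx2_0,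
  [],
  [(nat_lit 0),
  (nat_lit 0),
  (nat_lit 0),
  (nat_lit 0),
  (nat_lit 0x100000000000000000000000000000000000000000000000000000000000000000000000000000000000000000000000000010000000000000000000000000000000000),
  (nat_lit 0x100000000000000000000000000000000000000000000000000000000000000000000000000000000000000000000000000000001000000000000000000000000000000),
  (nat_lit 0x100000000000000000000000000000000000000000000000000000000000000000000000000000000000000000000000000000100000000000000000000000000000000),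
  (nat_lit 0x100000000000000000000000000000000000000000000000000000000000000000000000000000001000000000100000000000000000000000000000000000000000000),
  (nat_lit 0x100000000000000000000000000000000000000000000000000000000000000000000000000000001000000010000000000000000000000000000000000000000000000),
  (nat_lit 0x100000000000000000000000000000000000000000000000000000000000000000000000000000001000000000000000000000000000000000000000000000000000000)],
  (BT.node (nat_lit 27) (BT.node (nat_lit 13) (BT.node (nat_lit 6) (BT.node (nat_lit 3) (BT.node (nat_lit 1) (BT.leaf (nat_lit 0x30100ae60)) (BT.node (nat_lit 2) (BT.leaf (nat_lit 0x2020101ee70)) (BT.leaf (nat_lit 16821872)))) (BT.node (nat_lit 4) (BT.leaf (nat_lit 0)) (BT.node (nat_lit 5) (BT.leaf (nat_lit 0)) (BT.leaf (nat_lit 0))))) (BT.node (nat_lit 9) (BT.node (nat_lit 7) (BT.leaf (nat_lit 0x8e6243334729c)) (BT.node (nat_lit 8) (BT.leaf (nat_lit 0xd216e619c5084)) (BT.leaf (nat_lit 0x20c2456140007)))) (BT.node (nat_lit 11) (BT.node (nat_lit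 10) (BT.leaf (nat_lit 0x25420f88c0a8b)) (BT.leaf (nat_lit 0))) (BT.node (nat_lit 12) (BT.leaf (nat_lit 0)) (BT.leaf (nat_lit 1)))))) (BT.node (nat_lit 20) (BT.node (nat_lit 16) (BT.node (nat_lit 14) (BT.leaf (nat_lit 2)) (BT.node (nat_lit 15) (BT.leaf (nat_lit 131075)) (BT.leaf (nat_lit 0)))) (BT.node (nat_lit 18) (BT.node (nat_lit 17) (BT.leaf (nat_lit 20480)) (BT.leaf (nat_lit 0x402009110))) (BT.node (nat_lit 19) (BT.leaf (nat_lit 0x1010009410)) (BT.leaf (nat_lit 0x666a1a002188))))) (BT.node (nat_lit 23) (BT.node (nat_lit 21) (BT.leaf (nat_lit 36880)) (BT.node (nat_lit 22) (BT.leaf (nat_lit 0x20200006008)) (BT.leaf (nat_lit 0x420000e010)))) (BT.node (nat_lit 25) (BT.node (nat_lit 24) (BT.leaf (nat_lit 0x4a08004400)) (BT.leaf (nat_lit 0x6301f00fb18))) (BT.node (nat_lit 26) (BT.leaf (nat_lit 0x423c1400fe10)) (BT.leaf (nat_lit 0x2420000b018))))))) (BT.node (nat_lit 41) (BT.node (nat_lit 34) (BT.node (nat_lit 30) (BT.node (nat_lit 28) (BT.leaf (nat_lit 0x4200004000)) (BT.node (nat_lit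 29) (BT.leaf (nat_lit 10520704)) (BT.leaf (nat_lit 0x3622280b998)))) (BT.node (nat_lit 32) (BT.node (nat_lit 31) (BT.leaf (nat_lit 0x666a1a84a818)) (BT.leaf (nat_lit 0x24568a885608))) (BT.node (nat_lit 33) (BT.leaf (nat_lit 128)) (BT.leaf (nat_lit 33554432))))) (BT.node (nat_lit 37) (BT.node (nat_lit 35) (BT.leaf (nat_lit 0x2000000008)) (BT.node (nat_lit 36) (BT.leaf (nat_lit 8423824)) (BT.leaf (nat_lit 0x2c21000b418)))) (BT.node (nat_lit 39) (BT.node (nat_lit 38) (BT.leaf (nat_lit 21006896)) (BT.leaf (nat_lit 0x423c15107000))) (BT.node (nat_lit 40) (BT.leaf (nat_lit 0x666a1b08af98)) (BT.leaf (nat_lit 512)))))) (BT.node (nat_lit 48) (BT.node (nat_lit 44) (BT.node (nat_lit 42) (BT.leaf (nat_lit 268435456)) (BT.node (nat_lit 43) (BT.leaf (nat_lit 134217728)) (BT.leaf (nat_lit 67108864)))) (BT.node (nat_lit 46) (BT.node (nat_lit 45) (BT.leaf (nat_lit 16813584)) (BT.leaf (nat_lit 32768))) (BT.node (nat_lit 47) (BT.leaf (nat_lit 32816)) (BT.leaf (nat_lit 578849168))))) (BT.node (nat_lit 51)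 (BT.node (nat_lit 49) (BT.leaf (nat_lit 1358990864)) (BT.node (nat_lit 50) (BT.leaf (nat_lit 2048)) (BT.leaf (nat_lit 4)))) (BT.node (nat_lit 53) (BT.node (nat_lit 52) (BT.leaf (nat_lit 8)) (BT.leaf (nat_lit 256))) (BT.node (nat_lit 54) (BT.leaf (nat_lit 1024)) (BT.leaf (nat_lit 32784))))))))⟩

theorem okx2 : cx2.OK := Cert.ok_of_check (by decide) (by decide +kernel)


noncomputable def Lx2 : List Lvl := [⟨(nat_lit 0), [[(nat_lit 1), (nat_lit 19)],
  [(nat_lit 3), (nat_lit 19)],
  [(nat_lit 11)],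
  [(nat_lit 13)],
  [(nat_lit 15)],
  [(nat_lit 17)],
  [(nat_lit 19)]], (nat_lit 1)⟩,
  ⟨(nat_lit 1), [[(nat_lit 5), (nat_lit 7), (nat_lit 11), (nat_lit 19)],
  [(nat_lit 7), (nat_lit 13), (nat_lit 15)],
  [(nat_lit 9), (nat_lit 15), (nat_lit 17), (nat_lit 19)]], (nat_lit 1)⟩]


noncomputable def gx2 : List (List Nat) := [[(nat_lit 21)],
  [(nat_lit 23)],
  [(nat_lit 25)]]

theorem hx2_0 : allFrom (relRow (sameW Nx2 165 8) 0 Px2) 0 10 = true := by decide +kernel

theorem hx2 : ∀ j < 10, relRow (sameW Nx2 165 8) 0 Px2 j = true := by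
  have h : ∀ j < 0, relRow (sameW Nx2 165 8) 0 Px2 j = true := by simp
  have h := forall_lt_add h (allFrom_iff.1 hx2_0)
  exact h

theorem px2 : lall (prAt (sameW Nx2 165 8) 0 gx2) Px2.prs = true := by decide +kernel

theorem lx2 : lowOK Nx2 165 0 Px2 Lx2 = true := by decide +kernel

theorem pbdx2 (mdl : Mdl D (lapp U0 U1) f H bs) (card : Nat.card H = 13685760) : PBd H 2 1 :=
  have h := (mdl.new (k := 8) (l := 13) (by decide) wx2 (by decide +kernel) (by decide +kernel) qx2)
  h.pbd (h.sameW (k := 8) (by decide)) okx2 (gs := gx2) hx2 px2 lx2 card (by decide) rfl rfl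

noncomputable def Wx3 : List (List Nat) := [[(nat_lit 7), (nat_lit 10), (nat_lit 3), (nat_lit 11), (nat_lit 10), (nat_lit 5), (nat_lit 15), (nat_lit 10), (nat_lit 12), (nat_lit 14)],
  [(nat_lit 11), (nat_lit 5), (nat_lit 1), (nat_lit 5), (nat_lit 17), (nat_lit 9), (nat_lit 17)],
  [(nat_lit 3), (nat_lit 3), (nat_lit 2), (nat_lit 14), (nat_lit 5), (nat_lit 5), (nat_lit 11), (nat_lit 11), (nat_lit 9), (nat_lit 15)],
  [(nat_lit 3), (nat_lit 3), (nat_lit 2), (nat_lit 14), (nat_lit 5), (nat_lit 5), (nat_lit 12), (nat_lit 14), (nat_lit 9), (nat_lit 13), (nat_lit 13)],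
  [(nat_lit 4), (nat_lit 7), (nat_lit 2), (nat_lit 13), (nat_lit 6), (nat_lit 12), (nat_lit 10), (nat_lit 17)],
  [(nat_lit 13), (nat_lit 6), (nat_lit 1), (nat_lit 7), (nat_lit 12), (nat_lit 5), (nat_lit 9), (nat_lit 11), (nat_lit 10), (nat_lit 13), (nat_lit 13)],
  [(nat_lit 3), (nat_lit 9), (nat_lit 8), (nat_lit 1), (nat_lit 7), (nat_lit 14), (nat_lit 5), (nat_lit 11), (nat_lit 13), (nat_lit 9), (nat_lit 17), (nat_lit 13)],
  [(nat_lit 7), (nat_lit 11), (nat_lit 7), (nat_lit 10), (nat_lit 14)]]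

theorem qx3_0 : allFrom (preRow (lapp U0 U1) Nx3 Wx3 165 8) 0 8 = true := by decide +kernel

theorem qx3 : ∀ j < 8, preRow (lapp U0 U1) Nx3 Wx3 165 8 j = true := by
  have h : ∀ j < 0, preRow (lapp U0 U1) Nx3 Wx3 165 8 j = true := by simp
  have h := forall_lt_add h (allFrom_iff.1 qx3_0)
  exact h

theorem wx3 : wfAll Nx3 165 = true := by decide +kernel

noncomputable def Px3 : Dat := ⟨(nat_lit 3), (nat_lit 5), (nat_lit 7), (nat_lit 7), (nat_lit 22),
  (BT.node (nat_lit 7) (BT.node (nat_lit 3) (BT.node (nat_lit 1) (BT.leaf []) (BT.node (nat_lit 2) (BT.leaf [(nat_lit 1)]) (BT.leaf []))) (BT.node (nat_lit 5) (BT.node (nat_lit 4) (BT.leaf [(nat_lit 2)]) (BT.leaf [(nat_lit 2), (nat_lit 3)])) (BT.node (nat_lit 6) (BT.leaf []) (BT.leaf [(nat_lit 3)])))) (BT.node (nat_lit 11) (BT.node (nat_lit 9) (BT.node (nat_lit 8) (BT.leaf [(nat_lit 3), (nat_lit 4)]) (BT.leaf [(nat_lit 3)])) (BT.node (nat_lit 10) (BT.leaf []) (BT.leaf [(nat_lit 4)]))) (BT.node (nat_lit 13) (BT.node (nat_lit 12) (BT.leaf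 [(nat_lit 4)]) (BT.leaf [(nat_lit 4)])) (BT.node (nat_lit 14) (BT.leaf [(nat_lit 4)]) (BT.leaf []))))),
  [⟨(nat_lit 0), [(nat_lit 0)], [(nat_lit 0), (nat_lit 0), (nat_lit 4)]⟩,
  ⟨(nat_lit 1), [(nat_lit 0)], [(nat_lit 2), (nat_lit 2), (nat_lit 3)]⟩,
  ⟨(nat_lit 0), [(nat_lit 1)], [(nat_lit 1), (nat_lit 1), (nat_lit 4), (nat_lit 4)]⟩,
  ⟨(nat_lit 2), [(nat_lit 1)], [(nat_lit 0), (nat_lit 1), (nat_lit 4)]⟩,
  ⟨(nat_lit 2), [(nat_lit 0)], [(nat_lit 0), (nat_lit 0), (nat_lit 4)]⟩,
  ⟨(nat_lit 0), [(nat_lit 2)], [(nat_lit 2), (nat_lit 3), (nat_lit 3), (nat_lit 4)]⟩,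
  ⟨(nat_lit 0), [(nat_lit 3)], [(nat_lit 3), (nat_lit 3), (nat_lit 4), (nat_lit 4)]⟩]⟩

noncomputable def Xx3_0 : List Test := [⟨(nat_lit 0), [(nat_lit 3)], [(nat_lit 1), (nat_lit 1), (nat_lit 1)], (nat_lit 0x408000000000000000000000000000000000000)⟩,
  ⟨(nat_lit 0), [(nat_lit 2)], [(nat_lit 1), (nat_lit 0)], (nat_lit 0x400000000000000080000000000000000000000)⟩,
  ⟨(nat_lit 0), [(nat_lit 3)], [(nat_lit 1), (nat_lit 0)], (nat_lit 0x400000000800000000000000000000000000000)⟩,
  ⟨(nat_lit 1), [(nat_lit 0), (nat_lit 0), (nat_lit 0)], [], (nat_lit 0x408000000000000000000000002000000000000)⟩,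
  ⟨(nat_lit 2), [(nat_lit 1), (nat_lit 1), (nat_lit 1)], [], (nat_lit 0x800000000010000002000000004000000000000)⟩,
  ⟨(nat_lit 0), [(nat_lit 4)], [(nat_lit 2), (nat_lit 1)], (nat_lit 0x800200000000000000000000000000000000000)⟩,
  ⟨(nat_lit 0), [(nat_lit 2), (nat_lit 2)], [(nat_lit 2), (nat_lit 1)], (nat_lit 0x800000000020000000000000000000000000000)⟩,
  ⟨(nat_lit 1), [(nat_lit 2), (nat_lit 2), (nat_lit 2)], [], (nat_lit 0x810000000000000000000008000000000000000)⟩,
  ⟨(nat_lit 0), [(nat_lit 3)], [(nat_lit 2), (nat_lit 1)], (nat_lit 0x800204000000000000000000000000000000000)⟩,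
  ⟨(nat_lit 0), [(nat_lit 2)], [(nat_lit 1), (nat_lit 1), (nat_lit 1)], (nat_lit 0x408100040010000000000000000000000000000)⟩,
  ⟨(nat_lit 3), [(nat_lit 3), (nat_lit 4)], [(nat_lit 4), (nat_lit 3)], (nat_lit 0x800000080800000000000000100000000000000)⟩,
  ⟨(nat_lit 1), [(nat_lit 5), (nat_lit 0)], [(nat_lit 0), (nat_lit 5)], (nat_lit 0x800104001000000080000400000000000000000)⟩,
  ⟨(nat_lit 1), [(nat_lit 6), (nat_lit 5)], [(nat_lit 5), (nat_lit 6)], (nat_lit 0x800204000000200000000000000000000000000)⟩]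

noncomputable def cx3 : Cert := ⟨Px3, (nat_lit 0), Xx3_0,
  [],
  [(nat_lit 0),
  (nat_lit 0),
  (nat_lit 0),
  (nat_lit 0x400000000000000000020000000000000000000),
  (nat_lit 0x400000000000004000000000000000000000000)],
  (BT.node (nat_lit 7) (BT.node (nat_lit 3) (BT.node (nat_lit 1) (BT.leaf (nat_lit 55)) (BT.node (nat_lit 2) (BT.leaf (nat_lit 159418)) (BT.leaf (nat_lit 4376)))) (BT.node (nat_lit 5) (BT.node (nat_lit 4) (BT.leaf (nat_lit 361119)) (BT.leaf (nat_lit 0))) (BT.node (nat_lit 6) (BT.leaf (nat_lit 839)) (BT.leaf (nat_lit 6))))) (BT.node (nat_lit 11) (BT.node (nat_lit 9) (BT.node (nat_lit 8) (BT.leaf (nat_lit 0)) (BT.leaf (nat_lit 1069443))) (BT.node (nat_lit 10) (BT.leaf (nat_lit 729)) (BT.leaf (nat_lit 18)))) (BT.node (nat_lit 13) (BT.node (nat_lit 12) (BT.leaf (nat_lit 41311)) (BT.leaf (nat_lit 7047))) (BT.node (nat_lit 14) (BT.leaf (nat_lit 243)) (BT.leaf (nat_lit 2))))))⟩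

theorem okx3 : cx3.OK := Cert.ok_of_check (by decide) (by decide +kernel)


noncomputable def Lx3 : List Lvl := [⟨(nat_lit 0), [[(nat_lit 1), (nat_lit 9)],
  [(nat_lit 1), (nat_lit 9)],
  [(nat_lit 3), (nat_lit 9)],
  [(nat_lit 3), (nat_lit 9)],
  [(nat_lit 7)],
  [(nat_lit 7)],
  [(nat_lit 9)],
  [(nat_lit 9)]], (nat_lit 1)⟩,
  ⟨(nat_lit 2), [[(nat_lit 5), (nat_lit 7), (nat_lit 7)],
  [(nat_lit 5), (nat_lit 7), (nat_lit 7)]], (nat_lit 1)⟩]


noncomputable def gx3 : List (List Nat) := [[(nat_lit 11)],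
  [(nat_lit 13)],
  [(nat_lit 15)]]

theorem hx3_0 : allFrom (relRow (sameW Nx3 165 8) 0 Px3) 0 5 = true := by decide +kernel

theorem hx3 : ∀ j < 5, relRow (sameW Nx3 165 8) 0 Px3 j = true := by
  have h : ∀ j < 0, relRow (sameW Nx3 165 8) 0 Px3 j = true := by simp
  have h := forall_lt_add h (allFrom_iff.1 hx3_0)
  exact h

theorem px3 : lall (prAt (sameW Nx3 165 8) 0 gx3) Px3.prs = true := by decide +kernel

theorem lx3 : lowOK Nx3 165 0 Px3 Lx3 = true := by decide +kernel

theorem pbdx3 (mdl : Mdl D (lapp U0 U1) f H bs) (card : Nat.card H = 13685760) : PBd H 3 1 :=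
  have h := (mdl.new (k := 8) (l := 8) (by decide) wx3 (by decide +kernel) (by decide +kernel) qx3)
  h.pbd (h.sameW (k := 8) (by decide)) okx3 (gs := gx3) hx3 px3 lx3 card (by decide) rfl rfl

theorem mult (mdl : Mdl D (lapp U0 U1) f H bs) (card : Nat.card H = 13685760) : Nat.card (Mult H) ≤ 1 :=
  card_mult_le (b := 11) (k := 10) card [(2, 1), (3, 1)] (by decide +kernel) (by
    simp only [List.mem_cons, List.not_mem_nil, or_false, forall_eq_or_imp, forall_eq]
    exact ⟨⟨by decide, pbdx2 mdl card⟩, ⟨by decide, pbdx3 mdl card⟩⟩)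

theorem schur_of {K : Type*} [Group K] (h : HasReps K 165 U0 2) (hc : Nat.card K = 13685760) :
    HasCyclicSchurMultiplier K 1 :=
  schur_of_reps chU h hc (by decide) fun mdl card => trivial_of_mult_le (mult mdl card)

end CF.BN.U52
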