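import Cfsg.Agent.Schur.Cl
import Cfsg.Agent.BN.U53D

/-! The Schur multiplier of U53. -/

set_option autoImplicit false
set_option maxRecDepth 1000000
set_option maxHeartbeats 0
set_option Elab.async false

namespace CF.BN.U53

open CF.Comp CF.Schur CF.Schur.Pc Cfsg

theorem linU_a : linAll (tabQ 3 2 0) 2440 5 UV UA U0 UCs 2 = true := by decide +kernel
theorem linU : LinOK (tabQ 3 2 0) 2440 5 2 UV UA U0 :=
  ⟨⟨Uσ, by decide +kernel⟩, by decide +kernel, by decide +kernel, rfl,
    UCs, by decide +kernel, rfl, linAll_iff.1 linU_a⟩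
theorem chU : ChainGe U0 U1 2440 12 2 UW UC 258190571520 :=
  ⟨rfl, by decide, by decide, slp_of_slpOK (by decide +kernel), by decide +kernel, by decide +kernel,
    by decide +kernel⟩
theorem memU : allFrom (suAt (tabQ 3 2 0) 5 3 UA UD) 0 2 = true := by decide +kernel

variable {G Ω : Type*} [Group G] [MulAction G Ω] {D : CF.Comp.Dom Ω 2440} {f : ℕ → G} {H : Subgroup G} {bs : List ℕ}
  [Finite H]

noncomputable def Wx2 : List (List Nat) := [[(nat_lit 5), (nat_lit 4), (nat_lit 5), (nat_lit 1), (nat_lit 16), (nat_lit 9), (nat_lit 5), (nat_lit 5), (nat_lit 12), (nat_lit 17), (nat_lit 9), (nat_lit 9), (nat_lit 16), (nat_lit 17)],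
  [(nat_lit 1), (nat_lit 10), (nat_lit 3), (nat_lit 1), (nat_lit 1), (nat_lit 8), (nat_lit 8), (nat_lit 6), (nat_lit 12), (nat_lit 10), (nat_lit 17), (nat_lit 9), (nat_lit 15), (nat_lit 17), (nat_lit 17)],
  [(nat_lit 6), (nat_lit 6), (nat_lit 2), (nat_lit 13), (nat_lit 7), (nat_lit 18), (nat_lit 5), (nat_lit 12), (nat_lit 17), (nat_lit 17), (nat_lit 9), (nat_lit 13), (nat_lit 18)],
  [(nat_lit 9), (nat_lit 3), (nat_lit 6), (nat_lit 3), (nat_lit 5), (nat_lit 16), (nat_lit 13), (nat_lit 10), (nat_lit 15), (nat_lit 13), (nat_lit 13)],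
  [(nat_lit 6), (nat_lit 4), (nat_lit 1), (nat_lit 1), (nat_lit 12), (nat_lit 9), (nat_lit 7), (nat_lit 5), (nat_lit 10), (nat_lit 11), (nat_lit 11), (nat_lit 10), (nat_lit 14), (nat_lit 14), (nat_lit 14)],
  [(nat_lit 3), (nat_lit 16), (nat_lit 6), (nat_lit 3), (nat_lit 15), (nat_lit 12), (nat_lit 10), (nat_lit 5), (nat_lit 18), (nat_lit 14), (nat_lit 9), (nat_lit 9), (nat_lit 16), (nat_lit 16), (nat_lit 14), (nat_lit 18)],
  [(nat_lit 4), (nat_lit 11), (nat_lit 4), (nat_lit 1), (nat_lit 11), (nat_lit 6), (nat_lit 7), (nat_lit 11), (nat_lit 16), (nat_lit 12), (nat_lit 15), (nat_lit 15)],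
  [(nat_lit 16), (nat_lit 4), (nat_lit 4), (nat_lit 7), (nat_lit 7), (nat_lit 12), (nat_lit 5), (nat_lit 11), (nat_lit 15), (nat_lit 11), (nat_lit 13), (nat_lit 15), (nat_lit 15), (nat_lit 17)],
  [(nat_lit 4), (nat_lit 2), (nat_lit 3), (nat_lit 1), (nat_lit 6), (nat_lit 9), (nat_lit 5), (nat_lit 11), (nat_lit 10), (nat_lit 10), (nat_lit 16), (nat_lit 14), (nat_lit 18)],
  [(nat_lit 5), (nat_lit 13), (nat_lit 4), (nat_lit 2), (nat_lit 11), (nat_lit 9), (nat_lit 5), (nat_lit 9), (nat_lit 12), (nat_lit 9), (nat_lit 15), (nat_lit 13), (nat_lit 15)],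
  [(nat_lit 8), (nat_lit 17), (nat_lit 8), (nat_lit 1), (nat_lit 1), (nat_lit 12), (nat_lit 12), (nat_lit 5), (nat_lit 16), (nat_lit 9), (nat_lit 9), (nat_lit 14), (nat_lit 16), (nat_lit 14), (nat_lit 18)],
  [(nat_lit 1), (nat_lit 17), (nat_lit 10), (nat_lit 2), (nat_lit 6), (nat_lit 14), (nat_lit 12), (nat_lit 8), (nat_lit 14), (nat_lit 10), (nat_lit 10), (nat_lit 14), (nat_lit 16), (nat_lit 14), (nat_lit 18)],
  [(nat_lit 6), (nat_lit 6), (nat_lit 8), (nat_lit 1), (nat_lit 9), (nat_lit 18), (nat_lit 12), (nat_lit 5), (nat_lit 13), (nat_lit 13), (nat_lit 11), (nat_lit 14), (nat_lit 16), (nat_lit 14), (nat_lit 17), (nat_lit 17)],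
  [(nat_lit 18), (nat_lit 3), (nat_lit 2), (nat_lit 15), (nat_lit 14), (nat_lit 12), (nat_lit 6), (nat_lit 13), (nat_lit 10), (nat_lit 10), (nat_lit 14), (nat_lit 16), (nat_lit 14), (nat_lit 17)]]

theorem qx2_0 : allFrom (preRow (lapp U0 U1) Nx2 Wx2 2440 12) 0 14 = true := by decide +kernel

theorem qx2 : ∀ j < 14, preRow (lapp U0 U1) Nx2 Wx2 2440 12 j = true := by
  have h : ∀ j < 0, preRow (lapp U0 U1) Nx2 Wx2 2440 12 j = true := by simp
  have h := forall_lt_add h (allFrom_iff.1 qx2_0)
  exact h

theorem wx2 : wfAll Nx2 2440 = true := by decide +kernel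

noncomputable def Px2 : Dat := ⟨(nat_lit 2), (nat_lit 11), (nat_lit 8), (nat_lit 11), (nat_lit 77),
  (BT.node (nat_lit 33) (BT.node (nat_lit 16) (BT.node (nat_lit 8) (BT.node (nat_lit 4) (BT.node (nat_lit 2) (BT.node (nat_lit 1) (BT.leaf []) (BT.leaf [(nat_lit 1), (nat_lit 5)])) (BT.node (nat_lit 3) (BT.leaf []) (BT.leaf [(nat_lit 2), (nat_lit 6), (nat_lit 9)]))) (BT.node (nat_lit 6) (BT.node (nat_lit 5) (BT.leaf [(nat_lit 2), (nat_lit 3)]) (BT.leaf [(nat_lit 4)])) (BT.node (nat_lit 7) (BT.leaf [(nat_lit 3), (nat_lit 6)]) (BT.leaf [(nat_lit 3), (nat_lit 7)])))) (BT.node (nat_lit 12) (BT.node (nat_lit 10) (BT.node (nat_lit 9) (BT.leaf [(nat_lit 3)]) (BT.leaf [(nat_lit 7)])) (BT.node (nat_lit 11) (BT.leaf [(nat_lit 4), (nat_lit 9)]) (BT.leaf [(nat_lit 4), (nat_lit 7)]))) (BT.node (nat_lit 14) (BT.node (nat_lit 13) (BT.leaf [(nat_lit 4)]) (BT.leaf [(nat_lit 4)])) (BT.node (nat_lit 15) (BT.leaf []) (BT.leaf [(nat_lit 5)]))))) (BT.node (nat_lit 24) (BT.node (nat_lit 20) (BT.node (nat_lit 18) (BT.node (nat_lit 17) (BT.leaf [(nat_lit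 5)]) (BT.leaf [(nat_lit 5), (nat_lit 6)])) (BT.node (nat_lit 19) (BT.leaf [(nat_lit 5), (nat_lit 8)]) (BT.leaf [(nat_lit 5), (nat_lit 9)]))) (BT.node (nat_lit 22) (BT.node (nat_lit 21) (BT.leaf []) (BT.leaf [(nat_lit 6), (nat_lit 9)])) (BT.node (nat_lit 23) (BT.leaf [(nat_lit 6), (nat_lit 8)]) (BT.leaf [(nat_lit 6)])))) (BT.node (nat_lit 28) (BT.node (nat_lit 26) (BT.node (nat_lit 25) (BT.leaf [(nat_lit 6)]) (BT.leaf [(nat_lit 6)])) (BT.node (nat_lit 27) (BT.leaf [(nat_lit 6), (nat_lit 9)]) (BT.leaf [(nat_lit 9)]))) (BT.node (nat_lit 30) (BT.node (nat_lit 29) (BT.leaf [(nat_lit 7), (nat_lit 9)]) (BT.leaf [(nat_lit 7)])) (BT.node (nat_lit 31) (BT.leaf [(nat_lit 7)]) (BT.node (nat_lit 32) (BT.leaf [(nat_lit 7)]) (BT.leaf [(nat_lit 7)]))))))) (BT.node (nat_lit 49) (BT.node (nat_lit 41) (BT.node (nat_lit 37) (BT.node (nat_lit 35) (BT.node (nat_lit 34) (BT.leaf [(nat_lit 7), (nat_lit 10)]) (BT.leaf [(nat_lit 7)])) (BT.node (nat_lit 36) (BT.leaf []) (BT.leaf [(nat_lit 8), (nat_lit 9)]))) (BT.node (nat_lit 39) (BT.node (nat_lit 38) (BT.leaf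 [(nat_lit 8), (nat_lit 10)]) (BT.leaf [(nat_lit 8)])) (BT.node (nat_lit 40) (BT.leaf [(nat_lit 8)]) (BT.leaf [(nat_lit 8)])))) (BT.node (nat_lit 45) (BT.node (nat_lit 43) (BT.node (nat_lit 42) (BT.leaf [(nat_lit 8), (nat_lit 10)]) (BT.leaf [(nat_lit 8)])) (BT.node (nat_lit 44) (BT.leaf [(nat_lit 8)]) (BT.leaf [(nat_lit 10)]))) (BT.node (nat_lit 47) (BT.node (nat_lit 46) (BT.leaf [(nat_lit 9)]) (BT.leaf [(nat_lit 9), (nat_lit 10)])) (BT.node (nat_lit 48) (BT.leaf [(nat_lit 9)]) (BT.leaf [(nat_lit 9)]))))) (BT.node (nat_lit 57) (BT.node (nat_lit 53) (BT.node (nat_lit 51) (BT.node (nat_lit 50) (BT.leaf [(nat_lit 9)]) (BT.leaf [(nat_lit 9)])) (BT.node (nat_lit 52) (BT.leaf [(nat_lit 9)]) (BT.leaf [(nat_lit 9)]))) (BT.node (nat_lit 55) (BT.node (nat_lit 54) (BT.leaf [(nat_lit 9)]) (BT.leaf [])) (BT.node (nat_lit 56) (BT.leaf [(nat_lit 10)]) (BT.leaf [(nat_lit 10)])))) (BT.node (nat_lit 61) (BT.node (nat_lit 59) (BT.node (nat_lit 58) (BT.leaf [(nat_lit 10)]) (BT.leaf [(nat_lit 10)])) (BT.node (nat_lit 60) (BT.leaf [(nat_lit 10)]) (BT.leaf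 [(nat_lit 10)]))) (BT.node (nat_lit 63) (BT.node (nat_lit 62) (BT.leaf [(nat_lit 10)]) (BT.leaf [(nat_lit 10)])) (BT.node (nat_lit 64) (BT.leaf [(nat_lit 10)]) (BT.node (nat_lit 65) (BT.leaf [(nat_lit 10)]) (BT.leaf [])))))))),
  [⟨(nat_lit 0), [(nat_lit 7)], [(nat_lit 4)]⟩,
  ⟨(nat_lit 1), [(nat_lit 0)], [(nat_lit 4), (nat_lit 9), (nat_lit 10)]⟩,
  ⟨(nat_lit 2), [(nat_lit 5)], [(nat_lit 1), (nat_lit 7), (nat_lit 8)]⟩,
  ⟨(nat_lit 1), [(nat_lit 6)], [(nat_lit 0), (nat_lit 4), (nat_lit 9), (nat_lit 10)]⟩,
  ⟨(nat_lit 1), [(nat_lit 9)], [(nat_lit 9)]⟩,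
  ⟨(nat_lit 2), [(nat_lit 6)], [(nat_lit 3), (nat_lit 7), (nat_lit 8), (nat_lit 10)]⟩,
  ⟨(nat_lit 2), [(nat_lit 9)], [(nat_lit 7), (nat_lit 10)]⟩,
  ⟨(nat_lit 1), [(nat_lit 5)], [(nat_lit 0), (nat_lit 4), (nat_lit 5), (nat_lit 10)]⟩,
  ⟨(nat_lit 1), [(nat_lit 4)], [(nat_lit 0), (nat_lit 6), (nat_lit 10)]⟩,
  ⟨(nat_lit 1), [(nat_lit 2), (nat_lit 3)], [(nat_lit 2), (nat_lit 3)]⟩,
  ⟨(nat_lit 2), [(nat_lit 4)], [(nat_lit 4), (nat_lit 9)]⟩]⟩

noncomputable def Xx2_0 : List Test := [⟨(nat_lit 1), [(nat_lit 0), (nat_lit 0)], [], (nat_lit 0x10000000000000000000000000000000000000000000000000000000000000100000000000000000000000000000000000000000100000000000000000000000000000000000000000000000000)⟩,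
  ⟨(nat_lit 0), [(nat_lit 2)], [(nat_lit 2), (nat_lit 2)], (nat_lit 0x10000000000000000000000000000000000000000000000000000000000000000000000000000000000000000000000000000000000010000000000000000000000000000000000000000000000)⟩,
  ⟨(nat_lit 0), [(nat_lit 3)], [(nat_lit 3), (nat_lit 3)], (nat_lit 0x10000000000000000000000000000000000000000000000000000000000000000000001000000000000000000000000000000000000000000000000000000000000000000000000000000000000)⟩,
  ⟨(nat_lit 0), [(nat_lit 6)], [(nat_lit 6), (nat_lit 6)], (nat_lit 0x10000000000000000000000000000010000000000000000000000000000000000000000000000000000000000000000000000000000000000000000000000000000000000000000000000000000)⟩,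
  ⟨(nat_lit 0), [(nat_lit 8)], [(nat_lit 8), (nat_lit 8)], (nat_lit 0x10000010000000000000000000000000000000000000000000000000000000000000000000000000000000000000000000000000000000000000000000000000000000000000000000000000000)⟩,
  ⟨(nat_lit 0), [(nat_lit 1)], [(nat_lit 0), (nat_lit 0)], (nat_lit 0x10000000000000000000000000000000000000000000000000000000000000000000000000000000000000000000100000000010000000000000000000000000000000000000000000000000000)⟩,
  ⟨(nat_lit 0), [(nat_lit 3)], [(nat_lit 1), (nat_lit 1)], (nat_lit 0x10000000000000000000000000000000000000000000000000000000000000100000000000100000000000000000000000000000000000000000000000000000000000000000000000000000000)⟩,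
  ⟨(nat_lit 0), [(nat_lit 4)], [(nat_lit 0), (nat_lit 0)], (nat_lit 0x10000000000000000000000010000000000000000010000000000000000000000000000000000000000000000000000000000000000000000000000000000000000000000000000000000000000)⟩,
  ⟨(nat_lit 0), [(nat_lit 5)], [(nat_lit 4), (nat_lit 4)], (nat_lit 0x10000000000000000000000010000000001000000000000000000000000000000000000000000000000000000000000000000000000000000000000000000000000000000000000000000000000)⟩,
  ⟨(nat_lit 0), [(nat_lit 6)], [(nat_lit 5), (nat_lit 5)], (nat_lit 0x10000000000000000000000010000000100000000000000000000000000000000000000000000000000000000000000000000000000000000000000000000000000000000000000000000000000)⟩,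
  ⟨(nat_lit 0), [(nat_lit 7)], [(nat_lit 5), (nat_lit 5)], (nat_lit 0x10100000000010000000000000000000000000000000000000000000000000000000000000000000000000000000000000000000000000000000000000000000000000000000000000000000000)⟩,
  ⟨(nat_lit 0), [(nat_lit 8)], [(nat_lit 1), (nat_lit 1)], (nat_lit 0x10100000000000000000100000000000000000000000000000000000000000000000000000000000000000000000000000000000000000000000000000000000000000000000000000000000000)⟩,
  ⟨(nat_lit 2), [(nat_lit 1), (nat_lit 1)], [], (nat_lit 0x10101000000000100000000010000000001000000000000000000000000000000000000000000000000000000000000000000000100000000000000000000000000010000000000000000000000)⟩,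
  ⟨(nat_lit 0), [(nat_lit 3)], [(nat_lit 2), (nat_lit 2)], (nat_lit 0x10000000000000000000000000000000000000000000000000000000000000000000000000000000000000000000000000000000001000000000000000000000000000000000000000000000000)⟩,
  ⟨(nat_lit 0), [(nat_lit 4)], [(nat_lit 3), (nat_lit 3)], (nat_lit 0x10000000000000000000000000000000000000000000000000000000000000000000100000000000000000000000000000000000000000000000000000000000000000000000000000000000000)⟩,
  ⟨(nat_lit 0), [(nat_lit 6)], [(nat_lit 2), (nat_lit 2)], (nat_lit 0x10000000000000000000000000000000000000000000000000000000000000000000000000000000001000000000000000000000000000000000000000000000000000000000000000000000000)⟩,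
  ⟨(nat_lit 0), [(nat_lit 6)], [(nat_lit 3), (nat_lit 3)], (nat_lit 0x10000000000000000000000000000000000000000000000000000000000000001000000000000000000000000000000000000000000000000000000000000000000000000000000000000000000)⟩,
  ⟨(nat_lit 0), [(nat_lit 7)], [(nat_lit 6), (nat_lit 6)], (nat_lit 0x10000000000000000000000000001000000000000000000000000000000000000000000000000000000000000000000000000000000000000000000000000000000000000000000000000000000)⟩,
  ⟨(nat_lit 0), [(nat_lit 8)], [(nat_lit 2), (nat_lit 2)], (nat_lit 0x10000000000000000000000000000000000000000000000000001000000000000000000000000000000000000000000000000000000000000000000000000000000000000000000000000000000)⟩,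
  ⟨(nat_lit 0), [(nat_lit 8)], [(nat_lit 3), (nat_lit 3)], (nat_lit 0x10000000000000000000000000000000000000000000001000000000000000000000000000000000000000000000000000000000000000000000000000000000000000000000000000000000000)⟩,
  ⟨(nat_lit 0), [(nat_lit 8)], [(nat_lit 6), (nat_lit 6)], (nat_lit 0x10000000000000000000000000100000000000000000000000000000000000000000000000000000000000000000000000000000000000000000000000000000000000000000000000000000000)⟩,
  ⟨(nat_lit 0), [(nat_lit 9)], [(nat_lit 2), (nat_lit 2)], (nat_lit 0x10000000000000000000000000000000001000000000000000000000000000000000000000000000000000000000000000000000000000000000000000000000000000000000000000000000000)⟩,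
  ⟨(nat_lit 0), [(nat_lit 9)], [(nat_lit 8), (nat_lit 8)], (nat_lit 0x10001000000000000000000000000000000000000000000000000000000000000000000000000000000000000000000000000000000000000000000000000000000000000000000000000000000)⟩,
  ⟨(nat_lit 0), [(nat_lit 10)], [(nat_lit 2), (nat_lit 2)], (nat_lit 0x10000000000000100000000000000000000000000000000000000000000000000000000000000000000000000000000000000000000000000000000000000000000000000000000000000000000)⟩,
  ⟨(nat_lit 0), [(nat_lit 10)], [(nat_lit 3), (nat_lit 3)], (nat_lit 0x10000000100000000000000000000000000000000000000000000000000000000000000000000000000000000000000000000000000000000000000000000000000000000000000000000000000)⟩,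
  ⟨(nat_lit 0), [(nat_lit 2)], [(nat_lit 1), (nat_lit 1)], (nat_lit 0x10000000000000000000000000000000000000000000000000000000000000100000000000000000000000000000000000000000000000000010001000000000000000000000000000000000000)⟩,
  ⟨(nat_lit 0), [(nat_lit 3)], [(nat_lit 0), (nat_lit 0)], (nat_lit 0x10000000000000000000000010000000000000000000000000000000000000000000000000000010000000000010000000000000000000000000000000000000000000000000000000000000000)⟩,
  ⟨(nat_lit 0), [(nat_lit 3)], [(nat_lit 3), (nat_lit 2)], (nat_lit 0x10000000000000000000000000000000000000000000000000000000000000000000000010000000000000000000000000000000000000000000000000000000000000000000000000000000000)⟩,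
  ⟨(nat_lit 0), [(nat_lit 6)], [(nat_lit 1), (nat_lit 1)], (nat_lit 0x10100000000000000000000000000000000000000000100000000000001000000000000000000000000000000000000000000000000000000000000000000000000000000000000000000000000)⟩,
  ⟨(nat_lit 0), [(nat_lit 6)], [(nat_lit 6), (nat_lit 2)], (nat_lit 0x10000000000000000000000000000000000000100000000000000000000000000000000000000000000000000000000000000000000000000000000000000000000000000000000000000000000)⟩,
  ⟨(nat_lit 0), [(nat_lit 6)], [(nat_lit 6), (nat_lit 3)], (nat_lit 0x10000000000000000000000000000000000010000000000000000000000000000000000000000000000000000000000000000000000000000000000000000000000000000000000000000000000)⟩,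
  ⟨(nat_lit 0), [(nat_lit 8)], [(nat_lit 8), (nat_lit 2)], (nat_lit 0x10000000000000000010000000000000000000000000000000000000000000000000000000000000000000000000000000000000000000000000000000000000000000000000000000000000000)⟩,
  ⟨(nat_lit 0), [(nat_lit 8)], [(nat_lit 8), (nat_lit 3)], (nat_lit 0x10000000000000001000000000000000000000000000000000000000000000000000000000000000000000000000000000000000000000000000000000000000000000000000000000000000000)⟩,
  ⟨(nat_lit 0), [(nat_lit 8)], [(nat_lit 8), (nat_lit 6)], (nat_lit 0x10000000001000000000000000000000000000000000000000000000000000000000000000000000000000000000000000000000000000000000000000000000000000000000000000000000000)⟩,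
  ⟨(nat_lit 0), [(nat_lit 1)], [(nat_lit 1), (nat_lit 0)], (nat_lit 0x10000000000000000000000000000000000000000000000000000000000000000000000000000000000000000000100000001000000000000000000000000000000000000000000000000000000)⟩,
  ⟨(nat_lit 0), [(nat_lit 4)], [(nat_lit 4), (nat_lit 1)], (nat_lit 0x10000000000000000000000000000000000000000000000000000000000000100000100000000000000000000000000000000000000000000000000000000000000000000000000000000000000)⟩,
  ⟨(nat_lit 0), [(nat_lit 7)], [(nat_lit 7), (nat_lit 5)], (nat_lit 0x10100000100000000000000000000000000000000000000000000000000000000000000000000000000000000000000000000000000000000000000000000000000000000000000000000000000)⟩,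
  ⟨(nat_lit 3), [(nat_lit 2), (nat_lit 2)], [], (nat_lit 0x10100010100000000000000000000000000000000000101000000000001000100000000000100000000000000000100000000000000000000000000000000000100000000000000000000000000)⟩,
  ⟨(nat_lit 0), [(nat_lit 5)], [(nat_lit 5), (nat_lit 2)], (nat_lit 0x10000000000000000000000010000010000000000000000000000000000000000000000000000010100000000000000000000000000000000000000000000000000000000000000000000000000)⟩,
  ⟨(nat_lit 0), [(nat_lit 5)], [(nat_lit 2), (nat_lit 2)], (nat_lit 0x10000000000000000000000000000000000000000000000000000000000000000000000000000010000000100000001000000000000000000000000000000000000000000000000000000000000)⟩,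
  ⟨(nat_lit 0), [(nat_lit 5)], [(nat_lit 5), (nat_lit 3)], (nat_lit 0x10100010000000000000000000000000000000000000100000100000000000000000000000000000000000000000000000000000000000000000000000000000000000000000000000000000000)⟩,
  ⟨(nat_lit 2), [(nat_lit 3), (nat_lit 3)], [(nat_lit 4)], (nat_lit 0x10101000000000100000001010000000000000000010000000000000000000000000000000000010000000000000000000000000100000001000000000000000000010000000000000100000000)⟩,
  ⟨(nat_lit 0), [(nat_lit 5)], [(nat_lit 3), (nat_lit 3)], (nat_lit 0x10100000000000000000000000000000000000000000100000000010000000000010000000000000000000000000000000000000000000000000000000000000000000000000000000000000000)⟩,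
  ⟨(nat_lit 0), [(nat_lit 8)], [(nat_lit 8), (nat_lit 0)], (nat_lit 0x10000000000000000000001010100000000000000000000000000000000000000000000000000000000000000000000000000000000000000000000000000000000000000000000000000000000)⟩,
  ⟨(nat_lit 3), [(nat_lit 5), (nat_lit 5)], [(nat_lit 6)], (nat_lit 0x10100010100000001000000000000000000000000000101000000010000000100000001000000010000000000000000000000000000000000010000000000000000000000000001000000000000)⟩,
  ⟨(nat_lit 2), [(nat_lit 7), (nat_lit 7)], [], (nat_lit 0x10100000000010100000001010000000101000000000000000000000000000000000000000000000000000000000001000000010100000001000000000000000000010000000000000000000000)⟩,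
  ⟨(nat_lit 0), [(nat_lit 2)], [(nat_lit 2), (nat_lit 1)], (nat_lit 0x10000000000000000000000000000000000000000000000000000000000000000000100000000000000000000000000000000000000000100010100000000000000000000000000000000000000)⟩,
  ⟨(nat_lit 0), [(nat_lit 3)], [(nat_lit 3), (nat_lit 0)], (nat_lit 0x10000000000000000000000000001000000000000000000000000000000000000000000000001010000010000000000000000000000000000000000000000000000000000000000000000000000)⟩,
  ⟨(nat_lit 0), [(nat_lit 6)], [(nat_lit 6), (nat_lit 1)], (nat_lit 0x10001000000000000000000000000000000000001000100010000000000000000000000000000000000000000000000000000000000000000000000000000000000000000000000000000000000)⟩,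
  ⟨(nat_lit 0), [(nat_lit 5)], [(nat_lit 3), (nat_lit 2)], (nat_lit 0x10000000000000000000000000000000000000000000000010000000100000000000000000000000000010000000000000000000000000000000000000000000000000000000000000000000000)⟩,
  ⟨(nat_lit 0), [(nat_lit 2)], [(nat_lit 2), (nat_lit 0)], (nat_lit 0x10000000000000000000000010000010000000100000000000000000000000000000000000000010000000100000000000000000000000001000000000000000000000000000000000000000000)⟩,
  ⟨(nat_lit 0), [(nat_lit 6)], [(nat_lit 2), (nat_lit 1)], (nat_lit 0x10000000000000000000000000000000000000000000000000000010100000000000000000000000000010000000000000000000000000000000000000000000000000000000000000000000000)⟩,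
  ⟨(nat_lit 0), [(nat_lit 6)], [(nat_lit 3), (nat_lit 1)], (nat_lit 0x10000000000000000000000000000000000000000000001000000010000000001000000000000000000000000000000000000000000000000000000000000000000000000000000000000000000)⟩,
  ⟨(nat_lit 0), [(nat_lit 5)], [(nat_lit 2), (nat_lit 1)], (nat_lit 0x10000000000000000000000000000000000000000000000010000000000000000000000000000000000010001000000010000000000000000000000000000000000000000000000000000000000)⟩,
  ⟨(nat_lit 0), [(nat_lit 5)], [(nat_lit 3), (nat_lit 0)], (nat_lit 0x10000000000000000000000010100000000000000000000010000000000010000000000000000000100000000000000000000000000000000000000000000000000000000000000000000000000)⟩,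
  ⟨(nat_lit 2), [(nat_lit 8), (nat_lit 1)], [(nat_lit 1), (nat_lit 8), (nat_lit 4)], (nat_lit 0x10001000001000100000001010000000000000000010000000000000000000000000000000000000001000000000000000000000000000000000000000000000000000000000000000100000000)⟩,
  ⟨(nat_lit 0), [(nat_lit 3)], [(nat_lit 2), (nat_lit 0)], (nat_lit 0x10000000000000000000000000000010000010000000000000000000000000000000000000000000000010100000000000000000000000000000000000000000000000000000000000000000000)⟩,
  ⟨(nat_lit 2), [(nat_lit 9), (nat_lit 1)], [(nat_lit 1), (nat_lit 9)], (nat_lit 0x10000000000000001010000010000010000000100000000000000000000000000000000000000010000010000000000000000000001010000000000010000010000000000000000000000000000)⟩,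
  ⟨(nat_lit 3), [(nat_lit 2), (nat_lit 10)], [(nat_lit 10), (nat_lit 2), (nat_lit 6)], (nat_lit 0x10100010000000000000000000100000000000001000001000001000000000100000100000000000000000000000001000000000000000100000000000000000000000000000001000000000000)⟩,
  ⟨(nat_lit 0), [(nat_lit 2)], [(nat_lit 1), (nat_lit 0)], (nat_lit 0x10101000000010000000000000100000100000001000000010100000000000000000000000000010100000001000000010100000000000000000000010000000000000000000000000000000000)⟩]

noncomputable def cx2 : Cert := ⟨Px2, (nat_lit 0), Xx2_0,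
  [],
  [(nat_lit 0),
  (nat_lit 0),
  (nat_lit 0),
  (nat_lit 0x10000000000000000000000000000000000000000000000000000000000000000000000000000000000000000000000000000000000000000000000000001000000000000000000000000000000),
  (nat_lit 0x10000000000000000000000000000000000000000000000000000000000000000000000000000000000000000000000000000000000000000000000000100000000000000000000000000000000),
  (nat_lit 0x10000000000000000000000000000000000000000000000000000000000000000000000000000000000000000000000000000000000000000000000000000000001000000000000000000000000),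
  (nat_lit 0x10000000000000000000000000000000000000000000000000000000000000000000000000000000000000000000000000000000000000000000000010000000000000000000000000000000000),
  (nat_lit 0x10000000000000000000000000000000000000000000000000000000000000000000000000000000000000000000000000000000000000000000001000000000000000000000000000000000000),
  (nat_lit 0x10000000000000000000000000000000000000000000000000000000000000000000000000000000000000000000000010000000000000000000000000000000000000000000000000000000000),
  (nat_lit 0x10000000000000000000000000000000000000000000000000000000000000000000000000000000000000000000000000000000000000000000000010000010000000000000000000000000000),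
  (nat_lit 0x10000000000000000000000000000000000000000000000000000000000000000010000000000000000000000000000000000000000000000000000000000000000000000000000000000000000)],
  (BT.node (nat_lit 33) (BT.node (nat_lit 16) (BT.node (nat_lit 8) (BT.node (nat_lit 4) (BT.node (nat_lit 2) (BT.node (nat_lit 1) (BT.leaf (nat_lit 0x1801c05101)) (BT.leaf (nat_lit 0))) (BT.node (nat_lit 3) (BT.leaf (nat_lit 0x428b030781778)) (BT.leaf (nat_lit 0)))) (BT.node (nat_lit 6) (BT.node (nat_lit 5) (BT.leaf (nat_lit 0)) (BT.leaf (nat_lit 0))) (BT.node (nat_lit 7) (BT.leaf (nat_lit 0)) (BT.leaf (nat_lit 0))))) (BT.node (nat_lit 12) (BT.node (nat_lit 10) (BT.node (nat_lit 9) (BT.leaf (nat_lit 0x48f528321b4900c)) (BT.leaf (nat_lit 0x802004000))) (BT.node (nat_lit 11) (BT.leaf (nat_lit 0x3040001c000200a)) (BT.leaf (nat_lit 0x48f128b23b4900c)))) (BT.node (nat_lit 14) (BT.node (nat_lit 13) (BT.leaf (nat_lit 2)) (BT.leaf (nat_lit 8192))) (BT.node (nat_lit 15) (BT.leaf (nat_lit 0x800004001)) (BT.leaf (nat_lit 0x4289021701708)))))) (BT.node (nat_lit 24) (BT.node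 (nat_lit 20) (BT.node (nat_lit 18) (BT.node (nat_lit 17) (BT.leaf (nat_lit 0x4289421701728)) (BT.leaf (nat_lit 0x9bf035261f99618))) (BT.node (nat_lit 19) (BT.leaf (nat_lit 0)) (BT.leaf (nat_lit 0x3000081e0202102)))) (BT.node (nat_lit 22) (BT.node (nat_lit 21) (BT.leaf (nat_lit 0x4289021701728)) (BT.leaf (nat_lit 0x3840203c4e0b00a))) (BT.node (nat_lit 23) (BT.leaf (nat_lit 0x1be020260e99000)) (BT.leaf (nat_lit 0x84020220e09008))))) (BT.node (nat_lit 28) (BT.node (nat_lit 26) (BT.node (nat_lit 25) (BT.leaf (nat_lit 0x184020260e09000)) (BT.leaf (nat_lit 32768))) (BT.node (nat_lit 27) (BT.leaf (nat_lit 0x3840243c0e0b002)) (BT.leaf (nat_lit 0x3840203c0c0b10a)))) (BT.node (nat_lit 30) (BT.node (nat_lit 29) (BT.leaf (nat_lit 0x2008001a022210a)) (BT.leaf (nat_lit 0x800004040))) (BT.node (nat_lit 31) (BT.leaf (nat_lit 134217728)) (BT.node (nat_lit 32) (BT.leaf (nat_lit 4)) (BT.leaf (nat_lit 16384)))))))) (BT.node (nat_lit 49) (BT.node (nat_lit 41) (BT.node (nat_lit 37) (BT.node (nat_lit 35) (BT.node (nat_lit 34) (BT.leaf (nat_lit 0)) (BT.leaf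 (nat_lit 65536))) (BT.node (nat_lit 36) (BT.leaf (nat_lit 0x800004000)) (BT.leaf (nat_lit 0x3de0243c0d9b102)))) (BT.node (nat_lit 39) (BT.node (nat_lit 38) (BT.leaf (nat_lit 0x10040010090000)) (BT.leaf (nat_lit 0x19c020260e99000))) (BT.node (nat_lit 40) (BT.leaf (nat_lit 0x10000000090000)) (BT.leaf (nat_lit 262144))))) (BT.node (nat_lit 45) (BT.node (nat_lit 43) (BT.node (nat_lit 42) (BT.leaf (nat_lit 0x10050000090010)) (BT.leaf (nat_lit 0x1a000000090000))) (BT.node (nat_lit 44) (BT.leaf (nat_lit 524288)) (BT.leaf (nat_lit 0x10041001090000)))) (BT.node (nat_lit 47) (BT.node (nat_lit 46) (BT.leaf (nat_lit 2097536)) (BT.leaf (nat_lit 0xb041001400000))) (BT.node (nat_lit 48) (BT.leaf (nat_lit 536870912)) (BT.leaf (nat_lit 1073741824)))))) (BT.node (nat_lit 57) (BT.node (nat_lit 53) (BT.node (nat_lit 51) (BT.node (nat_lit 50) (BT.leaf (nat_lit 2097152)) (BT.leaf (nat_lit 2097920))) (BT.node (nat_lit 52) (BT.leaf (nat_lit 8)) (BT.leaf (nat_lit 131072)))) (BT.node (nat_lit 55) (BT.node (nat_lit 54) (BT.leaf (nat_lit 1048576)) (BT.leaf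 (nat_lit 2097408))) (BT.node (nat_lit 56) (BT.leaf (nat_lit 0x80000300100)) (BT.leaf (nat_lit 0x1001000800))))) (BT.node (nat_lit 61) (BT.node (nat_lit 59) (BT.node (nat_lit 58) (BT.leaf (nat_lit 2147483648)) (BT.leaf (nat_lit 0x100000000))) (BT.node (nat_lit 60) (BT.leaf (nat_lit 8388608)) (BT.leaf (nat_lit 0x1001000400)))) (BT.node (nat_lit 63) (BT.node (nat_lit 62) (BT.leaf (nat_lit 0x200000000)) (BT.leaf (nat_lit 16777216))) (BT.node (nat_lit 64) (BT.leaf (nat_lit 16)) (BT.node (nat_lit 65) (BT.leaf (nat_lit 4194304)) (BT.leaf (nat_lit 0x1001000000)))))))))⟩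

theorem okx2 : cx2.OK := Cert.ok_of_check (by decide) (by decide +kernel)


noncomputable def Lx2 : List Lvl := [⟨(nat_lit 0), [[(nat_lit 1), (nat_lit 21)],
  [(nat_lit 3), (nat_lit 15), (nat_lit 17), (nat_lit 21)],
  [(nat_lit 7)],
  [(nat_lit 11)],
  [(nat_lit 13)],
  [(nat_lit 15)],
  [(nat_lit 17)],
  [(nat_lit 19)],
  [(nat_lit 21)]], (nat_lit 1)⟩,
  ⟨(nat_lit 1), [[(nat_lit 5), (nat_lit 13), (nat_lit 15), (nat_lit 17), (nat_lit 19), (nat_lit 21)],
  [(nat_lit 9), (nat_lit 19), (nat_lit 21)]], (nat_lit 1)⟩]


noncomputable def gx2 : List (List Nat) := [[(nat_lit 23)],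
  [(nat_lit 25)],
  [(nat_lit 27)]]

theorem hx2_0 : allFrom (relRow (sameW Nx2 2440 12) 0 Px2) 0 11 = true := by decide +kernel

theorem hx2 : ∀ j < 11, relRow (sameW Nx2 2440 12) 0 Px2 j = true := by
  have h : ∀ j < 0, relRow (sameW Nx2 2440 12) 0 Px2 j = true := by simp
  have h := forall_lt_add h (allFrom_iff.1 hx2_0)
  exact h

theorem px2 : lall (prAt (sameW Nx2 2440 12) 0 gx2) Px2.prs = true := by decide +kernel

theorem lx2 : lowOK Nx2 2440 0 Px2 Lx2 = true := by decide +kernel

theorem pbdx2 (mdl : Mdl D (lapp U0 U1) f H bs) (card : Nat.card H = 258190571520) : PBd H 2 1 :=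
  have h := (mdl.new (k := 12) (l := 14) (by decide) wx2 (by decide +kernel) (by decide +kernel) qx2)
  h.pbd (h.sameW (k := 12) (by decide)) okx2 (gs := gx2) hx2 px2 lx2 card (by decide) rfl rfl

noncomputable def Wx3 : List (List Nat) := [[(nat_lit 5), (nat_lit 14), (nat_lit 4), (nat_lit 15), (nat_lit 15), (nat_lit 6), (nat_lit 6), (nat_lit 14), (nat_lit 9), (nat_lit 11), (nat_lit 14), (nat_lit 16), (nat_lit 14), (nat_lit 17), (nat_lit 17)],
  [(nat_lit 16), (nat_lit 7), (nat_lit 7), (nat_lit 1), (nat_lit 10), (nat_lit 7), (nat_lit 10), (nat_lit 5), (nat_lit 5), (nat_lit 12), (nat_lit 9), (nat_lit 14), (nat_lit 9), (nat_lit 15), (nat_lit 17), (nat_lit 17)],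
  [(nat_lit 2), (nat_lit 17), (nat_lit 3), (nat_lit 2), (nat_lit 10), (nat_lit 5), (nat_lit 17), (nat_lit 5), (nat_lit 16), (nat_lit 14), (nat_lit 10), (nat_lit 16), (nat_lit 16), (nat_lit 18)],
  [(nat_lit 15), (nat_lit 4), (nat_lit 8), (nat_lit 2), (nat_lit 6), (nat_lit 14), (nat_lit 8), (nat_lit 14), (nat_lit 11), (nat_lit 9), (nat_lit 16), (nat_lit 16), (nat_lit 14), (nat_lit 18)],
  [(nat_lit 1), (nat_lit 8), (nat_lit 6), (nat_lit 1), (nat_lit 10), (nat_lit 11), (nat_lit 13), (nat_lit 6), (nat_lit 10), (nat_lit 15), (nat_lit 11), (nat_lit 9), (nat_lit 15), (nat_lit 15), (nat_lit 17)],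
  [(nat_lit 16), (nat_lit 10), (nat_lit 1), (nat_lit 1), (nat_lit 11), (nat_lit 14), (nat_lit 5), (nat_lit 9), (nat_lit 15), (nat_lit 11), (nat_lit 9), (nat_lit 16), (nat_lit 16), (nat_lit 14)],
  [(nat_lit 15), (nat_lit 10), (nat_lit 4), (nat_lit 16), (nat_lit 11), (nat_lit 5), (nat_lit 5), (nat_lit 11), (nat_lit 14), (nat_lit 12), (nat_lit 10), (nat_lit 13), (nat_lit 13), (nat_lit 13), (nat_lit 17), (nat_lit 17)],
  [(nat_lit 14), (nat_lit 3), (nat_lit 1), (nat_lit 11), (nat_lit 6), (nat_lit 9), (nat_lit 7), (nat_lit 11), (nat_lit 11), (nat_lit 11), (nat_lit 15), (nat_lit 13), (nat_lit 15), (nat_lit 13), (nat_lit 17)],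
  [(nat_lit 17), (nat_lit 11), (nat_lit 1), (nat_lit 1), (nat_lit 16), (nat_lit 10), (nat_lit 5), (nat_lit 8), (nat_lit 12), (nat_lit 13), (nat_lit 9), (nat_lit 9), (nat_lit 13), (nat_lit 15), (nat_lit 18)],
  [(nat_lit 11), (nat_lit 3), (nat_lit 7), (nat_lit 3), (nat_lit 14), (nat_lit 8), (nat_lit 11), (nat_lit 6), (nat_lit 9), (nat_lit 9), (nat_lit 9), (nat_lit 9), (nat_lit 13), (nat_lit 13)],
  [(nat_lit 7), (nat_lit 14), (nat_lit 11), (nat_lit 3), (nat_lit 15), (nat_lit 12), (nat_lit 9), (nat_lit 5), (nat_lit 9), (nat_lit 12), (nat_lit 18), (nat_lit 9), (nat_lit 13), (nat_lit 15), (nat_lit 13), (nat_lit 18)],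
  [(nat_lit 12), (nat_lit 16), (nat_lit 9), (nat_lit 3), (nat_lit 17), (nat_lit 7), (nat_lit 13), (nat_lit 7), (nat_lit 5), (nat_lit 10), (nat_lit 16), (nat_lit 12), (nat_lit 9), (nat_lit 15), (nat_lit 17)]]

theorem qx3_0 : allFrom (preRow (lapp U0 U1) Nx3 Wx3 2440 12) 0 12 = true := by decide +kernel

theorem qx3 : ∀ j < 12, preRow (lapp U0 U1) Nx3 Wx3 2440 12 j = true := by
  have h : ∀ j < 0, preRow (lapp U0 U1) Nx3 Wx3 2440 12 j = true := by simp
  have h := forall_lt_add h (allFrom_iff.1 qx3_0)
  exact h

theorem wx3 : wfAll Nx3 2440 = true := by decide +kernel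

noncomputable def Px3 : Dat := ⟨(nat_lit 3), (nat_lit 10), (nat_lit 9), (nat_lit 12), (nat_lit 67),
  (BT.node (nat_lit 27) (BT.node (nat_lit 13) (BT.node (nat_lit 6) (BT.node (nat_lit 3) (BT.node (nat_lit 1) (BT.leaf []) (BT.node (nat_lit 2) (BT.leaf [(nat_lit 1), (nat_lit 4)]) (BT.leaf []))) (BT.node (nat_lit 4) (BT.leaf [(nat_lit 2), (nat_lit 5), (nat_lit 5)]) (BT.node (nat_lit 5) (BT.leaf [(nat_lit 2)]) (BT.leaf [])))) (BT.node (nat_lit 9) (BT.node (nat_lit 7) (BT.leaf [(nat_lit 3), (nat_lit 6)]) (BT.node (nat_lit 8) (BT.leaf [(nat_lit 3), (nat_lit 5)]) (BT.leaf [(nat_lit 3), (nat_lit 4)]))) (BT.node (nat_lit 11) (BT.node (nat_lit 10) (BT.leaf []) (BT.leaf [(nat_lit 4), (nat_lit 8), (nat_lit 8)])) (BT.node (nat_lit 12) (BT.leaf [(nat_lit 4)]) (BT.leaf [(nat_lit 4), (nat_lit 9)]))))) (BT.node (nat_lit 20) (BT.node (nat_lit 16) (BT.node (nat_lit 14) (BT.leaf [(nat_lit 4), (nat_lit 7), (nat_lit 7)]) (BT.node (nat_lit 15) (BT.leaf []) (BT.leaf [(nat_lit 5), (nat_lit 7), (nat_lit 7), (nat_lit 9)]))) (BT.node (nat_lit 18) (BT.node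 (nat_lit 17) (BT.leaf [(nat_lit 5), (nat_lit 9)]) (BT.leaf [(nat_lit 5), (nat_lit 9)])) (BT.node (nat_lit 19) (BT.leaf [(nat_lit 5), (nat_lit 8)]) (BT.leaf [(nat_lit 5), (nat_lit 9)])))) (BT.node (nat_lit 23) (BT.node (nat_lit 21) (BT.leaf []) (BT.node (nat_lit 22) (BT.leaf [(nat_lit 6)]) (BT.leaf [(nat_lit 6), (nat_lit 7)]))) (BT.node (nat_lit 25) (BT.node (nat_lit 24) (BT.leaf [(nat_lit 6), (nat_lit 8), (nat_lit 9), (nat_lit 9)]) (BT.leaf [(nat_lit 6)])) (BT.node (nat_lit 26) (BT.leaf [(nat_lit 6)]) (BT.leaf [(nat_lit 6)])))))) (BT.node (nat_lit 41) (BT.node (nat_lit 34) (BT.node (nat_lit 30) (BT.node (nat_lit 28) (BT.leaf []) (BT.node (nat_lit 29) (BT.leaf [(nat_lit 7)]) (BT.leaf [(nat_lit 7), (nat_lit 9)]))) (BT.node (nat_lit 32) (BT.node (nat_lit 31) (BT.leaf [(nat_lit 7)]) (BT.leaf [(nat_lit 7)])) (BT.node (nat_lit 33) (BT.leaf [(nat_lit 7)]) (BT.leaf [(nat_lit 7)])))) (BT.node (nat_lit 37) (BT.node (nat_lit 35) (BT.leaf [(nat_lit 7)]) (BT.node (nat_lit 36) (BT.leaf []) (BT.leaf [(nat_lit 8)]))) (BT.node (nat_lit 39) (BT.node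 (nat_lit 38) (BT.leaf [(nat_lit 8)]) (BT.leaf [(nat_lit 8), (nat_lit 9)])) (BT.node (nat_lit 40) (BT.leaf [(nat_lit 8)]) (BT.leaf [(nat_lit 8)]))))) (BT.node (nat_lit 48) (BT.node (nat_lit 44) (BT.node (nat_lit 42) (BT.leaf [(nat_lit 8)]) (BT.node (nat_lit 43) (BT.leaf [(nat_lit 8)]) (BT.leaf [(nat_lit 8)]))) (BT.node (nat_lit 46) (BT.node (nat_lit 45) (BT.leaf []) (BT.leaf [(nat_lit 9)])) (BT.node (nat_lit 47) (BT.leaf [(nat_lit 9)]) (BT.leaf [(nat_lit 9)])))) (BT.node (nat_lit 51) (BT.node (nat_lit 49) (BT.leaf [(nat_lit 9)]) (BT.node (nat_lit 50) (BT.leaf [(nat_lit 9)]) (BT.leaf [(nat_lit 9)]))) (BT.node (nat_lit 53) (BT.node (nat_lit 52) (BT.leaf [(nat_lit 9)]) (BT.leaf [(nat_lit 9)])) (BT.node (nat_lit 54) (BT.leaf [(nat_lit 9)]) (BT.leaf []))))))),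
  [⟨(nat_lit 0), [(nat_lit 7)], [(nat_lit 7), (nat_lit 9)]⟩,
  ⟨(nat_lit 0), [(nat_lit 1)], [(nat_lit 1), (nat_lit 1), (nat_lit 4), (nat_lit 4), (nat_lit 5), (nat_lit 7), (nat_lit 7), (nat_lit 8), (nat_lit 9), (nat_lit 9)]⟩,
  ⟨(nat_lit 0), [(nat_lit 9)], [(nat_lit 9), (nat_lit 9)]⟩,
  ⟨(nat_lit 0), [(nat_lit 6)], [(nat_lit 6), (nat_lit 6), (nat_lit 7), (nat_lit 9), (nat_lit 9)]⟩,
  ⟨(nat_lit 0), [(nat_lit 3)], [(nat_lit 0), (nat_lit 3), (nat_lit 4), (nat_lit 5), (nat_lit 7), (nat_lit 8), (nat_lit 9), (nat_lit 9)]⟩,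
  ⟨(nat_lit 0), [(nat_lit 0)], [(nat_lit 0), (nat_lit 3), (nat_lit 3), (nat_lit 5), (nat_lit 7), (nat_lit 7), (nat_lit 8), (nat_lit 8)]⟩,
  ⟨(nat_lit 1), [(nat_lit 2)], [(nat_lit 1), (nat_lit 2), (nat_lit 2), (nat_lit 7), (nat_lit 8)]⟩,
  ⟨(nat_lit 1), [(nat_lit 1)], [(nat_lit 1), (nat_lit 1), (nat_lit 2), (nat_lit 2), (nat_lit 5), (nat_lit 8), (nat_lit 8), (nat_lit 9), (nat_lit 9)]⟩,
  ⟨(nat_lit 0), [(nat_lit 2)], [(nat_lit 2), (nat_lit 2), (nat_lit 4), (nat_lit 5), (nat_lit 5), (nat_lit 7), (nat_lit 7), (nat_lit 9), (nat_lit 9)]⟩,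
  ⟨(nat_lit 0), [(nat_lit 8)], [(nat_lit 8)]⟩,
  ⟨(nat_lit 0), [(nat_lit 4)], [(nat_lit 4), (nat_lit 4), (nat_lit 5), (nat_lit 5), (nat_lit 8), (nat_lit 9)]⟩,
  ⟨(nat_lit 0), [(nat_lit 5)], [(nat_lit 4), (nat_lit 5), (nat_lit 5), (nat_lit 7), (nat_lit 7), (nat_lit 8)]⟩]⟩

noncomputable def Xx3_0 : List Test := [⟨(nat_lit 0), [(nat_lit 3)], [(nat_lit 0), (nat_lit 0), (nat_lit 0)], (nat_lit 0x8000000000000000000000000000000000000000000000000000000000000008000000000000000000000000000000000000000000000000000000000000000000000000000000000000000)⟩,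
  ⟨(nat_lit 0), [(nat_lit 4)], [(nat_lit 2), (nat_lit 2), (nat_lit 2)], (nat_lit 0x8040000000000000000000000000000000000000000000000000000000000000000000000000000000000000000000000000000000000000000000000000000000000000000000000000000)⟩,
  ⟨(nat_lit 0), [(nat_lit 5)], [(nat_lit 3), (nat_lit 3), (nat_lit 3)], (nat_lit 0x8000000000000000000000001000000000000000000000000000000000000000000000000000000000000000000000000000000000000000000000000000000000000000000000000000000)⟩,
  ⟨(nat_lit 0), [(nat_lit 4)], [(nat_lit 2), (nat_lit 1)], (nat_lit 0x8000000000000000000040000000000000000000000000000000000000000000000000000000000000000000000000000000000000000000000000000000000000000000000000000000000)⟩,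
  ⟨(nat_lit 0), [(nat_lit 6)], [(nat_lit 4), (nat_lit 1)], (nat_lit 0x10000000000000000000000000000000000000000000000000002000000000000000000000000000000000000000000000000000000000000000000000000000000000000000000000000000)⟩,
  ⟨(nat_lit 0), [(nat_lit 7)], [(nat_lit 2), (nat_lit 1)], (nat_lit 0x10000000000000000010000000000000000000000000000000000000000000000000000000000000000000000000000000000000000000000000000000000000000000000000000000000000)⟩,
  ⟨(nat_lit 0), [(nat_lit 7)], [(nat_lit 4), (nat_lit 1)], (nat_lit 0x10000000000000400000000000000000000000000000000000000000000000000000000000000000000000000000000000000000000000000000000000000000000000000000000000000000)⟩,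
  ⟨(nat_lit 0), [(nat_lit 8)], [(nat_lit 7), (nat_lit 2)], (nat_lit 0x10000002000000000000000000000000000000000000000000000000000000000000000000000000000000000000000000000000000000000000000000000000000000000000000000000000)⟩,
  ⟨(nat_lit 0), [(nat_lit 6)], [(nat_lit 5), (nat_lit 3)], (nat_lit 0x8000000000000000000000000000040000000000000000000000000000000000000000000000000000000000000000000000000000000000000000000000000000000000000000000000000)⟩,
  ⟨(nat_lit 0), [(nat_lit 6)], [(nat_lit 5), (nat_lit 4)], (nat_lit 0x8000000008000000000000000000000000000000000000000000000000000000000000000000000000000000000000000000000000000000000000000000000000000000000000000000000)⟩,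
  ⟨(nat_lit 0), [(nat_lit 7)], [(nat_lit 3), (nat_lit 0)], (nat_lit 0x10000000000000000000000000000000000000000000000080000000000000000000000000000000000000000000000000000000000000000000000000000000000000000000000000000000)⟩,
  ⟨(nat_lit 0), [(nat_lit 7)], [(nat_lit 5), (nat_lit 3)], (nat_lit 0x8000000000000000000000000008000000000000000000000000000000000000000000000000000000000000000000000000000000000000000000000000000000000000000000000000000)⟩,
  ⟨(nat_lit 0), [(nat_lit 8)], [(nat_lit 1), (nat_lit 0)], (nat_lit 0x10000000000000000000000000000000002000000000000000000000000000000000000000000000000000000000000000000000000000000000000000000000000000000000000000000000)⟩,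
  ⟨(nat_lit 0), [(nat_lit 8)], [(nat_lit 3), (nat_lit 1)], (nat_lit 0x10000000000000000000000000000000400000000000000000000000000000000000000000000000000000000000000000000000000000000000000000000000000000000000000000000000)⟩,
  ⟨(nat_lit 0), [(nat_lit 8)], [(nat_lit 5), (nat_lit 1)], (nat_lit 0x8000200000000000000000000000000000000000000000000000000000000000000000000000000000000000000000000000000000000000000000000000000000000000000000000000000)⟩,
  ⟨(nat_lit 0), [(nat_lit 9)], [(nat_lit 3), (nat_lit 1)], (nat_lit 0x10000000000080000000000000000000000000000000000000000000000000000000000000000000000000000000000000000000000000000000000000000000000000000000000000000000)⟩,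
  ⟨(nat_lit 0), [(nat_lit 1), (nat_lit 1)], [(nat_lit 1), (nat_lit 0)], (nat_lit 0x10000000000000000000000000000000000000000000000000000000000000000000000000000000000000000000080000000000000000000000000000000000000000000000000000000000)⟩,
  ⟨(nat_lit 0), [(nat_lit 4)], [(nat_lit 3), (nat_lit 3), (nat_lit 3)], (nat_lit 0x10000000000000000000000000000000000000000000010000000000000000000000000000000000000000000000000000000000000000000000000000000000000000000000000000000000)⟩,
  ⟨(nat_lit 0), [(nat_lit 7)], [(nat_lit 2), (nat_lit 0)], (nat_lit 0x8000000000000000000000000000000000000000000000000200000000000000000000000000000000000000000000000000000000000000000000000000000000000000000000000000000)⟩,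
  ⟨(nat_lit 0), [(nat_lit 3)], [(nat_lit 1), (nat_lit 1), (nat_lit 1)], (nat_lit 0x8040000000040000000040000000000000000000000000000000000000000000000000000000001000000000000000000000000000000000000000000000000000000000000000000000000)⟩,
  ⟨(nat_lit 0), [(nat_lit 6)], [(nat_lit 1), (nat_lit 0)], (nat_lit 0x10000000000000000000000000000000000000000000000000002000000001000000400000000000000000000000000000000000000000000000000000000000000000000000000000000000)⟩,
  ⟨(nat_lit 0), [(nat_lit 6)], [(nat_lit 3), (nat_lit 1)], (nat_lit 0x10000000000000000000000000000000000000000000000000400010000000000080000000000000000000000000000000000000000000000000000000000000000000000000000000000000)⟩,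
  ⟨(nat_lit 0), [(nat_lit 7)], [(nat_lit 1), (nat_lit 0)], (nat_lit 0x10000000000000400000000200000000000000000000000000002000000000000000000000000000000000000000000000000000000000000000000000000000000000000000000000000000)⟩,
  ⟨(nat_lit 0), [(nat_lit 7)], [(nat_lit 3), (nat_lit 1)], (nat_lit 0x10000000000080002000000000000000000000000000000000400000000000000000000000000000000000000000000000000000000000000000000000000000000000000000000000000000)⟩,
  ⟨(nat_lit 0), [(nat_lit 3)], [(nat_lit 2), (nat_lit 1)], (nat_lit 0x10000000000000000000000000000000000000000000000000000000000000000000000000000000008000400000000000008000000000000000000000000000000000000000000000000000)⟩,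
  ⟨(nat_lit 0), [(nat_lit 4)], [(nat_lit 1), (nat_lit 0)], (nat_lit 0x8000000000000000000000000000000001000000200000000000000000000000000000000000000000000000000000000000000000000000000000000000000000000000000000000000000)⟩,
  ⟨(nat_lit 0), [(nat_lit 3), (nat_lit 3)], [(nat_lit 3), (nat_lit 1)], (nat_lit 0x10000000000000000000000002000000200010000000000000000000000000000000000000000002000000000000000000000000000000000000000000000000000000000000000000000000)⟩,
  ⟨(nat_lit 0), [(nat_lit 1)], [(nat_lit 0), (nat_lit 0), (nat_lit 0)], (nat_lit 0x10000000000000000000000002000000002000000002000000000000000000000000000000000000000000000000040000000000000000000000000000000000000000000000000000000000)⟩,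
  ⟨(nat_lit 0), [(nat_lit 6)], [(nat_lit 2), (nat_lit 1)], (nat_lit 0x10000001000000000000080000010000000000000200000000000000080000000000000000000000000000000000000000000000000000000000000000000000000000000000000000000000)⟩,
  ⟨(nat_lit 0), [(nat_lit 5)], [(nat_lit 3), (nat_lit 2)], (nat_lit 0x10000000000000402000000000000000002000040000000000000000000000000000000000000000010000000000000000000000000000000000000000000000000000000000000000000000)⟩,
  ⟨(nat_lit 0), [(nat_lit 6)], [(nat_lit 3), (nat_lit 2)], (nat_lit 0x10000000000000201000000000000000002010000000000000000000000000000000400000000000000000000000000000000000000000000000000000000000000000000000000000000000)⟩,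
  ⟨(nat_lit 0), [(nat_lit 3), (nat_lit 3)], [(nat_lit 3), (nat_lit 2)], (nat_lit 0x10000000000000000000000000000000000000000000008000002008000000000000000000000000000000000000080000000000000000000000000000000000000000000000000000000000)⟩,
  ⟨(nat_lit 0), [(nat_lit 4)], [(nat_lit 3), (nat_lit 1)], (nat_lit 0x10040000000000000000000000000000000000000000000000200000000400000000000000000000008000000000000000000000000000000000000000000000000000000000000000000000)⟩,
  ⟨(nat_lit 0), [(nat_lit 2)], [(nat_lit 1), (nat_lit 0)], (nat_lit 0x10080000000000200000000000000000000000000000000000000000000000000000000000000000008000001000000001000000000000000000000000000000000000000000000000000000)⟩,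
  ⟨(nat_lit 1), [(nat_lit 0), (nat_lit 1)], [(nat_lit 1), (nat_lit 0), (nat_lit 2)], (nat_lit 0x10000001000000000000000000010000000000000000000000202000000200000000000000000000000000000000000000000000000000000000000000000000000000000000000000080000)⟩,
  ⟨(nat_lit 0), [(nat_lit 3)], [(nat_lit 1), (nat_lit 0)], (nat_lit 0x10000002010000000000000000000000000000000000008080402000000000000040400000080000010000000008000200000000000000000000000000000000000000000000000000000000)⟩,
  ⟨(nat_lit 0), [(nat_lit 3)], [(nat_lit 2), (nat_lit 0)], (nat_lit 0x10000400010000000000000001000080402000000000000000000000000000000040200010000000010080000000000000000040000000000000000000000000000000000000000000000000)⟩,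
  ⟨(nat_lit 1), [(nat_lit 3), (nat_lit 4)], [(nat_lit 4), (nat_lit 3)], (nat_lit 0x10000400010080402000000400010040000000000000000040201008000001000080401000000400000000000000000000000000000000000000000000000000000000000000000000000000)⟩,
  ⟨(nat_lit 1), [(nat_lit 3), (nat_lit 5)], [(nat_lit 5), (nat_lit 3)], (nat_lit 0x10000201000080001000000400008080000000000000000080200010000001000080001000000200000000000000000000000000000000000000000000000000000000000000000000000000)⟩,
  ⟨(nat_lit 1), [(nat_lit 3), (nat_lit 1)], [(nat_lit 1), (nat_lit 3), (nat_lit 0)], (nat_lit 0x10000000010000000000080000008040000000000000008040401000000200000080200000000000000000000000000000000000000000000000000000000000000000000000000000000002)⟩,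
  ⟨(nat_lit 2), [(nat_lit 6), (nat_lit 7)], [(nat_lit 7), (nat_lit 6)], (nat_lit 0x10080400000040000010080000008000200000040000000000200000080400000000000000000000000000202000000000000000000000000001000000000000000000000000000000000000)⟩,
  ⟨(nat_lit 1), [(nat_lit 3), (nat_lit 8)], [(nat_lit 8), (nat_lit 3), (nat_lit 9), (nat_lit 2), (nat_lit 2)], (nat_lit 0x10080000000000000010000001000080401000080000000080401000080000000040400000000000000000000000000000000000000000000000000000000000000400000000000000040000)⟩,
  ⟨(nat_lit 1), [(nat_lit 10), (nat_lit 1)], [(nat_lit 1), (nat_lit 10)], (nat_lit 0x10080402000080200000040000010000400000000400000000402000000000000000000000000000010000001000000000000000000000000000000000000000000000000000000000000000)⟩,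
  ⟨(nat_lit 1), [(nat_lit 8), (nat_lit 8), (nat_lit 8)], [], (nat_lit 0x10040000000000200008000000000000000000000000010000000000000000000000000000000002000000000000040000000000000000000200000000000000000000000000000000000000)⟩,
  ⟨(nat_lit 1), [(nat_lit 10), (nat_lit 8)], [(nat_lit 8), (nat_lit 10), (nat_lit 2)], (nat_lit 0x10080200000080200008000000010000401000080000000000402000000000000000000000000000008000200000000000000000000000000000000000000000000000000000000000080000)⟩,
  ⟨(nat_lit 1), [(nat_lit 5), (nat_lit 5), (nat_lit 5)], [], (nat_lit 0x10040200008080002000000201008040200008000002008080200008000002008000002000000401000000000000000000000000400000000000000000000000000000000000000000000000)⟩,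
  ⟨(nat_lit 1), [(nat_lit 11), (nat_lit 4)], [(nat_lit 4), (nat_lit 11), (nat_lit 9)], (nat_lit 0x10040001000000002000000001000000401000000001010000001000000002000000000000000000008040000010000200000040000000000000000000000000000400000000000000000000)⟩,
  ⟨(nat_lit 1), [(nat_lit 10), (nat_lit 4)], [(nat_lit 4), (nat_lit 10), (nat_lit 0), (nat_lit 0)], (nat_lit 0x10000001000080200000000202000000401010000001010000202008000000000000000000000000000080000010000200000080000000000000000000000000000000000000000000000001)⟩,
  ⟨(nat_lit 1), [(nat_lit 4), (nat_lit 1)], [(nat_lit 1), (nat_lit 4), (nat_lit 11)], (nat_lit 0x10040202000040000000040201008000202008000402008000001010000401000000000000000000010080000010080400008040000008000000000000200010000000000000000000000000)⟩,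
  ⟨(nat_lit 1), [(nat_lit 1), (nat_lit 1), (nat_lit 1)], [], (nat_lit 0x10080001000000200000040001000000000000000000010000000000000000000000000000000001000000000000080000000000000000000000000040000000000000000000000000000000)⟩,
  ⟨(nat_lit 1), [(nat_lit 4), (nat_lit 8)], [(nat_lit 8), (nat_lit 4), (nat_lit 10)], (nat_lit 0x10000001000000002008000202000000402008080000008000202000080001000000000000000001008000000008000400000080001000000000008000000000080000000000000000000000)⟩,
  ⟨(nat_lit 1), [(nat_lit 4), (nat_lit 4), (nat_lit 4)], [], (nat_lit 0x10040002000040402000000401000080402000000000010000200008000001008000002000000201000000000000040000000000000000000000000000001000000000000000000000000000)⟩,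
  ⟨(nat_lit 1), [(nat_lit 1), (nat_lit 5)], [(nat_lit 5), (nat_lit 1), (nat_lit 10)], (nat_lit 0x10000202000000400000000401008000002010000201010000400008000402000000000000000001010000002008000400008080000010000000000000200000080000000000000000000000)⟩,
  ⟨(nat_lit 1), [(nat_lit 8), (nat_lit 5)], [(nat_lit 5), (nat_lit 8), (nat_lit 11), (nat_lit 11)], (nat_lit 0x10040401000040202000000400010000202008080000000000401010000002000000000000000000008000000010040001000040002000000000008000000008000000000000000000000000)⟩]

noncomputable def cx3 : Cert := ⟨Px3, (nat_lit 0), Xx3_0,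
  [],
  [(nat_lit 0),
  (nat_lit 0),
  (nat_lit 0),
  (nat_lit 0),
  (nat_lit 0x8000000000000000000000000000000000000000000000000000000000000000000000000000000000000000000000000000000000000000000000000200000000000000000000000000000),
  (nat_lit 0x10000000000000000000000000000000000000000000000000000000000000000000000000000000000000000000000000000000000000000000010000000000000000000000000000000000),
  (nat_lit 0x8000000000000000000000000000000000000000000000000000000000000000000000000000000000000000000000000000000000000040000000000000000000000000000000000000000),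
  (nat_lit 0x10000000000000000000000000000000000000000000000000000000000000000000000000000000000000000000000400000000000000000000000000000000000000000000000000000000),
  (nat_lit 0x10000000000000000000000000000000000000000000000000000000000000000000000000000000000000000000000000000080000000000000000000000000000000000000000000000000),
  (nat_lit 0x8000000000000000000000000000000000000000000000000000000000000000000000000000000000000000000000001000000000000000000000000000000000000000000000000000000)],
  (BT.node (nat_lit 27) (BT.node (nat_lit 13) (BT.node (nat_lit 6) (BT.node (nat_lit 3) (BT.node (nat_lit 1) (BT.leaf (nat_lit 0x39020042611bb7cdca9c8)) (BT.node (nat_lit 2) (BT.leaf (nat_lit 0)) (BT.leaf (nat_lit 0x6558e2a0922030ce5ca4)))) (BT.node (nat_lit 4) (BT.leaf (nat_lit 0)) (BT.node (nat_lit 5) (BT.leaf (nat_lit 0x42915636884017e324)) (BT.leaf (nat_lit 0x2396f6095545d27f80))))) (BT.node (nat_lit 9) (BT.node (nat_lit 7) (BT.leaf (nat_lit 0)) (BT.node (nat_lit 8) (BT.leaf (nat_lit 0x1b63bda60bdeef50277d42)) (BT.leaf (nat_lit 0x2b7f80d54958b49036a97d))))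 (BT.node (nat_lit 11) (BT.node (nat_lit 10) (BT.leaf (nat_lit 0xa03a16ce362d933ca2)) (BT.leaf (nat_lit 0))) (BT.node (nat_lit 12) (BT.leaf (nat_lit 0x6ac5246e8ce4f79628)) (BT.leaf (nat_lit 0)))))) (BT.node (nat_lit 20) (BT.node (nat_lit 16) (BT.node (nat_lit 14) (BT.leaf (nat_lit 0)) (BT.node (nat_lit 15) (BT.leaf (nat_lit 43046721)) (BT.leaf (nat_lit 0xf11f7bec76b41c98781)))) (BT.node (nat_lit 18) (BT.node (nat_lit 17) (BT.leaf (nat_lit 0x5ee9217987822101f)) (BT.leaf (nat_lit 0x76a234dd4a61abe9cc))) (BT.node (nat_lit 19) (BT.leaf (nat_lit 0xd279f2323ca82b1297b)) (BT.leaf (nat_lit 0xbdd106f41470f6bac))))) (BT.node (nat_lit 23) (BT.node (nat_lit 21) (BT.leaf (nat_lit 2353220778)) (BT.node (nat_lit 22) (BT.leaf (nat_lit 0x1f43c98ecce0738d)) (BT.leaf (nat_lit 0xf061b618baf84ff25a4)))) (BT.node (nat_lit 25) (BT.node (nat_lit 24) (BT.leaf (nat_lit 0x96a714c8407a77774b8)) (BT.leaf (nat_lit 0x1901dd1da0f63413))) (BT.node (nat_lit 26) (BT.leaf (nat_lit 0xbff7f7ef2ed1)) (BT.leaf (nat_lit 0x231c7dec7830e))))))) (BT.node (nat_lit 41) (BT.node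 (nat_lit 34) (BT.node (nat_lit 30) (BT.node (nat_lit 28) (BT.leaf (nat_lit 2)) (BT.node (nat_lit 29) (BT.leaf (nat_lit 0xbff997976644)) (BT.leaf (nat_lit 0xbdd170491121618ea)))) (BT.node (nat_lit 32) (BT.node (nat_lit 31) (BT.leaf (nat_lit 0x1658f7d5c8fa)) (BT.leaf (nat_lit 0x4638aa8b4b76e))) (BT.node (nat_lit 33) (BT.leaf (nat_lit 81)) (BT.leaf (nat_lit 774840978))))) (BT.node (nat_lit 37) (BT.node (nat_lit 35) (BT.leaf (nat_lit 59049)) (BT.node (nat_lit 36) (BT.leaf (nat_lit 129140163)) (BT.leaf (nat_lit 0x6ef7ba88ee7)))) (BT.node (nat_lit 39) (BT.node (nat_lit 38) (BT.leaf (nat_lit 0x18a8cbc8d28)) (BT.leaf (nat_lit 0xbdd10ec2d85db0517))) (BT.node (nat_lit 40) (BT.leaf (nat_lit 0x250193c7a47)) (BT.leaf (nat_lit 531441)))))) (BT.node (nat_lit 48) (BT.node (nat_lit 44) (BT.node (nat_lit 42) (BT.leaf (nat_lit 1594323)) (BT.node (nat_lit 43) (BT.leaf (nat_lit 13122)) (BT.leaf (nat_lit 354294)))) (BT.node (nat_lit 46) (BT.node (nat_lit 45) (BT.leaf (nat_lit 18)) (BT.leaf (nat_lit 0xe9ce9f35c))) (BT.node (nat_lit 47) (BT.leaf (nat_lit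 54)) (BT.leaf (nat_lit 243))))) (BT.node (nat_lit 51) (BT.node (nat_lit 49) (BT.leaf (nat_lit 0x16042c5e6a)) (BT.node (nat_lit 50) (BT.leaf (nat_lit 729)) (BT.leaf (nat_lit 14348907)))) (BT.node (nat_lit 53) (BT.node (nat_lit 52) (BT.leaf (nat_lit 39366)) (BT.leaf (nat_lit 2187))) (BT.node (nat_lit 54) (BT.leaf (nat_lit 9565938)) (BT.leaf (nat_lit 6))))))))⟩

theorem okx3 : cx3.OK := Cert.ok_of_check (by decide) (by decide +kernel)


noncomputable def Lx3 : List Lvl := [⟨(nat_lit 0), [[(nat_lit 3), (nat_lit 15), (nat_lit 19), (nat_lit 19)],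
  [(nat_lit 3), (nat_lit 15), (nat_lit 19), (nat_lit 19)],
  [(nat_lit 5), (nat_lit 11), (nat_lit 11), (nat_lit 15), (nat_lit 15), (nat_lit 17), (nat_lit 17), (nat_lit 19)],
  [(nat_lit 5), (nat_lit 11), (nat_lit 11), (nat_lit 15), (nat_lit 15), (nat_lit 17), (nat_lit 17), (nat_lit 19)],
  [(nat_lit 9)],
  [(nat_lit 9)],
  [(nat_lit 11)],
  [(nat_lit 11)],
  [(nat_lit 15)],
  [(nat_lit 15)],
  [(nat_lit 17)],
  [(nat_lit 17)],
  [(nat_lit 19)],
  [(nat_lit 19)]], (nat_lit 1)⟩,
  ⟨(nat_lit 1), [[(nat_lit 1), (nat_lit 11), (nat_lit 15), (nat_lit 15), (nat_lit 19)],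
  [(nat_lit 1), (nat_lit 11), (nat_lit 15), (nat_lit 15), (nat_lit 19)],
  [(nat_lit 7), (nat_lit 9), (nat_lit 11), (nat_lit 11), (nat_lit 15), (nat_lit 19), (nat_lit 19)],
  [(nat_lit 7), (nat_lit 9), (nat_lit 11), (nat_lit 11), (nat_lit 15), (nat_lit 19), (nat_lit 19)],
  [(nat_lit 13), (nat_lit 15), (nat_lit 17), (nat_lit 19)],
  [(nat_lit 13), (nat_lit 15), (nat_lit 17), (nat_lit 19)]], (nat_lit 1)⟩]


noncomputable def gx3 : List (List Nat) := [[(nat_lit 21)],
  [(nat_lit 23)]]

theorem hx3_0 : allFrom (relRow (sameW Nx3 2440 12) 0 Px3) 0 10 = true := by decide +kernel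

theorem hx3 : ∀ j < 10, relRow (sameW Nx3 2440 12) 0 Px3 j = true := by
  have h : ∀ j < 0, relRow (sameW Nx3 2440 12) 0 Px3 j = true := by simp
  have h := forall_lt_add h (allFrom_iff.1 hx3_0)
  exact h

theorem px3 : lall (prAt (sameW Nx3 2440 12) 0 gx3) Px3.prs = true := by decide +kernel

theorem lx3 : lowOK Nx3 2440 0 Px3 Lx3 = true := by decide +kernel

theorem pbdx3 (mdl : Mdl D (lapp U0 U1) f H bs) (card : Nat.card H = 258190571520) : PBd H 3 1 :=
  have h := (mdl.new (k := 12) (l := 12) (by decide) wx3 (by decide +kernel) (by decide +kernel) qx3)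
  h.pbd (h.sameW (k := 12) (by decide)) okx3 (gs := gx3) hx3 px3 lx3 card (by decide) rfl rfl

theorem mult (mdl : Mdl D (lapp U0 U1) f H bs) (card : Nat.card H = 258190571520) : Nat.card (Mult H) ≤ 1 :=
  card_mult_le (b := 61) (k := 11) card [(2, 1), (3, 1)] (by decide +kernel) (by
    simp only [List.mem_cons, List.not_mem_nil, or_false, forall_eq_or_imp, forall_eq]
    exact ⟨⟨by decide, pbdx2 mdl card⟩, ⟨by decide, pbdx3 mdl card⟩⟩)

theorem schur_of {K : Type*} [Group K] (h : HasReps K 2440 U0 2) (hc : Nat.card K = 258190571520) :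
    HasCyclicSchurMultiplier K 1 :=
  schur_of_reps chU h hc (by decide) fun mdl card => trivial_of_mult_le (mult mdl card)

end CF.BN.U53
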